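import Mathlib
import Cfsg.Agent.S1378
import Cfsg.Agent.Lib.Helper02.BG1310Defs
import Cfsg.Agent.Lib.Helper15.BG139Glue

/-!
# K-LD2-IIb3 (keystone 143107, architect helper2): `sigmaCore_inf_le_E3`

Lemma D (BG 13.10): `H_σ ⊓ M ≤ E₃` when `p = |E₁| ∉ σ(H)`, `E ≤ H`, `M_σ ⊓ H = C₃`.
-/

set_option autoImplicit false

namespace Cfsg.Agent.Lib.Helper47.BG1310

open Cfsg Cfsg.Agent.Lib.Helper55 Cfsg.Agent.Lib.Helper31.BG134 Cfsg.Agent.Lib.Helper15.BG139
  Cfsg.Agent.Lib.Helper02.BG1310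

variable {G : Type*} [Group G] [Finite G]

/-- the orders of `M_σ` and `H_σ` are coprime when `H` is not conjugate to `M` -/
theorem coprime_sigmaCore_of_not_conj (hG : IsMinSimpleOddOrder G) {M H : Subgroup G}
    (hM : IsCoatom M) (hH : IsCoatom H) (hnc : ∀ g : G, cj g M ≠ H) :
    (Nat.card (sigmaCore M)).Coprime (Nat.card (sigmaCore H)) := by
  apply Nat.coprime_of_dvd
  intro r hr h1 h2
  have hrM : r ∈ sigma M := Cfsg.Agent.Lib.Helper71.BG11.sigmaCore_pi hG hM hr h1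
  have hrH : r ∈ sigma H := Cfsg.Agent.Lib.Helper71.BG11.sigmaCore_pi hG hH hr h2
  obtain ⟨g, hg⟩ := (Cfsg.Agent.S1378.result hG).2 M H hM hH ⟨r, hrM, hrH⟩
  exact hnc g hg.symm

set_option linter.unusedVariables false in
theorem sigmaCore_inf_le_E3 {M E E₁ E₃ H : Subgroup G} (d : NRS M E E₁ E₃)
    (hp : (Nat.card E₁).Prime)
    (hH : IsCoatom H) (hnc : ∀ g : G, cj g M ≠ H) (hEH : E ≤ H)
    (hMH : sigmaCore M ⊓ H = CP M E₃) (hpH : Nat.card E₁ ∉ sigma H) :
    sigmaCore H ⊓ M ≤ E₃ := by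
  have hG := d.nr.hG
  have hM := d.nr.hM
  have hE := d.nr.hE
  have hcop := coprime_sigmaCore_of_not_conj hG hM hH hnc
  have hσM : sigmaCore M ≤ M := Cfsg.Agent.Lib.Helper71.BG11.sigmaCore_le M
  have hσH : sigmaCore H ≤ H := Cfsg.Agent.Lib.Helper71.BG11.sigmaCore_le H
  have hMn := Cfsg.Agent.Lib.Helper71.BG11.le_normalizer_sigmaCore M
  have hHn := Cfsg.Agent.Lib.Helper71.BG11.le_normalizer_sigmaCore H
  have hHallM := (Cfsg.Agent.S1350.result hG M hM).1
  intro x hx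
  obtain ⟨hxH, hxM⟩ := Subgroup.mem_inf.1 hx
  -- decomposition `x = e * a`
  obtain ⟨e, he, a, ha, hxea⟩ := hE.2.2.2 x hxM
  have haH : a ∈ H := by
    have : a = e⁻¹ * x := by rw [hxea]; group
    rw [this]
    exact H.mul_mem (H.inv_mem (hEH he)) (hσH hxH)
  -- `x` commutes with `a`
  have hcomm : x * a = a * x := by
    have h1 : x * a * x⁻¹ * a⁻¹ ∈ sigmaCore M := by
      have hxa : x * a * x⁻¹ ∈ sigmaCore M :=
        (Subgroup.mem_normalizer_iff.1 (hMn hxM) a).1 ha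
      exact (sigmaCore M).mul_mem hxa ((sigmaCore M).inv_mem ha)
    have h2 : x * a * x⁻¹ * a⁻¹ ∈ sigmaCore H := by
      have hax : a * x⁻¹ * a⁻¹ ∈ sigmaCore H :=
        (Subgroup.mem_normalizer_iff.1 (hHn haH) x⁻¹).1 ((sigmaCore H).inv_mem hxH)
      have : x * a * x⁻¹ * a⁻¹ = x * (a * x⁻¹ * a⁻¹) := by group
      rw [this]
      exact (sigmaCore H).mul_mem hxH hax
    have h3 : x * a * x⁻¹ * a⁻¹ = 1 := by
      have ho1 : orderOf (x * a * x⁻¹ * a⁻¹) ∣ Nat.card (sigmaCore M) := by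
        have := orderOf_dvd_natCard (⟨_, h1⟩ : sigmaCore M)
        rwa [Subgroup.orderOf_mk] at this
      have ho2 : orderOf (x * a * x⁻¹ * a⁻¹) ∣ Nat.card (sigmaCore H) := by
        have := orderOf_dvd_natCard (⟨_, h2⟩ : sigmaCore H)
        rwa [Subgroup.orderOf_mk] at this
      have := Nat.eq_one_of_dvd_coprimes hcop ho1 ho2
      exact orderOf_eq_one_iff.1 this
    have : x * a = (x * a * x⁻¹ * a⁻¹) * (a * x) := by group
    rw [this, h3, one_mul]
  -- `x ∈ E`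
  have hxE : x ∈ E := by
    set n := orderOf a with hn
    have hea : e = x * a⁻¹ := by rw [hxea]; group
    have hcomm' : Commute x a⁻¹ := (Commute.inv_right (show Commute x a from hcomm))
    have hen : e ^ n = x ^ n := by
      rw [hea, hcomm'.mul_pow, inv_pow, hn, pow_orderOf_eq_one, inv_one, mul_one]
    have hna : n ∣ Nat.card (sigmaCore M) := by
      have := orderOf_dvd_natCard (⟨a, ha⟩ : sigmaCore M)
      rwa [Subgroup.orderOf_mk] at this
    have hox : orderOf x ∣ Nat.card (sigmaCore H) := by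
      have := orderOf_dvd_natCard (⟨x, hxH⟩ : sigmaCore H)
      rwa [Subgroup.orderOf_mk] at this
    have hcop' : n.Coprime (orderOf x) :=
      Nat.Coprime.coprime_dvd_left hna (Nat.Coprime.coprime_dvd_right hox hcop)
    obtain ⟨m, hm⟩ := exists_pow_eq_self_of_coprime hcop'
    rw [← hm, ← hen]
    exact E.pow_mem (E.pow_mem he n) m
  -- `x ∈ E₃` by the Hall property
  have hZ : ∀ r : ℕ, r.Prime → r ∣ Nat.card (Subgroup.zpowers x) → r ∈ tau3 M := by
    intro r hr hrd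
    rw [Nat.card_zpowers] at hrd
    have hrE : r ∣ Nat.card E := by
      have := orderOf_dvd_natCard (⟨x, hxE⟩ : E)
      rw [Subgroup.orderOf_mk] at this
      exact hrd.trans this
    have hrσM : r ∉ sigma M :=
      Cfsg.Agent.Lib.Helper13.BG12.complIn_prime_not_mem_sigma hHallM hE r hr hrE
    have hrM : r ∣ Nat.card M := hrE.trans (Subgroup.card_dvd_of_le hE.1)
    have hrσH : r ∈ sigma H := by
      apply Cfsg.Agent.Lib.Helper71.BG11.sigmaCore_pi hG hH hr
      have := orderOf_dvd_natCard (⟨x, hxH⟩ : sigmaCore H)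
      rw [Subgroup.orderOf_mk] at this
      exact hrd.trans this
    rcases Cfsg.Agent.Lib.Helper16.BG134.mem_tau_cases hG hM hr hrM hrσM with h | h | h
    · exfalso
      have h1 : r ∣ Nat.card E₁ := tau1_dvd_card hG hM hE d.nr.hE₁ h
      have h2 : r = Nat.card E₁ := (Nat.prime_dvd_prime_iff_eq hr hp).1 h1
      rw [h2] at hrσH
      exact hpH hrσH
    · exact absurd h (d.hτ2 r)
    · exact h
  have hle : Subgroup.zpowers x ≤ E₃ :=
    Cfsg.Agent.Lib.Helper71.BG10.le_of_isPiHallOf_normal d.nr.hE₃ d.hE₃n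
      (by rw [Subgroup.zpowers_le]; exact hxE) hZ
  exact hle (Subgroup.mem_zpowers x)

end Cfsg.Agent.Lib.Helper47.BG1310
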