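import Cfsg.Agent.Lib.Helper47.BG139S7
import Cfsg.Agent.Lib.Helper15.BG139Defs
import Cfsg.Agent.S1415

/-!
# BG Theorem 13.9 (S1378), keystone 137806 L7 `primeAct` (parallel hand, exact shape of the spec)

`h28` is not used: `prime_action_tau1` cites the landed `S1428.result` directly.
-/

set_option autoImplicit false

namespace Cfsg.Agent.Lib.Helper47.BG139

open Cfsg Cfsg.Agent.Lib.Helper55 Cfsg.Agent.Lib.Helper31.BG134 Cfsg.Agent.Lib.Helper15.BG139

variable {G : Type*} [Group G] [Finite G]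

set_option linter.unusedVariables false in
/-- KEYSTONE 137806  K-S1378-L7  (step 7 = BG 13.5, GENERAL: no `Cfg`). -/
theorem primeAct (hG : IsMinSimpleOddOrder G) {M E E₁ : Subgroup G} (hM : IsCoatom M)
    (h28 : H1428 G) (hE : IsComplIn E (sigmaCore M) M) (hE₁ : IsPiHallOf (tau1 M) E₁ E) :
    PrimeAct M E₁ := by
  have hE₁c : IsCyclic ↥E₁ := (Cfsg.Agent.S1415.result hG M hM E hE).2.1 E₁ hE₁
  intro x hx hx1
  rw [prime_action_tau1 hG hM hE hE₁ hE₁c x hx hx1]
  exact inf_le_right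

/-- the strong form: equality `C_{M_σ}(x) = C_{M_σ}(E₁)` -/
theorem primeAct_eq (hG : IsMinSimpleOddOrder G) {M E E₁ : Subgroup G} (hM : IsCoatom M)
    (hE : IsComplIn E (sigmaCore M) M) (hE₁ : IsPiHallOf (tau1 M) E₁ E) :
    ∀ x ∈ E₁, x ≠ 1 → sigmaCore M ⊓ Subgroup.centralizer ({x} : Set G) =
      sigmaCore M ⊓ Subgroup.centralizer (E₁ : Set G) :=
  prime_action_tau1 hG hM hE hE₁ ((Cfsg.Agent.S1415.result hG M hM E hE).2.1 E₁ hE₁)

end Cfsg.Agent.Lib.Helper47.BG139
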