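import Mathlib
import Cfsg.Agent.S1378
import Cfsg.Agent.S1409
import Cfsg.Agent.Lib.Helper31.BG137Defs
import Cfsg.Agent.Lib.Helper01.BG134CJ

/-!
# K-137N-H2 (keystone 137710, architect helper31): `LCfg.not_sigma_H`

BG 13.7, step (i), second part: for a maximal subgroup `H ≥ N_G(P)`, `q ∉ σ(H)`.
-/

set_option autoImplicit false

namespace Cfsg.Agent.Lib.Helper47.BG137

open Cfsg Cfsg.Agent.Lib.Helper55 Cfsg.Agent.Lib.Helper31.BG137 Cfsg.Agent.Lib.Helper15.BG139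

variable {G : Type*} [Group G] [Finite G]

theorem LCfg.not_sigma_H {M E P A L H : Subgroup G} {p q : ℕ} (l : LCfg M E P A L p q)
    (hp1L : p ∈ tau1 L) (hH : IsCoatom H) (hNP : Subgroup.normalizer (P : Set G) ≤ H) :
    q ∉ sigma H := by
  intro hqH
  have hG := l.c.hG
  have hpp : Fact p.Prime := ⟨hp1L.1⟩
  obtain ⟨g, hg⟩ := (Cfsg.Agent.S1378.result hG).2 L H l.hL hH ⟨q, l.hqL, hqH⟩
  have hcj : H = cj g L := hg
  have hpσH : p ∉ sigma H := by
    rw [hcj, Cfsg.Agent.Lib.Helper01.BG134.mem_sigma_cj_iff]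
    exact hp1L.2.1
  have h9 := (Cfsg.Agent.S1409.result hG H hH p hpσH P l.c.hP hNP).1.2
  apply h9
  rw [hcj, Cfsg.Agent.Lib.Helper01.BG134.pRankLE_cj_iff]
  exact hp1L.2.2.2.2

end Cfsg.Agent.Lib.Helper47.BG137
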