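import Mathlib
import Cfsg.Agent.S1351
import Cfsg.Agent.S1352
import Cfsg.Agent.S1365
import Cfsg.Agent.S1439
import Cfsg.Agent.Lib.Helper57.BG142D4
import Cfsg.Agent.Lib.Helper32.CarterBasic
import Cfsg.Agent.Lib.Helper20.SylowNormal
import Cfsg.Agent.Lib.Helper01.Commutator

set_option autoImplicit false

/-!
# Keystone 135609 (K-152-L3, pack of helper12 for S1356): `κ(M) ≠ ∅ ⇒ F(M) ≤ M'`

`F(M) = F(M_σ) Y` with `Y = O_{σ'}(F(M))` a `τ₂(M)`-group (S1439); `M' = U M_σ` (S1365) has index dividing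
`|K|`, a `κ(M)`-number, and `κ(M) ∩ τ₂(M) = ∅`, so `Y ≤ M'`.
-/

namespace Cfsg.Agent.Lib.Helper47.BG152

open Cfsg

/-- K-152-L3 -/
theorem fittingOf_le_derived {G : Type*} [Group G] [Finite G]
    (hG : IsMinSimpleOddOrder G) {M : Subgroup G} (hM : IsCoatom M)
    (hk : (kappa M).Nonempty) : fittingOf M ≤ ⁅M, M⁆ := by
  obtain ⟨p, hp⟩ := hk
  obtain ⟨⟨K, hK⟩, hKcyc⟩ := Cfsg.Agent.S1351.result hG M hM
  have hKc : IsCyclic K := hKcyc K hK
  have hK1 : K ≠ ⊥ := by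
    rintro rfl
    have h1 := hK.2.2 p hp.1 hp
    rw [Subgroup.relIndex_bot_left] at h1
    exact h1 hp.2.1
  obtain ⟨⟨U, hKU⟩, _⟩ := Cfsg.Agent.S1352.result hG M hM K hKc hK
  have hD : ⁅M, M⁆ = U ⊔ sigmaCore M := (Cfsg.Agent.S1365.result hG M hM K U hKU hK1).1
  obtain ⟨_, hτ2, hF⟩ := Cfsg.Agent.S1439.result hG M hM
  rw [hF]
  refine sup_le ?_ ?_
  · calc fittingOf (sigmaCore M) ≤ sigmaCore M := Subgroup.map_subtype_le _
      _ ≤ U ⊔ sigmaCore M := le_sup_right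
      _ = ⁅M, M⁆ := hD.symm
  · have hYM : piCoreOf {q | q.Prime ∧ q ∉ sigma M} (fittingOf M) ≤ M :=
      (Subgroup.map_subtype_le _).trans (Subgroup.map_subtype_le _)
    have hMN : M ≤ Subgroup.normalizer ((⁅M, M⁆ : Subgroup G) : Set G) :=
      Cfsg.Agent.Lib.Helper01.le_normalizer_commutator_left M M
    refine Cfsg.Agent.Lib.Helper32.le_of_coprime_relIndex hYM hMN ?_
    -- the index of `M'` in `M` divides `|K|`
    have hsup : K ⊔ ⁅M, M⁆ = M := by
      apply le_antisymm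
      · exact sup_le hK.1 (Subgroup.commutator_le_self M)
      · intro m hm
        obtain ⟨u, hu, b, hb, rfl⟩ := hKU.compl.2.2.2 m hm
        refine Subgroup.mul_mem _ ?_ ?_
        · exact Subgroup.mem_sup_right (hD ▸ Subgroup.mem_sup_left hu)
        · have hle : K ⊔ sigmaCore M ≤ K ⊔ ⁅M, M⁆ :=
            sup_le_sup_left (hD ▸ le_sup_right) K
          exact hle hb
    have hdvd : (⁅M, M⁆ : Subgroup G).relIndex M ∣ Nat.card K := by
      have h1 := Cfsg.Agent.Lib.Helper20.relIndex_sup_right_of_le_normalizer K ⁅M, M⁆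
        (hK.1.trans hMN)
      rw [hsup] at h1
      rw [h1]
      exact Subgroup.relIndex_dvd_card _ _
    by_contra hnc
    obtain ⟨r, hr, hrY, hrI⟩ := Nat.Prime.not_coprime_iff_dvd.mp hnc
    have hr2 : r ∈ tau2 M := hτ2 r hr hrY
    have hrκ : r ∈ kappa M := hK.2.1 r hr (hrI.trans hdvd)
    have h13 := (Cfsg.Agent.Lib.Helper57.BG142.kappa_facts hM hrκ).1
    rcases h13 with h | h
    · exact hr2.2.2.2 h.2.2.2.2
    · exact hr2.2.2.2 h.2.2.2
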