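import Mathlib
import Cfsg.Prelude.Def_Local
import Cfsg.Agent.Lib.Helper54.SylAltG1

/-!
# K-SylTwo-A8g (keystone 292820, architect helper6, S2928): `a8_false_of_index_seven`

`M` faithful on 8 points, `K ⊴ M` quasisimple, primitive, `C_M(K) ≤ K`, `64 ∣ |M|`; a subgroup `P` of
index 7 all of whose elements preserve the partition `{B, Bᶜ}` (`|B| = 4`) cannot exist.
-/

set_option autoImplicit false

namespace Cfsg.Agent.Lib.Helper47.SylTwo

open MulAction
open scoped Pointwise

variable {M β : Type*} [Group M] [Finite M] [MulAction M β] [FaithfulSMul M β] [Fintype β]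
  [DecidableEq β]

omit [Finite M] in
/-- The core of a subgroup of index 7 in a group of order divisible by 64 is nontrivial. -/
theorem normalCore_ne_bot_of_index_seven (h64 : 64 ∣ Nat.card M) (P : Subgroup M)
    (hP : P.index = 7) : P.normalCore ≠ ⊥ := by
  intro hbot
  have hker : (MulAction.toPermHom M (M ⧸ P)).ker = ⊥ := by
    rw [← Subgroup.normalCore_eq_ker, hbot]
  have hinj : Function.Injective (MulAction.toPermHom M (M ⧸ P)) :=
    (MonoidHom.ker_eq_bot_iff _).1 hker
  have hfin : Finite (M ⧸ P) := by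
    apply Nat.finite_of_card_ne_zero
    change P.index ≠ 0
    rw [hP]; norm_num
  have h1 : Nat.card M ∣ Nat.card (Equiv.Perm (M ⧸ P)) :=
    Subgroup.card_dvd_of_injective _ hinj
  have h2 : Nat.card (Equiv.Perm (M ⧸ P)) = (Nat.card (M ⧸ P)).factorial := Nat.card_perm
  have h3 : Nat.card (M ⧸ P) = 7 := hP
  rw [h2, h3] at h1
  have h4 : 64 ∣ Nat.factorial 7 := h64.trans h1
  revert h4
  decide

theorem a8_false_of_index_seven (h8 : Fintype.card β = 8) (K : Subgroup M) [K.Normal]
    (hq : Cfsg.IsQuasisimple ↥K) (hcent : Subgroup.centralizer (K : Set M) ≤ K)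
    (hprimK : IsPreprimitive ↥K β) (h64 : 64 ∣ Nat.card M) (B : Set β) (hB : B.ncard = 4)
    (P : Subgroup M) (hP : P.index = 7)
    (hPB : ∀ p ∈ P, (∀ x ∈ B, p • x ∈ B) ∨ (∀ x ∈ B, p • x ∉ B)) : False := by
  classical
  obtain ⟨hperf, hK1, -⟩ := Cfsg.Agent.Lib.Helper30.qs_subgroup hq
  set N : Subgroup M := P.normalCore with hN
  have hNne : N ≠ ⊥ := normalCore_ne_bot_of_index_seven h64 P hP
  have hNP : N ≤ P := P.normalCore_le
  have hNnorm : N.Normal := P.normalCore_normal
  have hKnorm : (⊤ : Subgroup M) ≤ Subgroup.normalizer (K : Set M) := by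
    rw [Subgroup.normalizer_eq_top]
  have hNnorm' : (⊤ : Subgroup M) ≤ Subgroup.normalizer (N : Set M) := by
    rw [Subgroup.normalizer_eq_top]
  have hcardβ : Nat.card β = 8 := by rw [Nat.card_eq_fintype_card, h8]
  rcases Cfsg.Agent.Lib.Helper54.SylAlt.le_or_commute_of_quasisimple ⊤ K N le_top hKnorm hq le_top
    hNnorm' with hKN | hcomm
  · -- `K ≤ N ≤ P`: `B` is a block of `K`
    have hblock : IsBlock (↥K) B := by
      rw [isBlock_iff_smul_eq_or_disjoint]
      intro k
      rcases hPB (k : M) (hNP (hKN k.2)) with h | h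
      · left
        have hsub : k • B ⊆ B := by
          rintro _ ⟨x, hx, rfl⟩
          exact h x hx
        have hfinB : B.Finite := Set.toFinite B
        apply Set.eq_of_subset_of_ncard_le hsub _ hfinB
        rw [Set.ncard_smul_set]
      · right
        rw [Set.disjoint_left]
        rintro _ ⟨x, hx, rfl⟩
        exact h x hx
    rcases hprimK.isTrivialBlock_of_isBlock hblock with h | h
    · have : B.ncard ≤ 1 := Set.ncard_le_one_iff_subsingleton.2 h
      omega
    · rw [h, Set.ncard_univ, hcardβ] at hB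
      omega
  · -- `N` centralizes `K`, so `N ≤ K`; `N ≠ 1` is transitive, so `K ≤ N` is abelian
    have hNK : N ≤ K := by
      intro n hn
      apply hcent
      rw [Subgroup.mem_centralizer_iff]
      intro k hk
      exact (hcomm n hn k hk).symm
    have hN'norm : (N.subgroupOf K).Normal := Subgroup.normal_subgroupOf
    obtain ⟨n, hnN, hn1⟩ : ∃ n ∈ N, n ≠ 1 := by
      by_contra hcon
      push Not at hcon
      exact hNne ((Subgroup.eq_bot_iff_forall _).2 hcon)
    have hfix : fixedPoints (↥(N.subgroupOf K)) β ≠ Set.univ := by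
      intro huniv
      apply hn1
      apply FaithfulSMul.eq_of_smul_eq_smul (α := β)
      intro x
      have hx : x ∈ fixedPoints (↥(N.subgroupOf K)) β := by rw [huniv]; trivial
      rw [mem_fixedPoints] at hx
      have := hx ⟨⟨n, hNK hnN⟩, Subgroup.mem_subgroupOf.2 hnN⟩
      rw [one_smul]
      exact this
    have hquasi : IsQuasiPreprimitive (↥K) β := inferInstance
    have htrans : IsPretransitive (↥(N.subgroupOf K)) β :=
      hquasi.isPretransitive_of_normal hfix
    have hne : Nonempty β := by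
      rw [← Fintype.card_pos_iff, h8]; norm_num
    obtain ⟨x0⟩ := hne
    have hKleN : K ≤ N := by
      intro k hk
      obtain ⟨n', hn'⟩ := htrans.exists_smul_eq x0 ((⟨k, hk⟩ : ↥K) • x0)
      have hn'N : ((n' : ↥K) : M) ∈ N := Subgroup.mem_subgroupOf.1 n'.2
      have hn'x : ((n' : ↥K) : M) • x0 = k • x0 := hn'
      have hg : (((n' : ↥K) : M))⁻¹ * k = 1 := by
        apply FaithfulSMul.eq_of_smul_eq_smul (α := β)
        intro y
        obtain ⟨n'', hn''⟩ := htrans.exists_smul_eq x0 y
        have hn''N : ((n'' : ↥K) : M) ∈ N := Subgroup.mem_subgroupOf.1 n''.2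
        have hn''y : ((n'' : ↥K) : M) • x0 = y := hn''
        have hc1 : ((n'' : ↥K) : M) * k = k * ((n'' : ↥K) : M) := hcomm _ hn''N k hk
        have hc2 : ((n'' : ↥K) : M) * ((n' : ↥K) : M) = ((n' : ↥K) : M) * ((n'' : ↥K) : M) :=
          hcomm _ hn''N _ (n' : ↥K).2
        have hc3 : (((n' : ↥K) : M))⁻¹ * ((n'' : ↥K) : M) =
            ((n'' : ↥K) : M) * (((n' : ↥K) : M))⁻¹ := by
          rw [inv_mul_eq_iff_eq_mul, ← mul_assoc, ← hc2, mul_assoc, mul_inv_cancel, mul_one]
        rw [one_smul, ← hn''y, ← mul_smul, mul_assoc, ← hc1, ← mul_assoc, hc3, mul_assoc,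
          mul_smul, mul_smul, ← hn'x, ← mul_smul (((n' : ↥K) : M))⁻¹, inv_mul_cancel, one_smul]
      have : k = ((n' : ↥K) : M) := by
        have := congrArg (fun t => ((n' : ↥K) : M) * t) hg
        simpa [mul_assoc] using this
      rw [this]; exact hn'N
    apply hK1
    rw [← hperf, Subgroup.commutator_eq_bot_iff_le_centralizer]
    intro k hk
    rw [Subgroup.mem_centralizer_iff]
    intro k' hk'
    exact (hcomm k (hKleN hk) k' hk').symm

end Cfsg.Agent.Lib.Helper47.SylTwo
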