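import Mathlib
import Cfsg.Prelude.Def_GeometricClasses
import Cfsg.Agent.Lib.Helper48.OSub.Reduce

/-!
# K-OOddMax-N5 (keystone 581405, architect helper8)
`Ω_{2m+1}(F)` (`m ≥ 3`, `|F|` odd) is not inside a subfield subgroup: first half of helper48's
`OSub.maximal_std` (which only uses `3 ≤ m`), transported as in `S5683`.
-/

set_option autoImplicit false
set_option linter.unusedSectionVars false
set_option linter.unusedVariables false
set_option linter.unusedSimpArgs false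

namespace Cfsg.Agent.Lib.Helper47.OOddMax

open scoped Matrix
open Matrix Cfsg.Agent.Lib.Helper43 Cfsg.Agent.Lib.Helper48.Subfield Cfsg.Agent.Lib.Helper48.OSub

variable {F : Type*} [Field F] [Fintype F] {m : ℕ}

/-- standard form: `Ω` is not inside the group of matrices rational up to a scalar. -/
theorem omega_not_le_ratUpTo (h2 : (2 : F) ≠ 0) (hm : 3 ≤ m) (F₀ : Subfield F) (r : ℕ) (hr : r.Prime)
    (hF : Fintype.card F = Nat.card F₀ ^ r) :
    ¬ Cfsg.Geo.omegaGL (Cfsg.quadFormOdd m F) ≤ ratUpTo (ι := Idx m) F₀ := by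
  intro hle
  have hrat : ∀ g : OG m h2, g ∈ Cfsg.Omega F ⇑(Qf m h2) →
      (g : GL (Idx m) F) ∈ ratUpTo (ι := Idx m) F₀ → RatO h2 F₀ g := by
    intro g hgΩ hgr
    obtain ⟨c, hc0, hc⟩ := hgr
    apply ratO_of_scalar h2 hgΩ c hc0
    intro a i
    rw [Pi.smul_apply, act_eq_mulVec, Matrix.mulVec_single_one, Matrix.col_apply]
    have := hc i a
    rwa [Matrix.smul_apply] at this
  obtain ⟨a, ha⟩ := exists_not_mem F₀ r hr hF
  set i₀ : Fin m := ⟨0, by omega⟩ with hi₀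
  set i₁ : Fin m := ⟨1, by omega⟩ with hi₁
  have h01 : i₀ ≠ i₁ := by intro h; simpa [hi₀, hi₁] using congrArg Fin.val h
  have horth : bf (sb i₀ true : Idx m → F) (a • (sb i₁ false : Idx m → F)) = 0 := by
    rw [bf_smul_right, bf_sb_sb_ne h01, mul_zero]
  set g : OG m h2 := sg h2 (sb i₀ true) (a • (sb i₁ false : Idx m → F)) with hg
  have hgΩ : g ∈ Cfsg.Omega F ⇑(Qf m h2) :=
    sg_mem_Omega h2 (by omega) _ _ (Q_sb _ _) horth
  have hmem : (g : GL (Idx m) F) ∈ Cfsg.Geo.omegaGL (Cfsg.quadFormOdd m F) :=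
    (mem_omegaGL_iff h2 _).mpr ⟨g, hgΩ, rfl⟩
  have hgr := hrat g hgΩ (hle hmem)
  have h1 := hgr.act h2 (rat_sb F₀ i₁ true) (ps i₀ true)
  rw [hg, sg_act h2 _ _ (Q_sb _ _) horth] at h1
  simp only [Pi.add_apply, Pi.sub_apply, Pi.smul_apply, sb_apply_ps, smul_eq_mul, bf_smul_right,
    bf_sb_sb, Cfsg.Agent.Lib.Helper48.OSub.Q_smul, Q_sb] at h1
  have e1 : ¬ (i₀ = i₁ ∧ true = true) := fun h => h01 h.1
  have e2 : ¬ (i₁ = i₀ ∧ (!true) = true) := fun h => h01 h.1.symm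
  simp [e1, e2, h01, h01.symm] at h1
  exact ha h1

/-- **K-OOddMax-N5**. -/
theorem omega_not_le_subfieldSubgroup (hodd : Odd (Fintype.card F)) (hm : 3 ≤ m) (F₀ : Subfield F)
    (r : ℕ) (hr : r.Prime) (hF : Fintype.card F = Nat.card F₀ ^ r)
    (P : GL (Unit ⊕ (Fin m ⊕ Fin m)) F)
    (hP : Cfsg.Geo.IsQuadFormRationalStructure (Cfsg.quadFormOdd m F) F₀ P) :
    ¬ Cfsg.Geo.omegaGL (Cfsg.quadFormOdd m F) ≤ Cfsg.Geo.subfieldSubgroup F₀ P := by
  classical
  have h2 : (2 : F) ≠ 0 := Cfsg.Agent.Lib.Helper43.two_ne_zero_of_odd_card43 hodd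
  obtain ⟨N, c, hN0, hc, hsim⟩ := Cfsg.Agent.Lib.Helper48.OSub.exists_normal_form h2 F₀ P hP
  have hSmap := Cfsg.Agent.Lib.Helper48.OSub.omegaGL_map_conj (Cfsg.quadFormOdd m F) (P * N) c hc hsim
  have hinj : Function.Injective (MulAut.conj (P * N)).toMonoidHom := (MulAut.conj (P * N)).injective
  have h3 : (Cfsg.Agent.Lib.Helper48.Subfield.ratUpTo (ι := Unit ⊕ (Fin m ⊕ Fin m)) F₀).map
      (MulAut.conj (P * N)).toMonoidHom = Cfsg.Geo.subfieldSubgroup F₀ P := by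
    unfold Cfsg.Geo.subfieldSubgroup
    have h4 : (MulAut.conj (P * N)).toMonoidHom
        = (MulAut.conj P).toMonoidHom.comp (MulAut.conj N).toMonoidHom := by
      ext x
      simp [MulAut.conj_apply, mul_assoc]
    rw [h4, ← Subgroup.map_map,
      Cfsg.Agent.Lib.Helper48.SpSub.map_conj_eq_of_mem _ N
        (Cfsg.Agent.Lib.Helper48.SpSub.G0_le_ratUpTo F₀ hN0),
      ← Cfsg.Agent.Lib.Helper48.Subfield.sup_eq_ratUpTo]
    rfl
  intro hle
  rw [← h3, ← hSmap] at hle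
  exact omega_not_le_ratUpTo h2 hm F₀ r hr hF ((Subgroup.map_le_map_iff_of_injective hinj).mp hle)

end Cfsg.Agent.Lib.Helper47.OOddMax
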