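import Mathlib

/-!
# K-3806 pack (S3806), leaf D (keystone 380604): avoiding `m < p` two-step centralisers in a `p`-group.
-/

set_option autoImplicit false

namespace Cfsg.Agent.Lib.Helper47.MC3806

open Subgroup

/-- the elements centralising `A` modulo the normal subgroup `N` -/
def centMod {G : Type*} [Group G] (A N : Subgroup G) [N.Normal] : Subgroup G where
  carrier := {g | ∀ a ∈ A, a * g * a⁻¹ * g⁻¹ ∈ N}
  one_mem' := by
    intro a _
    simp
  mul_mem' := by
    intro g h hg hh a ha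
    have h1 := hg a ha
    have h2 := hh a ha
    have h3 : g * (a * h * a⁻¹ * h⁻¹) * g⁻¹ ∈ N := Subgroup.Normal.conj_mem inferInstance _ h2 g
    have e : a * (g * h) * a⁻¹ * (g * h)⁻¹ = (a * g * a⁻¹ * g⁻¹) * (g * (a * h * a⁻¹ * h⁻¹) * g⁻¹) := by
      group
    rw [e]
    exact N.mul_mem h1 h3
  inv_mem' := by
    intro g hg a ha
    have h1 := N.inv_mem (hg a ha)
    have h3 : g⁻¹ * (a * g * a⁻¹ * g⁻¹)⁻¹ * g⁻¹⁻¹ ∈ N := Subgroup.Normal.conj_mem inferInstance _ h1 g⁻¹
    have e : a * g⁻¹ * a⁻¹ * g⁻¹⁻¹ = g⁻¹ * (a * g * a⁻¹ * g⁻¹)⁻¹ * g⁻¹⁻¹ := by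
      group
    rw [e]
    exact h3

theorem mem_centMod {G : Type*} [Group G] (A N : Subgroup G) [N.Normal] (g : G) :
    g ∈ centMod A N ↔ ∀ a ∈ A, a * g * a⁻¹ * g⁻¹ ∈ N := Iff.rfl

/-- a finite `p`-group is not the union of `m < p` proper subgroups -/
theorem exists_not_mem_of_lt {G : Type*} [Group G] [Finite G] (p : ℕ) [Fact p.Prime]
    (hG : IsPGroup p G) (m : ℕ) (hm : m < p) (H : Fin m → Subgroup G) (hH : ∀ i, H i ≠ ⊤) :
    ∃ s : G, ∀ i, s ∉ H i := by
  classical
  have hp : p.Prime := Fact.out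
  have : Fintype G := Fintype.ofFinite G
  by_contra hcon
  have hcov : ∀ s : G, ∃ i, s ∈ H i := by
    intro s
    by_contra h
    apply hcon
    refine ⟨s, ?_⟩
    intro i hi
    exact h ⟨i, hi⟩
  let T : Fin m → Finset G := fun i => Finset.univ.filter (fun g => g ∈ H i)
  have hTcard : ∀ i, (T i).card = Nat.card (H i) := by
    intro i
    rw [Nat.card_eq_fintype_card, Fintype.card_subtype]
  have hsub : (Finset.univ : Finset G) ⊆ Finset.univ.biUnion T := by
    intro s _
    obtain ⟨i, hi⟩ := hcov s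
    rw [Finset.mem_biUnion]
    exact ⟨i, Finset.mem_univ i, by simp [T, hi]⟩
  have h1 : Fintype.card G ≤ ∑ i, (T i).card := by
    calc Fintype.card G = (Finset.univ : Finset G).card := rfl
      _ ≤ (Finset.univ.biUnion T).card := Finset.card_le_card hsub
      _ ≤ ∑ i, (T i).card := Finset.card_biUnion_le
  have h2 : ∀ i, p * (T i).card ≤ Fintype.card G := by
    intro i
    rw [hTcard]
    have hidx := Subgroup.index_mul_card (H i)
    rw [Nat.card_eq_fintype_card (α := G)] at hidx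
    obtain ⟨n, hn⟩ := hG.index (H i)
    have hn0 : n ≠ 0 := by
      intro h0
      rw [h0, pow_zero] at hn
      exact hH i (Subgroup.index_eq_one.mp hn)
    have hple : p ≤ (H i).index := by
      rw [hn]
      calc p = p ^ 1 := (pow_one p).symm
        _ ≤ p ^ n := Nat.pow_le_pow_right hp.pos (Nat.one_le_iff_ne_zero.mpr hn0)
    calc p * Nat.card (H i) ≤ (H i).index * Nat.card (H i) := Nat.mul_le_mul_right _ hple
      _ = Fintype.card G := hidx
  have h3 : p * ∑ i, (T i).card ≤ m * Fintype.card G := by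
    rw [Finset.mul_sum]
    calc ∑ i, p * (T i).card ≤ ∑ _i : Fin m, Fintype.card G := Finset.sum_le_sum (fun i _ => h2 i)
      _ = m * Fintype.card G := by simp
  have hpos : 0 < Fintype.card G := Fintype.card_pos
  have h4 : p * Fintype.card G ≤ m * Fintype.card G :=
    le_trans (Nat.mul_le_mul_left p h1) h3
  have h5 : p ≤ m := Nat.le_of_mul_le_mul_right h4 hpos
  omega

/-- LEAF D (avoiding `m < p` two-step centralisers in a `p`-group). -/
theorem exists_avoid {G : Type*} [Group G] [Finite G] (p : ℕ) [Fact p.Prime] (hG : IsPGroup p G)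
    (m : ℕ) (hm : m < p)
    (hne : ∀ i < m, ¬ (⊤ : Subgroup G).lowerCentralSeries (i + 1) ≤
      (⊤ : Subgroup G).lowerCentralSeries (i + 2)) :
    ∃ s : G, ∀ i < m, ¬ ∀ a ∈ (⊤ : Subgroup G).lowerCentralSeries i,
      a * s * a⁻¹ * s⁻¹ ∈ (⊤ : Subgroup G).lowerCentralSeries (i + 2) := by
  let H : Fin m → Subgroup G := fun i =>
    centMod ((⊤ : Subgroup G).lowerCentralSeries i.val) ((⊤ : Subgroup G).lowerCentralSeries (i.val + 2))
  have hH : ∀ i, H i ≠ ⊤ := by
    intro i htop
    apply hne i.val i.isLt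
    rw [Subgroup.lowerCentralSeries_succ, Subgroup.commutator_le]
    intro a ha g _
    have hg : g ∈ H i := by rw [htop]; exact Subgroup.mem_top g
    have := (mem_centMod _ _ g).mp hg a ha
    rw [commutatorElement_def]
    exact this
  obtain ⟨s, hs⟩ := exists_not_mem_of_lt p hG m hm H hH
  refine ⟨s, ?_⟩
  intro i hi hall
  exact hs ⟨i, hi⟩ ((mem_centMod _ _ s).mpr hall)

end Cfsg.Agent.Lib.Helper47.MC3806
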