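import Mathlib
import Cfsg.Agent.Lib.Helper49.RSU3Defs

/-!
# K-RSU3 pack (S2283), leaf L06 (keystone 228306): the torus element `hM q m = diag(m, m^q/m, 1/m^q)`
is (the matrix of) an element of `SU_3(q)` in the antidiagonal model.
-/

set_option autoImplicit false
set_option linter.unusedSectionVars false
set_option linter.unusedVariables false

namespace Cfsg.Agent.Lib.Helper47.RSU3

open Matrix Cfsg.Agent.Lib.Helper49.StSU Cfsg.Agent.Lib.Helper49.RSU3

variable {F : Type*} [Field F] [Fintype F] {q : ℕ}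

theorem l06_mulVec (m : F) (u : Fin 3 → F) :
    hM q m *ᵥ u = ![m * u 0, m ^ q / m * u 1, 1 / m ^ q * u 2] := by
  ext i
  fin_cases i <;> simp [hM, Matrix.mulVec, dotProduct, Fin.sum_univ_three]

/-- L06 -/
theorem exists_h (hF : Fintype.card F = q ^ 2) (m : F) (hm : m ≠ 0) :
    ∃ g : GJ 3 F q, mat g = hM q m := by
  have hmq : m ^ q ≠ 0 := pow_ne_zero _ hm
  have hqq : (m ^ q) ^ q = m := by
    rw [← pow_mul, ← sq, ← hF]
    exact FiniteField.pow_card m
  have hdet : (hM q m).det = 1 := by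
    unfold hM
    rw [Matrix.det_fin_three]
    simp
    field_simp
  have hinv : ∀ u v, hJ 3 F q (hM q m *ᵥ u) (hM q m *ᵥ v) = hJ 3 F q u v := by
    intro u v
    rw [l06_mulVec, l06_mulVec]
    unfold hJ
    rw [Fin.sum_univ_three, Fin.sum_univ_three]
    have r0 : Fin.rev (0 : Fin 3) = 2 := rfl
    have r1 : Fin.rev (1 : Fin 3) = 1 := rfl
    have r2 : Fin.rev (2 : Fin 3) = 0 := rfl
    rw [r0, r1, r2]
    simp only [Matrix.cons_val_zero, Matrix.cons_val_one, Matrix.cons_val_two, Matrix.head_cons,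
      Matrix.tail_cons]
    rw [mul_pow, mul_pow, mul_pow, div_pow, div_pow, one_pow, hqq]
    field_simp
  exact ⟨⟨⟨hM q m, hdet⟩, hinv⟩, rfl⟩

end Cfsg.Agent.Lib.Helper47.RSU3
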