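import Mathlib
import Cfsg.Prelude.Def_ParabolicCharacters

set_option autoImplicit false

/-!
# Inner products of permutation characters and double cosets

For subgroups `H`, `K` of a finite group `G`, the averaged product of the permutation characters
on `G ⧸ H` and `G ⧸ K` is the number of `(H, K)`-double cosets.  We state it through a
parametrisation of the double cosets by an invariant `T : W → 𝒯`.
-/

namespace Cfsg.Agent.Lib.Helper47

open MulAction

section
variable {G : Type*} [Group G]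

/-- `g'` lies in the double coset `H g K` -/
def dcRel (H K : Subgroup G) (g g' : G) : Prop := ∃ h ∈ H, ∃ k ∈ K, g' = h * g * k

theorem dcRel_refl (H K : Subgroup G) (g : G) : dcRel H K g g :=
  ⟨1, H.one_mem, 1, K.one_mem, by simp⟩

theorem dcRel_symm {H K : Subgroup G} {g g' : G} (h : dcRel H K g g') : dcRel H K g' g := by
  obtain ⟨a, ha, b, hb, rfl⟩ := h
  exact ⟨a⁻¹, H.inv_mem ha, b⁻¹, K.inv_mem hb, by group⟩

theorem dcRel_trans {H K : Subgroup G} {g g' g'' : G} (h : dcRel H K g g')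
    (h' : dcRel H K g' g'') : dcRel H K g g'' := by
  obtain ⟨a, ha, b, hb, rfl⟩ := h
  obtain ⟨a', ha', b', hb', rfl⟩ := h'
  exact ⟨a' * a, H.mul_mem ha' ha, b * b', K.mul_mem hb hb', by group⟩

/-- the double coset attached to a pair of cosets: all `a⁻¹ b` with `a`, `b` representatives -/
def pairDC (H K : Subgroup G) (x : (G ⧸ H) × (G ⧸ K)) : Set G :=
  {g | ∃ a b : G, (a : G ⧸ H) = x.1 ∧ (b : G ⧸ K) = x.2 ∧ g = a⁻¹ * b}

theorem pairDC_smul (H K : Subgroup G) (g : G) (x : (G ⧸ H) × (G ⧸ K)) :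
    pairDC H K (g • x) = pairDC H K x := by
  ext y
  constructor
  · rintro ⟨a, b, ha, hb, rfl⟩
    refine ⟨g⁻¹ * a, g⁻¹ * b, ?_, ?_, by group⟩
    · have : ((g⁻¹ * a : G) : G ⧸ H) = g⁻¹ • ((a : G) : G ⧸ H) := rfl
      rw [this, ha]
      change g⁻¹ • (g • x.1) = x.1
      rw [inv_smul_smul]
    · have : ((g⁻¹ * b : G) : G ⧸ K) = g⁻¹ • ((b : G) : G ⧸ K) := rfl
      rw [this, hb]
      change g⁻¹ • (g • x.2) = x.2
      rw [inv_smul_smul]
  · rintro ⟨a, b, ha, hb, rfl⟩
    refine ⟨g * a, g * b, ?_, ?_, by group⟩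
    · have : ((g * a : G) : G ⧸ H) = g • ((a : G) : G ⧸ H) := rfl
      rw [this, ha]
      rfl
    · have : ((g * b : G) : G ⧸ K) = g • ((b : G) : G ⧸ K) := rfl
      rw [this, hb]
      rfl

theorem pairDC_mk (H K : Subgroup G) (a b : G) :
    pairDC H K ((a : G ⧸ H), (b : G ⧸ K)) = {g | dcRel H K (a⁻¹ * b) g} := by
  ext y
  constructor
  · rintro ⟨a', b', ha, hb, rfl⟩
    simp only at ha hb
    rw [QuotientGroup.eq] at ha hb
    -- a'⁻¹ * a ∈ H, b'⁻¹ * b ∈ K
    refine ⟨a'⁻¹ * a, ha, (b'⁻¹ * b)⁻¹, K.inv_mem hb, by group⟩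
  · rintro ⟨h, hh, k, hk, rfl⟩
    refine ⟨a * h⁻¹, b * k, ?_, ?_, by group⟩
    · simp only
      rw [QuotientGroup.eq]
      have : (a * h⁻¹)⁻¹ * a = h := by group
      rw [this]
      exact hh
    · simp only
      rw [QuotientGroup.eq]
      have : (b * k)⁻¹ * b = k⁻¹ := by group
      rw [this]
      exact K.inv_mem hk

theorem orbitRel_of_pairDC_eq (H K : Subgroup G) (x y : (G ⧸ H) × (G ⧸ K))
    (h : pairDC H K x = pairDC H K y) : (orbitRel G ((G ⧸ H) × (G ⧸ K))) x y := by
  obtain ⟨x1, x2⟩ := x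
  obtain ⟨y1, y2⟩ := y
  induction x1 using QuotientGroup.induction_on with
  | H a =>
  induction x2 using QuotientGroup.induction_on with
  | H b =>
  induction y1 using QuotientGroup.induction_on with
  | H a' =>
  induction y2 using QuotientGroup.induction_on with
  | H b' =>
  have h1 : a⁻¹ * b ∈ pairDC H K ((a : G ⧸ H), (b : G ⧸ K)) := ⟨a, b, rfl, rfl, rfl⟩
  rw [h] at h1
  obtain ⟨a'', b'', ha, hb, hab⟩ := h1
  simp only at ha hb
  rw [orbitRel_apply, mem_orbit_iff]
  -- g with g • (a', b') = (a, b): g = a * a''⁻¹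
  refine ⟨a * a''⁻¹, ?_⟩
  rw [← ha, ← hb]
  apply Prod.ext
  · change (((a * a''⁻¹) * a'' : G) : G ⧸ H) = (a : G ⧸ H)
    congr 1
    group
  · change (((a * a''⁻¹) * b'' : G) : G ⧸ K) = (b : G ⧸ K)
    congr 1
    have : b'' = a'' * (a⁻¹ * b) := by rw [hab]; group
    rw [this]
    group

theorem pairDC_eq_class (H K : Subgroup G) (x : (G ⧸ H) × (G ⧸ K)) {g₁ : G}
    (h : g₁ ∈ pairDC H K x) : pairDC H K x = {g | dcRel H K g₁ g} := by
  obtain ⟨x1, x2⟩ := x
  induction x1 using QuotientGroup.induction_on with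
  | H a =>
  induction x2 using QuotientGroup.induction_on with
  | H b =>
  rw [pairDC_mk] at h ⊢
  ext g
  change dcRel H K (a⁻¹ * b) g₁ at h
  change dcRel H K (a⁻¹ * b) g ↔ dcRel H K g₁ g
  exact ⟨fun hg => dcRel_trans (dcRel_symm h) hg, fun hg => dcRel_trans h hg⟩

theorem pairDC_nonempty (H K : Subgroup G) (x : (G ⧸ H) × (G ⧸ K)) :
    ∃ g, g ∈ pairDC H K x := by
  obtain ⟨x1, x2⟩ := x
  induction x1 using QuotientGroup.induction_on with
  | H a =>
  induction x2 using QuotientGroup.induction_on with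
  | H b =>
  exact ⟨a⁻¹ * b, a, b, rfl, rfl, rfl⟩

end

section
variable {G : Type*} [Group G] [Fintype G]

omit [Fintype G] in
theorem fpc_mul_fpc (H K : Subgroup G) (g : G) :
    Cfsg.fixedPointCharacter H g * Cfsg.fixedPointCharacter K g =
      (Nat.card (fixedBy ((G ⧸ H) × (G ⧸ K)) g) : ℂ) := by
  unfold Cfsg.fixedPointCharacter
  rw [← Nat.cast_mul, ← Nat.card_prod]
  congr 1
  apply Nat.card_congr
  exact
    { toFun := fun p => ⟨(p.1.1, p.2.1), by
        rw [mem_fixedBy]
        exact Prod.ext p.1.2 p.2.2⟩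
      invFun := fun p => (⟨p.1.1, by
        have := p.2
        rw [mem_fixedBy] at this ⊢
        exact congrArg Prod.fst this⟩, ⟨p.1.2, by
        have := p.2
        rw [mem_fixedBy] at this ⊢
        exact congrArg Prod.snd this⟩)
      left_inv := fun p => rfl
      right_inv := fun p => rfl }

/-- the inner product of two permutation characters is the number of double cosets, here
parametrised by an invariant -/
theorem fpc_inner_eq_card_range (H K : Subgroup G) {W 𝒯 : Type*} (φ : W → G) (T : W → 𝒯)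
    (ha : ∀ g : G, ∃ w, dcRel H K (φ w) g)
    (hb : ∀ w w', dcRel H K (φ w) (φ w') ↔ T w = T w') :
    (Nat.card G : ℂ)⁻¹ * ∑ g : G,
        Cfsg.fixedPointCharacter H g * Cfsg.fixedPointCharacter K g =
      (Nat.card (Set.range T) : ℂ) := by
  classical
  have hex : ∀ x : (G ⧸ H) × (G ⧸ K), ∃ w, φ w ∈ pairDC H K x := by
    intro x
    obtain ⟨g, hg⟩ := pairDC_nonempty H K x
    obtain ⟨w, hw⟩ := ha g
    refine ⟨w, ?_⟩
    rw [pairDC_eq_class H K x hg]
    exact dcRel_symm hw
  let F : (G ⧸ H) × (G ⧸ K) → 𝒯 := fun x => T (Classical.choose (hex x))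
  have hF : ∀ x w, φ w ∈ pairDC H K x → F x = T w := by
    intro x w hw
    have h0 := Classical.choose_spec (hex x)
    rw [pairDC_eq_class H K x h0] at hw
    exact (hb _ _).mp hw
  have hFinv : ∀ x y, (orbitRel G ((G ⧸ H) × (G ⧸ K))) x y → F x = F y := by
    intro x y hxy
    rw [orbitRel_apply, mem_orbit_iff] at hxy
    obtain ⟨g, rfl⟩ := hxy
    have h0 := Classical.choose_spec (hex y)
    apply hF
    rw [pairDC_smul]
    exact h0
  have hFinj : ∀ x y, F x = F y → (orbitRel G ((G ⧸ H) × (G ⧸ K))) x y := by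
    intro x y hxy
    apply orbitRel_of_pairDC_eq
    have h0 := Classical.choose_spec (hex x)
    have h1 := Classical.choose_spec (hex y)
    rw [pairDC_eq_class H K x h0, pairDC_eq_class H K y h1]
    have h2 : dcRel H K (φ (Classical.choose (hex x))) (φ (Classical.choose (hex y))) :=
      (hb _ _).mpr hxy
    ext g
    change dcRel H K _ g ↔ dcRel H K _ g
    exact ⟨fun hg => dcRel_trans (dcRel_symm h2) hg, fun hg => dcRel_trans h2 hg⟩
  have hcard : Fintype.card (Quotient (orbitRel G ((G ⧸ H) × (G ⧸ K)))) =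
      Nat.card (Set.range T) := by
    rw [← Nat.card_eq_fintype_card]
    apply Nat.card_congr
    refine Equiv.ofBijective (fun o => ⟨Quotient.lift F hFinv o, ?_⟩) ⟨?_, ?_⟩
    · induction o using Quotient.inductionOn with
      | h x => exact ⟨_, rfl⟩
    · intro o o' hoo'
      induction o using Quotient.inductionOn with
      | h x =>
      induction o' using Quotient.inductionOn with
      | h y =>
      simp only [Subtype.mk.injEq, Quotient.lift_mk] at hoo'
      exact Quotient.sound (hFinj x y hoo')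
    · rintro ⟨t, w, rfl⟩
      refine ⟨Quotient.mk _ (((1 : G) : G ⧸ H), ((φ w : G) : G ⧸ K)), ?_⟩
      apply Subtype.ext
      simp only [Quotient.lift_mk]
      apply hF
      exact ⟨1, φ w, rfl, rfl, by simp⟩
  have hB := sum_card_fixedBy_eq_card_orbits_mul_card_group G ((G ⧸ H) × (G ⧸ K))
  simp_rw [fpc_mul_fpc]
  rw [← Nat.cast_sum]
  simp_rw [Nat.card_eq_fintype_card]
  rw [hB, hcard]
  have hG : (Fintype.card G : ℂ) ≠ 0 := by
    exact_mod_cast Fintype.card_ne_zero
  push_cast
  field_simp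

end

end Cfsg.Agent.Lib.Helper47
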