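import Mathlib
import Cfsg.Prelude.Def_GeometricClasses
import Cfsg.Agent.Lib.Helper42.SLMaxN4
import Cfsg.Agent.Lib.Helper85.SUMaxN7
import Cfsg.Agent.Lib.Helper51.SUMax2

/-!
# K-SUMax-N4 (keystone 581105, architect helper44)
`SU_n(q)` (`n ≥ 3`) is not inside a tensor-product (Kronecker) subgroup: the set of pure tensors is invariant
under the Kronecker group, while `SU_n` is transitive on the non-zero vectors of a given norm; a pure and a
non-pure vector of the same norm always exist (same argument as helper85's `SUMaxN7`).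
-/

set_option autoImplicit false

namespace Cfsg.Agent.Lib.Helper47.SUMax

open Cfsg Cfsg.Geo
open scoped Matrix Kronecker MatrixGroups
open Cfsg.Agent.Lib.Helper08 Cfsg.Agent.Lib.Helper51
open Cfsg.Agent.Lib.Helper42.SLMax (IsPureVec isPureVec_mulVec)

section Tensor
variable {F : Type*} [Field F] {n n₁ n₂ : ℕ}

/-- pure tensors varying in the first factor only. -/
def pvN4 (e : Fin n ≃ Fin n₁ × Fin n₂) (b1 : Fin n₂) (c : Fin n₁ → F) : Fin n → F :=
  fun i => c (e i).1 * (if (e i).2 = b1 then (1 : F) else 0)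

theorem pvN4_pure (e : Fin n ≃ Fin n₁ × Fin n₂) (b1 : Fin n₂) (c : Fin n₁ → F) :
    IsPureVec e (pvN4 e b1 c) :=
  ⟨c, fun b => if b = b1 then 1 else 0, fun _ => rfl⟩

theorem pvN4_smul_add (e : Fin n ≃ Fin n₁ × Fin n₂) (b1 : Fin n₂) (a : F) (c c' : Fin n₁ → F) :
    pvN4 e b1 (a • c + c') = a • pvN4 e b1 c + pvN4 e b1 c' := by
  funext i
  simp only [pvN4, Pi.add_apply, Pi.smul_apply, smul_eq_mul]
  ring

theorem pvN4_ne_zero (e : Fin n ≃ Fin n₁ × Fin n₂) (b1 : Fin n₂) (c : Fin n₁ → F) (a : Fin n₁)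
    (hc : c a ≠ 0) : pvN4 e b1 c ≠ 0 := by
  intro h
  have h1 := congrFun h (e.symm (a, b1))
  unfold pvN4 at h1
  rw [Equiv.apply_symm_apply] at h1
  simp only [if_true, mul_one, Pi.zero_apply] at h1
  exact hc h1

theorem singleN4_pure (e : Fin n ≃ Fin n₁ × Fin n₂) (a0 : Fin n₁) (b0 : Fin n₂) :
    IsPureVec e (Pi.single (e.symm (a0, b0)) (1 : F)) := by
  refine ⟨Pi.single a0 1, Pi.single b0 1, fun i => ?_⟩
  by_cases hi : i = e.symm (a0, b0)
  · subst hi
    simp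
  · have : e i ≠ (a0, b0) := by
      intro h
      apply hi
      rw [← h, Equiv.symm_apply_apply]
    rw [Pi.single_eq_of_ne hi]
    by_cases h1 : (e i).1 = a0
    · have h2 : (e i).2 ≠ b0 := by
        intro h2
        exact this (Prod.ext h1 h2)
      rw [Pi.single_eq_of_ne h2, mul_zero]
    · rw [Pi.single_eq_of_ne h1, zero_mul]

theorem zeroN4_pure (e : Fin n ≃ Fin n₁ × Fin n₂) : IsPureVec e (0 : Fin n → F) :=
  ⟨0, 0, fun _ => by simp⟩

theorem not_pure_twoN4 (e : Fin n ≃ Fin n₁ × Fin n₂) (a0 a1 : Fin n₁) (b0 b1 : Fin n₂)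
    (ha01 : a0 ≠ a1) (hb01 : b0 ≠ b1) (a b : F) (ha : a ≠ 0) (hb : b ≠ 0) :
    ¬ IsPureVec e (a • Pi.single (e.symm (a0, b0)) (1 : F) + b • Pi.single (e.symm (a1, b1)) (1 : F)) := by
  rintro ⟨u, w, huw⟩
  have hi01 : e.symm (a0, b0) ≠ e.symm (a1, b1) := by
    intro h
    exact ha01 (Prod.mk.inj (e.symm.injective h)).1
  have hne1 : e.symm (a0, b1) ≠ e.symm (a0, b0) := by
    intro h
    exact hb01 (Prod.mk.inj (e.symm.injective h)).2.symm
  have hne2 : e.symm (a0, b1) ≠ e.symm (a1, b1) := by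
    intro h
    exact ha01 (Prod.mk.inj (e.symm.injective h)).1
  have e00 : a = u a0 * w b0 := by
    have := huw (e.symm (a0, b0))
    rw [Pi.add_apply, Pi.smul_apply, Pi.smul_apply, Pi.single_eq_same, Pi.single_eq_of_ne hi01,
      smul_zero, add_zero, Equiv.apply_symm_apply, smul_eq_mul, mul_one] at this
    exact this
  have e11 : b = u a1 * w b1 := by
    have := huw (e.symm (a1, b1))
    rw [Pi.add_apply, Pi.smul_apply, Pi.smul_apply, Pi.single_eq_same, Pi.single_eq_of_ne hi01.symm,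
      smul_zero, zero_add, Equiv.apply_symm_apply, smul_eq_mul, mul_one] at this
    exact this
  have e01 : (0 : F) = u a0 * w b1 := by
    have := huw (e.symm (a0, b1))
    rw [Pi.add_apply, Pi.smul_apply, Pi.smul_apply, Pi.single_eq_of_ne hne1, Pi.single_eq_of_ne hne2,
      smul_zero, smul_zero, add_zero, Equiv.apply_symm_apply] at this
    exact this
  rcases mul_eq_zero.mp e01.symm with h | h
  · rw [h, zero_mul] at e00
    exact ha e00
  · rw [h, mul_zero] at e11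
    exact hb e11

/-- the coordinate map. -/
def phiN4 (P : GL (Fin n) F) (z : Fin n → F) : Fin n → F :=
  (P : Matrix (Fin n) (Fin n) F) *ᵥ z

theorem phiN4_add (P : GL (Fin n) F) (z z' : Fin n → F) :
    phiN4 P (z + z') = phiN4 P z + phiN4 P z' := by
  unfold phiN4
  rw [← Matrix.mulVec_add]

theorem phiN4_smul (P : GL (Fin n) F) (a : F) (z : Fin n → F) :
    phiN4 P (a • z) = a • phiN4 P z := by
  unfold phiN4
  rw [← Matrix.mulVec_smul]

theorem phiN4_ne_zero (P : GL (Fin n) F) (z : Fin n → F) (hz : z ≠ 0) : phiN4 P z ≠ 0 := by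
  intro h
  apply hz
  have hPinv : ((P⁻¹ : GL (Fin n) F) : Matrix (Fin n) (Fin n) F) *ᵥ
      ((P : Matrix (Fin n) (Fin n) F) *ᵥ z) = z := by
    rw [Matrix.mulVec_mulVec, ← Units.val_mul, inv_mul_cancel, Units.val_one, Matrix.one_mulVec]
  unfold phiN4 at h
  rw [h, Matrix.mulVec_zero] at hPinv
  exact hPinv.symm

theorem pure_of_mem_tensorProductSubgroup [Fintype F] (e : Fin n ≃ Fin n₁ × Fin n₂)
    (P : GL (Fin n) F) (g : GL (Fin n) F) (hg : g ∈ tensorProductSubgroup n₁ n₂ e P)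
    (z0 z1 : Fin n → F) (hz0 : IsPureVec e z0)
    (hgz : (g : Matrix (Fin n) (Fin n) F) *ᵥ phiN4 P z0 = phiN4 P z1) :
    IsPureVec e z1 := by
  have hPinv : ∀ z : Fin n → F, ((P⁻¹ : GL (Fin n) F) : Matrix (Fin n) (Fin n) F) *ᵥ
      ((P : Matrix (Fin n) (Fin n) F) *ᵥ z) = z := by
    intro z
    rw [Matrix.mulVec_mulVec, ← Units.val_mul, inv_mul_cancel, Units.val_one, Matrix.one_mulVec]
  obtain ⟨g', hg', hgg'⟩ := hg
  obtain ⟨k, hk, hkg'⟩ := hg'
  have hpure := isPureVec_mulVec e k hk z0 hz0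
  convert hpure using 1
  have h3 : g = P * (glReindex e.symm k) * P⁻¹ := by
    rw [← hgg', ← hkg']
    rfl
  unfold phiN4 at hgz
  rw [h3] at hgz
  rw [Units.val_mul, Units.val_mul, ← Matrix.mulVec_mulVec, hPinv, ← Matrix.mulVec_mulVec] at hgz
  have h4 := congrArg (fun z => ((P⁻¹ : GL (Fin n) F) : Matrix (Fin n) (Fin n) F) *ᵥ z) hgz
  simp only [hPinv] at h4
  exact h4.symm

end Tensor

/-- **K-SUMax-N4**. -/
theorem su_not_le_tensorProductSubgroup {F : Type*} [Field F] [Fintype F] {n q : ℕ}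
    (hF : Fintype.card F = q ^ 2) (hn : 3 ≤ n) (_hex : ¬ (n = 3 ∧ q = 2)) {n₁ n₂ : ℕ}
    (h₁ : 2 ≤ n₁) (h₂ : 2 ≤ n₂) (e : Fin n ≃ Fin n₁ × Fin n₂) (P : GL (Fin n) F) :
    ¬ GU n F q ⊓ specialLinear (Fin n) F ≤ tensorProductSubgroup n₁ n₂ e P := by
  intro hle
  set a0 : Fin n₁ := ⟨0, by omega⟩ with ha0
  set a1 : Fin n₁ := ⟨1, by omega⟩ with ha1
  set b0 : Fin n₂ := ⟨0, by omega⟩ with hb0
  set b1 : Fin n₂ := ⟨1, by omega⟩ with hb1
  have ha01 : a0 ≠ a1 := by simp [ha0, ha1, Fin.ext_iff]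
  have hb01 : b0 ≠ b1 := by simp [hb0, hb1, Fin.ext_iff]
  set e0 : Fin n → F := Pi.single (e.symm (a0, b0)) 1 with he0
  set e1 : Fin n → F := Pi.single (e.symm (a1, b1)) 1 with he1
  have he0ne : e0 ≠ 0 := by
    intro h
    have := congrFun h (e.symm (a0, b0))
    simp [he0] at this
  have he1ne : e1 ≠ 0 := by
    intro h
    have := congrFun h (e.symm (a1, b1))
    simp [he1] at this
  have hnp : ∀ a b : F, a ≠ 0 → b ≠ 0 → ¬ IsPureVec e (a • e0 + b • e1) :=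
    fun a b ha hb => not_pure_twoN4 e a0 a1 b0 b1 ha01 hb01 a b ha hb
  obtain ⟨z0, z1, hz0, hz0ne, hz1, hnorm⟩ : ∃ z0 z1 : Fin n → F,
      IsPureVec e z0 ∧ z0 ≠ 0 ∧ ¬ IsPureVec e z1 ∧
      hform (Fin n) F q (phiN4 P z0) (phiN4 P z0) = hform (Fin n) F q (phiN4 P z1) (phiN4 P z1) := by
    by_cases hA : hform (Fin n) F q (phiN4 P e0) (phiN4 P e0) = 0 ∧
        hform (Fin n) F q (phiN4 P e1) (phiN4 P e1) = 0
    · obtain ⟨l, hl0, hl⟩ := Cfsg.Agent.Lib.Helper85.SUMax.exists_isotropic_add_smul hF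
        (phiN4 P e0) (phiN4 P e1) hA.1 hA.2
      refine ⟨e0, e0 + l • e1, singleN4_pure e a0 b0, he0ne, ?_, ?_⟩
      · have := hnp 1 l one_ne_zero hl0
        rwa [one_smul] at this
      · rw [phiN4_add, phiN4_smul, hl, hA.1]
    · obtain ⟨pz, hpz, hpz0, hpzn⟩ : ∃ pz : Fin n → F, IsPureVec e pz ∧ pz ≠ 0 ∧
          hform (Fin n) F q (phiN4 P pz) (phiN4 P pz) ≠ 0 := by
        by_cases h0 : hform (Fin n) F q (phiN4 P e0) (phiN4 P e0) = 0
        · exact ⟨e1, singleN4_pure e a1 b1, he1ne, fun h1 => hA ⟨h0, h1⟩⟩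
        · exact ⟨e0, singleN4_pure e a0 b0, he0ne, h0⟩
      by_cases hB : hform (Fin n) F q (phiN4 P (e0 + e1)) (phiN4 P (e0 + e1)) = 0
      · obtain ⟨c, i, hci, hciso⟩ : ∃ (c : Fin n₁ → F) (i : Fin n₁), c i ≠ 0 ∧
            hform (Fin n) F q (phiN4 P (pvN4 e b1 c)) (phiN4 P (pvN4 e b1 c)) = 0 := by
          by_cases hU : hform (Fin n) F q (phiN4 P (pvN4 e b1 (Pi.single a0 1)))
              (phiN4 P (pvN4 e b1 (Pi.single a0 1))) = 0
          · exact ⟨Pi.single a0 1, a0, by simp, hU⟩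
          · obtain ⟨a, ha⟩ := Cfsg.Agent.Lib.Helper85.SUMax.exists_isotropic_smul_add hF _
              (phiN4 P (pvN4 e b1 (Pi.single a1 1))) hU
            refine ⟨a • Pi.single a0 1 + Pi.single a1 1, a1, ?_, ?_⟩
            · simp [ha01.symm]
            · rw [pvN4_smul_add, phiN4_add, phiN4_smul]
              exact ha
        refine ⟨pvN4 e b1 c, e0 + e1, pvN4_pure e b1 c, pvN4_ne_zero e b1 c i hci, ?_, ?_⟩
        · have := hnp 1 1 one_ne_zero one_ne_zero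
          rwa [one_smul, one_smul] at this
        · rw [hciso, hB]
      · obtain ⟨c, hc0, hc⟩ := Cfsg.Agent.Lib.Helper85.SUMax.exists_smul_same_norm hF
          (phiN4 P pz) (phiN4 P (e0 + e1)) hpzn hB
        refine ⟨pz, c • (e0 + e1), hpz, hpz0, ?_, ?_⟩
        · rw [smul_add]
          exact hnp c c hc0 hc0
        · rw [phiN4_smul, hc]
  have hz1ne : z1 ≠ 0 := by
    rintro rfl
    exact hz1 (zeroN4_pure e)
  obtain ⟨D, hD, hDz, hDdet⟩ := exists_iso_same_norm_det hF hn (phiN4 P z0) (phiN4 P z1)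
    (phiN4_ne_zero P z0 hz0ne) (phiN4_ne_zero P z1 hz1ne) hnorm 1 (by simp)
  set g : GL (Fin n) F := (hD.isUnit hF).unit with hgdef
  have hg : g ∈ GU n F q ⊓ specialLinear (Fin n) F := (mem_GUSL_iff g).mpr ⟨hD, hDdet⟩
  exact hz1 (pure_of_mem_tensorProductSubgroup e P g (hle hg) z0 z1 hz0 hDz)

end Cfsg.Agent.Lib.Helper47.SUMax
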