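import Mathlib

set_option autoImplicit false

namespace Cfsg.Agent.Lib.Helper47

section
variable {G : Type*} [Group G]

/-- parametrization of a group with an index two subgroup -/
def indexTwoMk (T : Subgroup G) (h₀ : G) : T × Bool → G :=
  fun x => if x.2 then (x.1 : G) * h₀ else (x.1 : G)

theorem indexTwoMk_bijective (T : Subgroup G) (h₀ : G) (hh₀ : h₀ ∉ T)
    (hcos : ∀ g, g ∉ T → g * h₀⁻¹ ∈ T) : Function.Bijective (indexTwoMk T h₀) := by
  constructor
  · rintro ⟨t, b⟩ ⟨t', b'⟩ h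
    cases b <;> cases b' <;> simp only [indexTwoMk, Bool.false_eq_true, if_false, if_true] at h
    · rw [Subtype.ext h]
    · exfalso
      apply hh₀
      have : h₀ = (t' : G)⁻¹ * t := by rw [h]; group
      rw [this]
      exact T.mul_mem (T.inv_mem t'.2) t.2
    · exfalso
      apply hh₀
      have : h₀ = (t : G)⁻¹ * t' := by rw [← h]; group
      rw [this]
      exact T.mul_mem (T.inv_mem t.2) t'.2
    · have : (t : G) = t' := mul_right_cancel h
      rw [Subtype.ext this]
  · intro g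
    by_cases hg : g ∈ T
    · exact ⟨(⟨g, hg⟩, false), by simp [indexTwoMk]⟩
    · refine ⟨(⟨g * h₀⁻¹, hcos g hg⟩, true), ?_⟩
      simp [indexTwoMk]

/-- the parametrization as an equivalence -/
noncomputable def indexTwoEquiv (T : Subgroup G) (h₀ : G) (hh₀ : h₀ ∉ T)
    (hcos : ∀ g, g ∉ T → g * h₀⁻¹ ∈ T) : T × Bool ≃ G :=
  Equiv.ofBijective (indexTwoMk T h₀) (indexTwoMk_bijective T h₀ hh₀ hcos)

theorem card_eq_two_mul_of_indexTwo [Finite G] (T : Subgroup G) (h₀ : G) (hh₀ : h₀ ∉ T)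
    (hcos : ∀ g, g ∉ T → g * h₀⁻¹ ∈ T) : Nat.card G = 2 * Nat.card T := by
  rw [← Nat.card_congr (indexTwoEquiv T h₀ hh₀ hcos), Nat.card_prod, Nat.card_eq_fintype_card (α := Bool),
    Fintype.card_bool, mul_comm]

section commute
variable (T : Subgroup G) (h₀ : G)
  (hcomm : ∀ a ∈ T, ∀ b ∈ T, a * b = b * a)
  (hinv : ∀ t ∈ T, h₀ * t * h₀⁻¹ = t⁻¹)

include hcomm in
theorem commute_ff (t t' : T) : Commute (indexTwoMk T h₀ (t, false)) (indexTwoMk T h₀ (t', false)) := by
  simp only [indexTwoMk, Bool.false_eq_true, if_false]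
  exact hcomm _ t.2 _ t'.2

include hcomm hinv in
theorem commute_ft (t t' : T) :
    Commute (indexTwoMk T h₀ (t, false)) (indexTwoMk T h₀ (t', true)) ↔ t * t = 1 := by
  simp only [indexTwoMk, Bool.false_eq_true, if_false, if_true]
  unfold Commute SemiconjBy
  have h1 : h₀ * (t : G) = (t : G)⁻¹ * h₀ := by
    have := hinv t t.2
    rw [← this]; group
  have h2 : (t' : G) * h₀ * t = t' * (t : G)⁻¹ * h₀ := by
    rw [mul_assoc, h1, mul_assoc]
  rw [h2, ← mul_assoc, mul_left_inj, hcomm _ t.2 _ t'.2, mul_right_inj]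
  constructor
  · intro h
    apply Subtype.ext
    rw [Subgroup.coe_mul, Subgroup.coe_one]
    calc (t : G) * t = t * (t : G)⁻¹ := by rw [← h]
      _ = 1 := mul_inv_cancel _
  · intro h
    have := congrArg Subtype.val h
    rw [Subgroup.coe_mul, Subgroup.coe_one] at this
    exact eq_inv_of_mul_eq_one_left this

include hcomm hinv in
theorem commute_tf (t t' : T) :
    Commute (indexTwoMk T h₀ (t, true)) (indexTwoMk T h₀ (t', false)) ↔ t' * t' = 1 := by
  rw [← commute_ft T h₀ hcomm hinv t' t]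
  exact ⟨Commute.symm, Commute.symm⟩

include hinv in
theorem commute_tt (t t' : T) :
    Commute (indexTwoMk T h₀ (t, true)) (indexTwoMk T h₀ (t', true)) ↔
      (t * t'⁻¹) * (t * t'⁻¹) = 1 := by
  simp only [indexTwoMk, if_true]
  unfold Commute SemiconjBy
  have h1 : ∀ s : T, h₀ * (s : G) = (s : G)⁻¹ * h₀ := by
    intro s
    have := hinv s s.2
    rw [← this]; group
  have e1 : (t : G) * h₀ * (t' * h₀) = t * (t' : G)⁻¹ * (h₀ * h₀) := by
    rw [mul_assoc (t : G) h₀, ← mul_assoc h₀, h1 t']; group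
  have e2 : (t' : G) * h₀ * (t * h₀) = t' * (t : G)⁻¹ * (h₀ * h₀) := by
    rw [mul_assoc (t' : G) h₀, ← mul_assoc h₀, h1 t]; group
  rw [e1, e2, mul_left_inj]
  constructor
  · intro h
    apply Subtype.ext
    simp only [Subgroup.coe_mul, Subgroup.coe_inv, Subgroup.coe_one]
    calc (t : G) * (t' : G)⁻¹ * (t * (t' : G)⁻¹) = (t' : G) * (t : G)⁻¹ * (t * (t' : G)⁻¹) := by rw [h]
      _ = 1 := by group
  · intro h
    have := congrArg Subtype.val h
    simp only [Subgroup.coe_mul, Subgroup.coe_inv, Subgroup.coe_one] at this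
    have h3 := eq_inv_of_mul_eq_one_left this
    rw [h3]; group

end commute

/-- In a finite group `G` with an abelian subgroup `T` of index two which is inverted by the
elements outside `T` and which has exactly two elements of square one, the number of commuting
pairs is `|T|^2 + 6 |T|`. -/
theorem card_commuting_pairs_of_indexTwo [Finite G] (T : Subgroup G) (h₀ : G) (hh₀ : h₀ ∉ T)
    (hcos : ∀ g, g ∉ T → g * h₀⁻¹ ∈ T)
    (hcomm : ∀ a ∈ T, ∀ b ∈ T, a * b = b * a)
    (hinv : ∀ t ∈ T, h₀ * t * h₀⁻¹ = t⁻¹)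
    (h2 : Nat.card {t : T // t * t = 1} = 2) :
    Nat.card {p : G × G // Commute p.1 p.2} = Nat.card T * Nat.card T + 6 * Nat.card T := by
  classical
  have : Fintype G := Fintype.ofFinite G
  have : Fintype T := Fintype.ofFinite T
  have e1 : {x : (T × Bool) × (T × Bool) //
      Commute (indexTwoMk T h₀ x.1) (indexTwoMk T h₀ x.2)} ≃ {p : G × G // Commute p.1 p.2} :=
    Equiv.subtypeEquiv ((indexTwoEquiv T h₀ hh₀ hcos).prodCongr (indexTwoEquiv T h₀ hh₀ hcos))
      (fun x => Iff.rfl)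
  have hsq : (∑ t : T, if t * t = 1 then 1 else 0) = 2 := by
    rw [← Finset.card_filter, ← Fintype.card_subtype, ← Nat.card_eq_fintype_card, h2]
  have hsq' : ∀ t' : T, (∑ t : T, if (t * t'⁻¹) * (t * t'⁻¹) = 1 then 1 else 0) = 2 := by
    intro t'
    rw [← hsq]
    exact Fintype.sum_equiv (Equiv.mulRight t'⁻¹) _ _ (fun a => rfl)
  rw [← Nat.card_congr e1, Nat.card_eq_fintype_card, Fintype.card_subtype, Finset.card_filter,
    Fintype.sum_prod_type]
  simp only [Fintype.sum_prod_type, Fintype.sum_bool, Finset.sum_add_distrib]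
  have s1 : (∑ a : T, ∑ c : T,
      if Commute (indexTwoMk T h₀ (a, false)) (indexTwoMk T h₀ (c, false)) then 1 else 0) =
      Nat.card T * Nat.card T := by
    simp [commute_ff T h₀ hcomm, Finset.card_univ, Nat.card_eq_fintype_card]
  have s2 : (∑ a : T, ∑ c : T,
      if Commute (indexTwoMk T h₀ (a, false)) (indexTwoMk T h₀ (c, true)) then 1 else 0) =
      2 * Nat.card T := by
    rw [Finset.sum_comm]
    simp only [commute_ft T h₀ hcomm hinv, hsq]
    simp [Finset.card_univ, Nat.card_eq_fintype_card, mul_comm]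
  have s3 : (∑ a : T, ∑ c : T,
      if Commute (indexTwoMk T h₀ (a, true)) (indexTwoMk T h₀ (c, false)) then 1 else 0) =
      2 * Nat.card T := by
    simp only [commute_tf T h₀ hcomm hinv, hsq]
    simp [Finset.card_univ, Nat.card_eq_fintype_card, mul_comm]
  have s4 : (∑ a : T, ∑ c : T,
      if Commute (indexTwoMk T h₀ (a, true)) (indexTwoMk T h₀ (c, true)) then 1 else 0) =
      2 * Nat.card T := by
    rw [Finset.sum_comm]
    simp only [commute_tt T h₀ hinv, hsq']
    simp [Finset.card_univ, Nat.card_eq_fintype_card, mul_comm]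
  have total := congrArg₂ (· + ·) (congrArg₂ (· + ·) s4 s2) (congrArg₂ (· + ·) s3 s1)
  have e : Nat.card T * Nat.card T + 6 * Nat.card T =
      2 * Nat.card T + 2 * Nat.card T + (2 * Nat.card T + Nat.card T * Nat.card T) := by ring
  rw [e]
  convert total

/-- class number of such a group -/
theorem card_conjClasses_of_indexTwo [Finite G] (T : Subgroup G) (h₀ : G) (hh₀ : h₀ ∉ T)
    (hcos : ∀ g, g ∉ T → g * h₀⁻¹ ∈ T)
    (hcomm : ∀ a ∈ T, ∀ b ∈ T, a * b = b * a)
    (hinv : ∀ t ∈ T, h₀ * t * h₀⁻¹ = t⁻¹)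
    (h2 : Nat.card {t : T // t * t = 1} = 2) :
    2 * Nat.card (ConjClasses G) = Nat.card T + 6 := by
  have key := card_comm_eq_card_conjClasses_mul_card G
  rw [card_commuting_pairs_of_indexTwo T h₀ hh₀ hcos hcomm hinv h2,
    card_eq_two_mul_of_indexTwo T h₀ hh₀ hcos] at key
  have hpos : 0 < Nat.card T := Nat.card_pos
  have : (Nat.card T + 6) * Nat.card T = (2 * Nat.card (ConjClasses G)) * Nat.card T := by
    rw [add_mul, key]; ring
  exact (Nat.eq_of_mul_eq_mul_right hpos this).symm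

/-- the elements of square one -/
theorem card_sq_eq_one_eq_two (T : Subgroup G) (z : G) (hz : z ∈ T) (hz1 : z ≠ 1)
    (hzz : z * z = 1) (hall : ∀ t ∈ T, t * t = 1 → t = 1 ∨ t = z) :
    Nat.card {t : T // t * t = 1} = 2 := by
  rw [Nat.card_eq_two_iff]
  refine ⟨⟨1, by simp⟩, ⟨⟨z, hz⟩, by
    apply Subtype.ext
    simp only [Subgroup.coe_mul, Subgroup.coe_one]
    exact hzz⟩, ?_, ?_⟩
  · intro h
    apply hz1
    have := congrArg (fun t : {t : T // t * t = 1} => (t.1 : G)) h
    simpa using this.symm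
  · ext ⟨⟨t, ht⟩, htt⟩
    simp only [Set.mem_insert_iff, Set.mem_singleton_iff, Set.mem_univ, iff_true, Subtype.mk.injEq]
    have h1 : t * t = 1 := by
      have := congrArg Subtype.val htt
      simpa using this
    rcases hall t ht h1 with h | h
    · left; first | exact h | exact Subtype.ext h
    · right; first | exact h | exact Subtype.ext h

/-- ambient version: `T ≤ N` subgroups of `G` -/
theorem card_conjClasses_of_indexTwo' (N T : Subgroup G) [Finite N] (hTN : T ≤ N) (h₀ : G)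
    (h₀N : h₀ ∈ N) (hh₀ : h₀ ∉ T) (hcos : ∀ g ∈ N, g ∉ T → g * h₀⁻¹ ∈ T)
    (hcomm : ∀ a ∈ T, ∀ b ∈ T, a * b = b * a)
    (hinv : ∀ t ∈ T, h₀ * t * h₀⁻¹ = t⁻¹)
    (z : G) (hz : z ∈ T) (hz1 : z ≠ 1) (hzz : z * z = 1)
    (hall : ∀ t ∈ T, t * t = 1 → t = 1 ∨ t = z) :
    Nat.card N = 2 * Nat.card T ∧ 2 * Nat.card (ConjClasses N) = Nat.card T + 6 := by
  have hcard : Nat.card (T.subgroupOf N) = Nat.card T :=
    Nat.card_congr (Subgroup.subgroupOfEquivOfLe hTN).toEquiv
  have a1 : (⟨h₀, h₀N⟩ : N) ∉ T.subgroupOf N := by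
    rw [Subgroup.mem_subgroupOf]; exact hh₀
  have a2 : ∀ g : N, g ∉ T.subgroupOf N → g * (⟨h₀, h₀N⟩ : N)⁻¹ ∈ T.subgroupOf N := by
    intro g hg
    rw [Subgroup.mem_subgroupOf] at hg ⊢
    exact hcos g.1 g.2 hg
  have a3 : ∀ a ∈ T.subgroupOf N, ∀ b ∈ T.subgroupOf N, a * b = b * a := by
    intro a ha b hb
    rw [Subgroup.mem_subgroupOf] at ha hb
    apply Subtype.ext
    exact hcomm _ ha _ hb
  have a4 : ∀ t ∈ T.subgroupOf N, (⟨h₀, h₀N⟩ : N) * t * (⟨h₀, h₀N⟩ : N)⁻¹ = t⁻¹ := by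
    intro t ht
    rw [Subgroup.mem_subgroupOf] at ht
    apply Subtype.ext
    exact hinv _ ht
  have a5 : Nat.card {t : T.subgroupOf N // t * t = 1} = 2 := by
    apply card_sq_eq_one_eq_two (T.subgroupOf N) (⟨z, hTN hz⟩ : N)
    · rw [Subgroup.mem_subgroupOf]; exact hz
    · intro h; exact hz1 (congrArg Subtype.val h)
    · apply Subtype.ext; exact hzz
    · intro t ht htt
      rw [Subgroup.mem_subgroupOf] at ht
      rcases hall _ ht (congrArg Subtype.val htt) with h | h
      · left; exact Subtype.ext h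
      · right; exact Subtype.ext h
  refine ⟨?_, ?_⟩
  · rw [card_eq_two_mul_of_indexTwo (T.subgroupOf N) _ a1 a2, hcard]
  · rw [card_conjClasses_of_indexTwo (T.subgroupOf N) _ a1 a2 a3 a4 a5, hcard]

end

end Cfsg.Agent.Lib.Helper47
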