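import Mathlib

set_option autoImplicit false

namespace Cfsg.Agent.Lib.Helper47

open Matrix Polynomial

section
variable {F : Type*} [Field F]

/-- upper unipotent element of SL2 -/
def uu (x : F) : Matrix.SpecialLinearGroup (Fin 2) F :=
  ⟨!![1, x; 0, 1], by simp [Matrix.det_fin_two]⟩

/-- lower unipotent element of SL2 -/
def ll (x : F) : Matrix.SpecialLinearGroup (Fin 2) F :=
  ⟨!![1, 0; x, 1], by simp [Matrix.det_fin_two]⟩

/-- Weyl element -/
def ww : Matrix.SpecialLinearGroup (Fin 2) F :=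
  ⟨!![0, -1; 1, 0], by simp [Matrix.det_fin_two]⟩

/-- the scalar matrix -1 in SL2 -/
def negOne : Matrix.SpecialLinearGroup (Fin 2) F :=
  ⟨!![-1, 0; 0, -1], by simp [Matrix.det_fin_two]⟩

/-- companion matrix of `λ² - tλ + 1` -/
def comp (t : F) : Matrix.SpecialLinearGroup (Fin 2) F :=
  ⟨!![0, -1; 1, t], by simp [Matrix.det_fin_two]⟩

theorem uu_inv_coe (x : F) :
    (((uu x)⁻¹ : Matrix.SpecialLinearGroup (Fin 2) F) : Matrix (Fin 2) (Fin 2) F) = !![1, -x; 0, 1] := by
  rw [Matrix.SpecialLinearGroup.coe_inv]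
  simp [uu, Matrix.adjugate_fin_two]

theorem conj_coe (V A : Matrix.SpecialLinearGroup (Fin 2) F) :
    ((V * A * V⁻¹ : Matrix.SpecialLinearGroup (Fin 2) F) : Matrix (Fin 2) (Fin 2) F) =
      V.1 * A.1 * !![V.1 1 1, -V.1 0 1; -V.1 1 0, V.1 0 0] := by
  rw [Matrix.SpecialLinearGroup.coe_mul, Matrix.SpecialLinearGroup.coe_mul,
    Matrix.SpecialLinearGroup.coe_inv, Matrix.adjugate_fin_two]

theorem inv_mul_coe (Y G : Matrix.SpecialLinearGroup (Fin 2) F) :
    ((Y⁻¹ * G : Matrix.SpecialLinearGroup (Fin 2) F) : Matrix (Fin 2) (Fin 2) F) =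
      !![Y.1 1 1, -Y.1 0 1; -Y.1 1 0, Y.1 0 0] * G.1 := by
  rw [Matrix.SpecialLinearGroup.coe_mul, Matrix.SpecialLinearGroup.coe_inv, Matrix.adjugate_fin_two]

theorem det_eq (A : Matrix.SpecialLinearGroup (Fin 2) F) :
    A.1 0 0 * A.1 1 1 - A.1 0 1 * A.1 1 0 = 1 := by
  have hdet := A.2
  rwa [Matrix.det_fin_two] at hdet

/-- a non-central element of SL2 has a conjugate with non-zero lower-left entry -/
theorem exists_conj_ne (A : Matrix.SpecialLinearGroup (Fin 2) F)
    (hA : A ∉ Subgroup.center (Matrix.SpecialLinearGroup (Fin 2) F)) :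
    ∃ V : Matrix.SpecialLinearGroup (Fin 2) F, (V * A * V⁻¹).1 1 0 ≠ 0 := by
  by_contra hcon
  push Not at hcon
  apply hA
  have h1 := hcon 1
  have h2 := hcon ww
  have h3 := hcon (ll 1)
  rw [conj_coe] at h1 h2 h3
  simp only [ww, ll, Matrix.mul_apply, Fin.sum_univ_two] at h1 h2 h3
  simp at h1 h2 h3
  have hdet := det_eq A
  rw [Matrix.SpecialLinearGroup.mem_center_iff]
  have h4 : A.1 1 1 = A.1 0 0 := by
    rw [h1, h2] at h3
    linear_combination -h3
  refine ⟨A.1 0 0, ?_, ?_⟩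
  · rw [Fintype.card_fin]
    rw [h1, h4] at hdet
    linear_combination hdet
  · ext i j
    fin_cases i <;> fin_cases j <;> simp [h1, h2, h4]

theorem trace_conj (D C : Matrix.SpecialLinearGroup (Fin 2) F) :
    Matrix.trace ((D * C * D⁻¹ : Matrix.SpecialLinearGroup (Fin 2) F) : Matrix (Fin 2) (Fin 2) F) =
      Matrix.trace (C : Matrix (Fin 2) (Fin 2) F) := by
  rw [Matrix.SpecialLinearGroup.coe_mul, Matrix.trace_mul_comm, ← Matrix.SpecialLinearGroup.coe_mul]
  simp

/-- Cayley-Hamilton for SL2 -/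
theorem cayley_hamilton (A : Matrix.SpecialLinearGroup (Fin 2) F) :
    A.1 * A.1 = (Matrix.trace A.1) • A.1 - 1 := by
  have hdet := det_eq A
  ext i j
  fin_cases i <;> fin_cases j <;>
    simp [Matrix.mul_apply, Fin.sum_univ_two, Matrix.trace_fin_two] <;>
    first | ring1 | linear_combination hdet | linear_combination (-1 : F) * hdet

theorem trace_sq (A : Matrix.SpecialLinearGroup (Fin 2) F) :
    Matrix.trace ((A * A : Matrix.SpecialLinearGroup (Fin 2) F) : Matrix (Fin 2) (Fin 2) F) =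
      (Matrix.trace A.1) ^ 2 - 2 := by
  rw [Matrix.SpecialLinearGroup.coe_mul, cayley_hamilton]
  simp [Matrix.trace_fin_two]
  ring

/-- an element of SL2 of trace 2 is unipotent: `(A - 1)^2 = 0` -/
theorem sub_one_sq_of_trace_two (A : Matrix.SpecialLinearGroup (Fin 2) F)
    (h : Matrix.trace A.1 = 2) : (A.1 - 1) * (A.1 - 1) = 0 := by
  have := cayley_hamilton A
  rw [h] at this
  rw [sub_mul, mul_sub, this]
  simp only [mul_one, one_mul]
  rw [two_smul]
  abel

theorem one_add_pow_of_sq_zero (N : Matrix (Fin 2) (Fin 2) F) (h : N * N = 0) (n : ℕ) :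
    (1 + N) ^ n = 1 + (n : F) • N := by
  induction n with
  | zero => simp
  | succ k ih =>
    rw [pow_succ, ih, add_mul, mul_add, mul_add, Matrix.smul_mul, Matrix.smul_mul, h]
    simp only [mul_one, one_mul, smul_zero, add_zero, Nat.cast_succ, add_smul, one_smul]
    abel

theorem pow_of_sub_one_sq (M : Matrix (Fin 2) (Fin 2) F) (h : (M - 1) * (M - 1) = 0) (n : ℕ) :
    M ^ n = 1 + (n : F) • (M - 1) := by
  have := one_add_pow_of_sq_zero (M - 1) h n
  rwa [add_sub_cancel] at this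

end

end Cfsg.Agent.Lib.Helper47
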