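import Mathlib
import Cfsg.Agent.Lib.Helper47.SL2

set_option autoImplicit false

namespace Cfsg.Agent.Lib.Helper47

open Matrix Polynomial

section
variable {F : Type*} [Field F] [Fintype F]

theorem two_ne_zero_of_odd_card (hodd : Fintype.card F % 2 = 1) : (2 : F) ≠ 0 := by
  have hchar : ringChar F ≠ 2 := fun h => by
    have := FiniteField.even_card_of_char_two h
    omega
  exact Ring.two_ne_zero hchar

/-- a nondegenerate binary quadratic form over a finite field of odd order represents 1 -/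
theorem form_repr_one (hodd : Fintype.card F % 2 = 1) (a b c : F) (ha : a ≠ 0)
    (hdisc : b ^ 2 - 4 * a * c ≠ 0) :
    ∃ v₀ v₁ : F, a * v₀ ^ 2 + b * v₀ * v₁ + c * v₁ ^ 2 = 1 := by
  have h2 : (2 : F) ≠ 0 := two_ne_zero_of_odd_card hodd
  have h4 : (4 : F) ≠ 0 := by
    have : (4 : F) = 2 * 2 := by norm_num
    rw [this]; exact mul_ne_zero h2 h2
  have hΔ4 : -((b ^ 2 - 4 * a * c) / 4) ≠ 0 := neg_ne_zero.mpr (div_ne_zero hdisc h4)
  obtain ⟨u, w, huw⟩ := FiniteField.exists_root_sum_quadratic (R := F)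
    (f := X ^ 2 - C a) (g := C (-((b ^ 2 - 4 * a * c) / 4)) * X ^ 2)
    (degree_X_pow_sub_C (by norm_num) _) (degree_C_mul_X_pow 2 hΔ4) hodd
  simp only [eval_sub, eval_pow, eval_X, eval_C, eval_mul] at huw
  refine ⟨(u - b / 2 * w) / a, w, ?_⟩
  field_simp
  field_simp at huw
  linear_combination (exp := 1) huw

theorem not_mem_center_of_trace (Y : Matrix.SpecialLinearGroup (Fin 2) F)
    (ht4 : (Matrix.trace Y.1) ^ 2 ≠ 4) : Y ∉ Subgroup.center (Matrix.SpecialLinearGroup (Fin 2) F) := by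
  intro hY
  obtain ⟨r, hr, hrY⟩ := Matrix.SpecialLinearGroup.mem_center_iff.mp hY
  rw [Fintype.card_fin] at hr
  apply ht4
  rw [← hrY]
  simp [Matrix.trace_fin_two]
  linear_combination 4 * hr

theorem conj_to_comp_aux (hodd : Fintype.card F % 2 = 1) (y : Matrix.SpecialLinearGroup (Fin 2) F)
    (hV : y.1 1 0 ≠ 0) (ht4 : (Matrix.trace y.1) ^ 2 ≠ 4) :
    ∃ P : Matrix.SpecialLinearGroup (Fin 2) F, y * P = P * comp (Matrix.trace y.1) := by
  have hdet := det_eq y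
  have htr' : Matrix.trace y.1 = y.1 0 0 + y.1 1 1 := by
    rw [Matrix.trace_fin_two]
  obtain ⟨v₀, v₁, hv⟩ := form_repr_one hodd (y.1 1 0) (y.1 1 1 - y.1 0 0) (-(y.1 0 1)) hV (by
    intro h
    apply ht4
    rw [htr']
    linear_combination h + 4 * hdet)
  obtain ⟨P, hP⟩ : ∃ P : Matrix.SpecialLinearGroup (Fin 2) F,
      (P : Matrix (Fin 2) (Fin 2) F) =
        !![v₀, y.1 0 0 * v₀ + y.1 0 1 * v₁; v₁, y.1 1 0 * v₀ + y.1 1 1 * v₁] := by
    refine ⟨⟨!![v₀, y.1 0 0 * v₀ + y.1 0 1 * v₁; v₁, y.1 1 0 * v₀ + y.1 1 1 * v₁], ?_⟩, rfl⟩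
    rw [Matrix.det_fin_two]
    simp
    linear_combination hv
  refine ⟨P, ?_⟩
  apply Matrix.SpecialLinearGroup.ext
  intro i j
  rw [Matrix.SpecialLinearGroup.coe_mul, Matrix.SpecialLinearGroup.coe_mul, hP, htr']
  fin_cases i <;> fin_cases j <;>
    simp [comp, Matrix.mul_apply, Fin.sum_univ_two] <;>
    first | ring1 | linear_combination (-v₀) * hdet | linear_combination (-v₁) * hdet | linear_combination (v₀) * hdet | linear_combination (v₁) * hdet

/-- an element of SL2 over a finite field of odd order whose trace `t` satisfies `t^2 ≠ 4` is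
conjugate in SL2 to the companion matrix -/
theorem conj_to_comp (hodd : Fintype.card F % 2 = 1) (Y : Matrix.SpecialLinearGroup (Fin 2) F)
    (ht4 : (Matrix.trace Y.1) ^ 2 ≠ 4) :
    ∃ S : Matrix.SpecialLinearGroup (Fin 2) F, S * Y * S⁻¹ = comp (Matrix.trace Y.1) := by
  obtain ⟨V, hV⟩ := exists_conj_ne Y (not_mem_center_of_trace Y ht4)
  have htr : Matrix.trace (V * Y * V⁻¹).1 = Matrix.trace Y.1 := trace_conj V Y
  obtain ⟨P, hP⟩ := conj_to_comp_aux hodd (V * Y * V⁻¹) hV (by rw [htr]; exact ht4)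
  rw [htr] at hP
  refine ⟨P⁻¹ * V, ?_⟩
  have : P⁻¹ * V * Y * (P⁻¹ * V)⁻¹ = P⁻¹ * (V * Y * V⁻¹ * P) := by group
  rw [this, hP, ← mul_assoc, inv_mul_cancel, one_mul]

end

end Cfsg.Agent.Lib.Helper47
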