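import Mathlib
import Cfsg.Agent.Lib.Helper47.SL2Finite

set_option autoImplicit false

namespace Cfsg.Agent.Lib.Helper47

open Matrix

section
variable {F : Type*} [Field F]

theorem sl2_mul_apply (g h : Matrix.SpecialLinearGroup (Fin 2) F) (i j : Fin 2) :
    (g * h).1 i j = g.1 i 0 * h.1 0 j + g.1 i 1 * h.1 1 j := by
  rw [Matrix.SpecialLinearGroup.coe_mul, Matrix.mul_apply, Fin.sum_univ_two]

theorem sl2_inv_val (g : Matrix.SpecialLinearGroup (Fin 2) F) :
    (g⁻¹).1 = !![g.1 1 1, -g.1 0 1; -g.1 1 0, g.1 0 0] := by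
  rw [Matrix.SpecialLinearGroup.coe_inv, Matrix.adjugate_fin_two]

theorem sl2_inv_00 (g : Matrix.SpecialLinearGroup (Fin 2) F) : (g⁻¹).1 0 0 = g.1 1 1 := by
  rw [sl2_inv_val]; rfl
theorem sl2_inv_01 (g : Matrix.SpecialLinearGroup (Fin 2) F) : (g⁻¹).1 0 1 = -g.1 0 1 := by
  rw [sl2_inv_val]; rfl
theorem sl2_inv_10 (g : Matrix.SpecialLinearGroup (Fin 2) F) : (g⁻¹).1 1 0 = -g.1 1 0 := by
  rw [sl2_inv_val]; rfl
theorem sl2_inv_11 (g : Matrix.SpecialLinearGroup (Fin 2) F) : (g⁻¹).1 1 1 = g.1 0 0 := by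
  rw [sl2_inv_val]; rfl

theorem sl2_ext {g h : Matrix.SpecialLinearGroup (Fin 2) F} (h00 : g.1 0 0 = h.1 0 0)
    (h01 : g.1 0 1 = h.1 0 1) (h10 : g.1 1 0 = h.1 1 0) (h11 : g.1 1 1 = h.1 1 1) : g = h := by
  apply Subtype.ext
  ext i j
  fin_cases i <;> fin_cases j
  · exact h00
  · exact h01
  · exact h10
  · exact h11

/-- `g` lies in the quadratic subalgebra `F[J]`, where `J = !![0, δ; 1, 0]` -/
def IsNs (δ : F) (g : Matrix.SpecialLinearGroup (Fin 2) F) : Prop :=
  g.1 0 0 = g.1 1 1 ∧ g.1 0 1 = δ * g.1 1 0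

/-- `g` anticommutes with `J = !![0, δ; 1, 0]` -/
def IsNsAnti (δ : F) (g : Matrix.SpecialLinearGroup (Fin 2) F) : Prop :=
  g.1 1 1 = -g.1 0 0 ∧ g.1 0 1 = -(δ * g.1 1 0)

variable {δ : F}

theorem IsNs.mul {g h : Matrix.SpecialLinearGroup (Fin 2) F} (hg : IsNs δ g) (hh : IsNs δ h) :
    IsNs δ (g * h) := by
  obtain ⟨g1, g2⟩ := hg
  obtain ⟨h1, h2⟩ := hh
  constructor
  · rw [sl2_mul_apply, sl2_mul_apply, g2, h2, ← g1, ← h1]; ring
  · rw [sl2_mul_apply, sl2_mul_apply, g2, h2, ← g1, ← h1]; ring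

theorem IsNs.one : IsNs δ (1 : Matrix.SpecialLinearGroup (Fin 2) F) := by
  constructor <;> simp

theorem IsNs.inv {g : Matrix.SpecialLinearGroup (Fin 2) F} (hg : IsNs δ g) : IsNs δ g⁻¹ := by
  obtain ⟨g1, g2⟩ := hg
  constructor
  · rw [sl2_inv_00, sl2_inv_11, g1]
  · rw [sl2_inv_01, sl2_inv_10, g2]; ring

/-- the non-split torus (for `δ` a non-square) -/
def nsTorus (δ : F) : Subgroup (Matrix.SpecialLinearGroup (Fin 2) F) where
  carrier := {g | IsNs δ g}
  mul_mem' := fun ha hb => IsNs.mul ha hb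
  one_mem' := IsNs.one
  inv_mem' := fun ha => IsNs.inv ha

theorem mem_nsTorus_iff (g : Matrix.SpecialLinearGroup (Fin 2) F) : g ∈ nsTorus δ ↔ IsNs δ g :=
  Iff.rfl

theorem IsNs.det {g : Matrix.SpecialLinearGroup (Fin 2) F} (hg : IsNs δ g) :
    g.1 0 0 ^ 2 - δ * g.1 1 0 ^ 2 = 1 := by
  have := det_eq g
  rw [← hg.1, hg.2] at this
  linear_combination this

theorem IsNsAnti.det {g : Matrix.SpecialLinearGroup (Fin 2) F} (hg : IsNsAnti δ g) :
    g.1 0 0 ^ 2 - δ * g.1 1 0 ^ 2 = -1 := by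
  have := det_eq g
  rw [hg.1, hg.2] at this
  linear_combination -this

theorem IsNs.comm {g h : Matrix.SpecialLinearGroup (Fin 2) F} (hg : IsNs δ g) (hh : IsNs δ h) :
    g * h = h * g := by
  obtain ⟨g1, g2⟩ := hg
  obtain ⟨h1, h2⟩ := hh
  apply sl2_ext <;> simp only [sl2_mul_apply, g2, h2, g1, h1] <;> ring

/-- the centralizer of a non-scalar element of the torus lies in the torus -/
theorem IsNs.of_commute {g h : Matrix.SpecialLinearGroup (Fin 2) F} (hg : IsNs δ g)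
    (hy : g.1 1 0 ≠ 0) (hc : h * g = g * h) : IsNs δ h := by
  obtain ⟨g1, g2⟩ := hg
  have c00 := congrArg (fun M : Matrix.SpecialLinearGroup (Fin 2) F => M.1 0 0) hc
  have c10 := congrArg (fun M : Matrix.SpecialLinearGroup (Fin 2) F => M.1 1 0) hc
  simp only [sl2_mul_apply] at c00 c10
  rw [g2] at c00
  rw [← g1] at c10
  constructor
  · have : g.1 1 0 * (h.1 0 0 - h.1 1 1) = 0 := by linear_combination -c10
    rcases mul_eq_zero.mp this with h | h
    · exact absurd h hy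
    · exact sub_eq_zero.mp h
  · have : g.1 1 0 * (h.1 0 1 - δ * h.1 1 0) = 0 := by linear_combination c00
    rcases mul_eq_zero.mp this with h | h
    · exact absurd h hy
    · exact sub_eq_zero.mp h

/-- an element inverting a non-scalar element of the torus is of anti type -/
theorem IsNsAnti.of_conj {g h : Matrix.SpecialLinearGroup (Fin 2) F} (hg : IsNs δ g)
    (hy : g.1 1 0 ≠ 0) (hc : h * g = g⁻¹ * h) : IsNsAnti δ h := by
  obtain ⟨g1, g2⟩ := hg
  have c00 := congrArg (fun M : Matrix.SpecialLinearGroup (Fin 2) F => M.1 0 0) hc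
  have c10 := congrArg (fun M : Matrix.SpecialLinearGroup (Fin 2) F => M.1 1 0) hc
  simp only [sl2_mul_apply, sl2_inv_00, sl2_inv_01, sl2_inv_10, sl2_inv_11] at c00 c10
  constructor
  · have : g.1 1 0 * (h.1 1 1 + h.1 0 0) = 0 := by linear_combination c10
    rcases mul_eq_zero.mp this with h | h
    · exact absurd h hy
    · exact eq_neg_of_add_eq_zero_left h
  · have : g.1 1 0 * (h.1 0 1 + δ * h.1 1 0) = 0 := by
      linear_combination c00 - h.1 0 0 * g1 - h.1 1 0 * g2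
    rcases mul_eq_zero.mp this with h | h
    · exact absurd h hy
    · exact eq_neg_of_add_eq_zero_left h

/-- elements of anti type invert the torus -/
theorem IsNsAnti.conj {g h : Matrix.SpecialLinearGroup (Fin 2) F} (hh : IsNsAnti δ h)
    (hg : IsNs δ g) : h * g = g⁻¹ * h := by
  obtain ⟨g1, g2⟩ := hg
  obtain ⟨h1, h2⟩ := hh
  apply sl2_ext <;>
    simp only [sl2_mul_apply, sl2_inv_00, sl2_inv_01, sl2_inv_10, sl2_inv_11, g2, h2, h1, g1] <;>
    ring

theorem IsNsAnti.conj' {g h : Matrix.SpecialLinearGroup (Fin 2) F} (hh : IsNsAnti δ h)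
    (hg : IsNs δ g) : h * g * h⁻¹ = g⁻¹ := by
  rw [hh.conj hg, mul_assoc, mul_inv_cancel, mul_one]

theorem IsNsAnti.inv {g : Matrix.SpecialLinearGroup (Fin 2) F} (hg : IsNsAnti δ g) :
    IsNsAnti δ g⁻¹ := by
  obtain ⟨g1, g2⟩ := hg
  constructor
  · rw [sl2_inv_00, sl2_inv_11, g1, neg_neg]
  · rw [sl2_inv_01, sl2_inv_10, g2]; ring

theorem IsNsAnti.mul {g h : Matrix.SpecialLinearGroup (Fin 2) F} (hg : IsNsAnti δ g)
    (hh : IsNsAnti δ h) : IsNs δ (g * h) := by
  obtain ⟨g1, g2⟩ := hg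
  obtain ⟨h1, h2⟩ := hh
  constructor
  · rw [sl2_mul_apply, sl2_mul_apply, g2, h2, g1, h1]; ring
  · rw [sl2_mul_apply, sl2_mul_apply, g2, h2, g1, h1]; ring

/-- the square of an element of anti type is `-1` -/
theorem IsNsAnti.mul_self {g : Matrix.SpecialLinearGroup (Fin 2) F} (hg : IsNsAnti δ g) :
    (g * g).1 = -1 := by
  have hdet := hg.det
  obtain ⟨g1, g2⟩ := hg
  have e00 : (g * g).1 0 0 = -1 := by
    rw [sl2_mul_apply, g2]; linear_combination hdet
  have e01 : (g * g).1 0 1 = 0 := by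
    rw [sl2_mul_apply, g2, g1]; ring
  have e10 : (g * g).1 1 0 = 0 := by
    rw [sl2_mul_apply, g1]; ring
  have e11 : (g * g).1 1 1 = -1 := by
    rw [sl2_mul_apply, g2, g1]; linear_combination hdet
  ext i j
  fin_cases i <;> fin_cases j
  · simpa using e00
  · simpa using e01
  · simpa using e10
  · simpa using e11

/-- an element of the torus with vanishing lower left entry is `± 1` -/
theorem IsNs.eq_of_zero {g : Matrix.SpecialLinearGroup (Fin 2) F} (hg : IsNs δ g)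
    (hy : g.1 1 0 = 0) : g.1 = 1 ∨ g.1 = -1 := by
  have hdet := hg.det
  obtain ⟨g1, g2⟩ := hg
  rw [hy] at hdet g2
  have hx : (g.1 0 0 - 1) * (g.1 0 0 + 1) = 0 := by linear_combination hdet
  rcases mul_eq_zero.mp hx with hx | hx
  · left
    have h00 : g.1 0 0 = 1 := sub_eq_zero.mp hx
    ext i j
    fin_cases i <;> fin_cases j
    · simpa using h00
    · simpa using g2
    · simpa using hy
    · simpa using (g1 ▸ h00)
  · right
    have h00 : g.1 0 0 = -1 := eq_neg_of_add_eq_zero_left hx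
    ext i j
    fin_cases i <;> fin_cases j
    · simpa using h00
    · simpa using g2
    · simpa using hy
    · simpa using (g1 ▸ h00)

end

end Cfsg.Agent.Lib.Helper47
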