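import Mathlib
import Cfsg.Agent.Lib.Helper47.NonSplitTorus

set_option autoImplicit false

namespace Cfsg.Agent.Lib.Helper47

open Matrix

section
variable {F : Type*} [Field F] {δ : F}

theorem ns_denom_ne_zero (hδ : ¬ IsSquare δ) (t : F) : δ * t ^ 2 - 1 ≠ 0 := by
  intro h
  apply hδ
  have ht : t ≠ 0 := by
    rintro rfl
    simp at h
  refine ⟨t⁻¹, ?_⟩
  field_simp
  linear_combination h

theorem ns_delta_ne_zero (hδ : ¬ IsSquare δ) : δ ≠ 0 := by
  rintro rfl
  exact hδ ⟨0, by simp⟩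

/-- the non-split torus is cyclic -/
theorem nsTorus_isCyclic [Finite F] (hδ : ¬ IsSquare δ) : IsCyclic (nsTorus δ) := by
  have : Fact (∀ r : F, r ^ 2 ≠ δ + 0 * r) :=
    ⟨fun r h => hδ ⟨r, by rw [← pow_two, h]; ring⟩⟩
  let φ : nsTorus δ →* QuadraticAlgebra F δ 0 :=
    { toFun := fun g => ⟨g.1.1 0 0, g.1.1 1 0⟩
      map_one' := by
        ext <;> simp [QuadraticAlgebra.re_one, QuadraticAlgebra.im_one]
      map_mul' := by
        intro g h
        have g1 := g.2.1
        have g2 := g.2.2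
        ext
        · simp only [Subgroup.coe_mul, sl2_mul_apply, QuadraticAlgebra.re_mul, g2]
        · simp only [Subgroup.coe_mul, sl2_mul_apply, QuadraticAlgebra.im_mul, ← g1]
          ring }
  have hφ : Function.Injective φ := by
    intro g h hgh
    have h1 : g.1.1 0 0 = h.1.1 0 0 := congrArg QuadraticAlgebra.re hgh
    have h2 : g.1.1 1 0 = h.1.1 1 0 := congrArg QuadraticAlgebra.im hgh
    apply Subtype.ext
    apply sl2_ext
    · exact h1
    · rw [g.2.2, h.2.2, h2]
    · exact h2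
    · rw [← g.2.1, ← h.2.1]; exact h1
  exact isCyclic_of_injective_ringHom φ hφ

/-- the rational parametrization of the conic `x² - δ y² = 1` -/
def nsPoint (δ t : F) (h : δ * t ^ 2 - 1 ≠ 0) : Matrix.SpecialLinearGroup (Fin 2) F :=
  ⟨!![(δ * t ^ 2 + 1) / (δ * t ^ 2 - 1), δ * (2 * t / (δ * t ^ 2 - 1));
      2 * t / (δ * t ^ 2 - 1), (δ * t ^ 2 + 1) / (δ * t ^ 2 - 1)], by
    rw [Matrix.det_fin_two_of]
    field_simp
    ring⟩

theorem nsPoint_00 (t : F) (h : δ * t ^ 2 - 1 ≠ 0) :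
    (nsPoint δ t h).1 0 0 = (δ * t ^ 2 + 1) / (δ * t ^ 2 - 1) := rfl
theorem nsPoint_01 (t : F) (h : δ * t ^ 2 - 1 ≠ 0) :
    (nsPoint δ t h).1 0 1 = δ * (2 * t / (δ * t ^ 2 - 1)) := rfl
theorem nsPoint_10 (t : F) (h : δ * t ^ 2 - 1 ≠ 0) :
    (nsPoint δ t h).1 1 0 = 2 * t / (δ * t ^ 2 - 1) := rfl
theorem nsPoint_11 (t : F) (h : δ * t ^ 2 - 1 ≠ 0) :
    (nsPoint δ t h).1 1 1 = (δ * t ^ 2 + 1) / (δ * t ^ 2 - 1) := rfl

theorem nsPoint_isNs (t : F) (h : δ * t ^ 2 - 1 ≠ 0) : IsNs δ (nsPoint δ t h) :=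
  ⟨rfl, rfl⟩

/-- parametrization of the torus by the projective line -/
noncomputable def nsParam (hδ : ¬ IsSquare δ) : Option F → nsTorus δ
  | none => 1
  | some t => ⟨nsPoint δ t (ns_denom_ne_zero hδ t), nsPoint_isNs t _⟩

theorem nsParam_bijective (h2 : (2 : F) ≠ 0) (hδ : ¬ IsSquare δ) :
    Function.Bijective (nsParam hδ) := by
  have hδ0 := ns_delta_ne_zero hδ
  have key1 : ∀ t : F, (nsPoint δ t (ns_denom_ne_zero hδ t)).1 0 0 - 1 = 2 / (δ * t ^ 2 - 1) := by
    intro t
    have := ns_denom_ne_zero hδ t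
    rw [nsPoint_00]
    field_simp
    ring
  have key2 : ∀ t : F, (nsPoint δ t (ns_denom_ne_zero hδ t)).1 1 0 =
      t * ((nsPoint δ t (ns_denom_ne_zero hδ t)).1 0 0 - 1) := by
    intro t
    rw [key1, nsPoint_10]
    ring
  have key3 : ∀ t : F, (nsPoint δ t (ns_denom_ne_zero hδ t)).1 0 0 - 1 ≠ 0 := by
    intro t
    rw [key1]
    exact div_ne_zero h2 (ns_denom_ne_zero hδ t)
  constructor
  · rintro (_ | t) (_ | t') h
    · rfl
    · exfalso
      have := congrArg (fun g : nsTorus δ => g.1.1 0 0 - 1) h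
      simp only [nsParam] at this
      apply key3 t'
      rw [← this]
      simp
    · exfalso
      have := congrArg (fun g : nsTorus δ => g.1.1 0 0 - 1) h
      simp only [nsParam] at this
      apply key3 t
      rw [this]
      simp
    · have hh : nsPoint δ t (ns_denom_ne_zero hδ t) = nsPoint δ t' (ns_denom_ne_zero hδ t') :=
        congrArg Subtype.val h
      have e1 := key2 t
      have e2 := key2 t'
      rw [hh] at e1
      rw [e1] at e2
      have := mul_right_cancel₀ (key3 t') e2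
      rw [this]
  · rintro ⟨g, hg⟩
    have hdet := hg.det
    by_cases hx : g.1 0 0 = 1
    · refine ⟨none, ?_⟩
      apply Subtype.ext
      simp only [nsParam]
      have hy : g.1 1 0 = 0 := by
        rw [hx] at hdet
        have : δ * g.1 1 0 ^ 2 = 0 := by linear_combination -hdet
        rcases mul_eq_zero.mp this with h | h
        · exact absurd h hδ0
        · exact pow_eq_zero_iff (two_ne_zero) |>.mp h
      apply sl2_ext
      · simp [hx]
      · rw [hg.2, hy]; simp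
      · simp [hy]
      · rw [← hg.1]; simp [hx]
    · have hx' : g.1 0 0 - 1 ≠ 0 := sub_ne_zero.mpr hx
      refine ⟨some (g.1 1 0 / (g.1 0 0 - 1)), ?_⟩
      apply Subtype.ext
      simp only [nsParam]
      have hden := ns_denom_ne_zero hδ (g.1 1 0 / (g.1 0 0 - 1))
      have e : δ * (g.1 1 0 / (g.1 0 0 - 1)) ^ 2 - 1 = 2 / (g.1 0 0 - 1) := by
        field_simp
        linear_combination -hdet
      have e00 : (δ * (g.1 1 0 / (g.1 0 0 - 1)) ^ 2 + 1) / (δ * (g.1 1 0 / (g.1 0 0 - 1)) ^ 2 - 1) =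
          g.1 0 0 := by
        have e' : δ * (g.1 1 0 / (g.1 0 0 - 1)) ^ 2 + 1 = 2 / (g.1 0 0 - 1) + 2 := by
          rw [← e]; ring
        rw [e', e]
        field_simp
        ring
      have e10 : 2 * (g.1 1 0 / (g.1 0 0 - 1)) / (δ * (g.1 1 0 / (g.1 0 0 - 1)) ^ 2 - 1) =
          g.1 1 0 := by
        rw [e]
        field_simp
      apply sl2_ext
      · rw [nsPoint_00, e00]
      · rw [nsPoint_01, e10, hg.2]
      · rw [nsPoint_10, e10]
      · rw [nsPoint_11, e00, hg.1]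

theorem card_nsTorus [Fintype F] (hodd : Fintype.card F % 2 = 1) (hδ : ¬ IsSquare δ) :
    Nat.card (nsTorus δ) = Fintype.card F + 1 := by
  have h2 := two_ne_zero_of_odd_card hodd
  rw [← Nat.card_congr (Equiv.ofBijective _ (nsParam_bijective h2 hδ)), Nat.card_eq_fintype_card,
    Fintype.card_option]

end

end Cfsg.Agent.Lib.Helper47
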