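import Mathlib
import Cfsg.Agent.Lib.Helper47.NonSplitFinite
import Cfsg.Agent.Lib.Helper47.DicyclicCount

set_option autoImplicit false

namespace Cfsg.Agent.Lib.Helper47

open Matrix

section
variable {F : Type*} [Field F] {δ : F}

theorem IsNsAnti.not_isNs (h2 : (2 : F) ≠ 0) {g : Matrix.SpecialLinearGroup (Fin 2) F}
    (hg : IsNsAnti δ g) : ¬ IsNs δ g := by
  intro hn
  have hdet := hg.det
  have hdet' := hn.det
  apply h2
  linear_combination hdet - hdet'

/-- existence of a non-scalar element of the torus -/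
theorem exists_ns_nonscalar (h2 : (2 : F) ≠ 0) (hδ : ¬ IsSquare δ) :
    ∃ g : Matrix.SpecialLinearGroup (Fin 2) F, IsNs δ g ∧ g.1 1 0 ≠ 0 := by
  refine ⟨nsPoint δ 1 (ns_denom_ne_zero hδ 1), nsPoint_isNs _ _, ?_⟩
  rw [nsPoint_10]
  exact div_ne_zero (mul_ne_zero h2 one_ne_zero) (ns_denom_ne_zero hδ 1)

theorem mem_normalizer_nsTorus_of_anti {g : Matrix.SpecialLinearGroup (Fin 2) F}
    (hg : IsNsAnti δ g) :
    g ∈ Subgroup.normalizer ((nsTorus δ : Subgroup _) : Set (Matrix.SpecialLinearGroup (Fin 2) F)) := by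
  rw [Subgroup.mem_normalizer_iff]
  intro h
  constructor
  · intro hh
    rw [hg.conj' hh]
    exact (nsTorus δ).inv_mem hh
  · intro hk
    have := hg.inv.conj' hk
    rw [inv_inv] at this
    have e : g⁻¹ * (g * h * g⁻¹) * g = h := by group
    rw [e] at this
    rw [this]
    exact (nsTorus δ).inv_mem hk

/-- the normalizer of the non-split torus -/
theorem mem_normalizer_nsTorus_iff (h2 : (2 : F) ≠ 0) (hδ : ¬ IsSquare δ)
    (g : Matrix.SpecialLinearGroup (Fin 2) F) :
    g ∈ Subgroup.normalizer ((nsTorus δ : Subgroup _) : Set (Matrix.SpecialLinearGroup (Fin 2) F)) ↔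
      IsNs δ g ∨ IsNsAnti δ g := by
  have hδ0 := ns_delta_ne_zero hδ
  constructor
  · intro hg
    obtain ⟨g₀, hg₀, hy₀⟩ := exists_ns_nonscalar h2 hδ
    have hk : IsNs δ (g * g₀ * g⁻¹) := (Subgroup.mem_normalizer_iff.mp hg g₀).mp hg₀
    have htr := trace_conj g g₀
    rw [Matrix.trace_fin_two, Matrix.trace_fin_two] at htr
    have hx : (g * g₀ * g⁻¹).1 0 0 = g₀.1 0 0 := by
      have e1 := hk.1
      have e2 := hg₀.1
      have : (2 : F) * ((g * g₀ * g⁻¹).1 0 0 - g₀.1 0 0) = 0 := by
        linear_combination htr + e1 - e2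
      rcases mul_eq_zero.mp this with h | h
      · exact absurd h h2
      · exact sub_eq_zero.mp h
    have hd1 := hk.det
    have hd2 := hg₀.det
    rw [hx] at hd1
    have hy : ((g * g₀ * g⁻¹).1 1 0 - g₀.1 1 0) * ((g * g₀ * g⁻¹).1 1 0 + g₀.1 1 0) = 0 := by
      have : δ * (((g * g₀ * g⁻¹).1 1 0 - g₀.1 1 0) * ((g * g₀ * g⁻¹).1 1 0 + g₀.1 1 0)) = 0 := by
        linear_combination hd2 - hd1
      rcases mul_eq_zero.mp this with h | h
      · exact absurd h hδ0
      · exact h
    rcases mul_eq_zero.mp hy with hy | hy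
    · left
      have hy' : (g * g₀ * g⁻¹).1 1 0 = g₀.1 1 0 := sub_eq_zero.mp hy
      have e : g * g₀ * g⁻¹ = g₀ := by
        apply sl2_ext
        · exact hx
        · rw [hk.2, hg₀.2, hy']
        · exact hy'
        · rw [← hk.1, ← hg₀.1]; exact hx
      apply IsNs.of_commute hg₀ hy₀
      calc g * g₀ = g * g₀ * g⁻¹ * g := by group
        _ = g₀ * g := by rw [e]
    · right
      have hy' : (g * g₀ * g⁻¹).1 1 0 = -g₀.1 1 0 := eq_neg_of_add_eq_zero_left hy
      have e : g * g₀ * g⁻¹ = g₀⁻¹ := by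
        apply sl2_ext
        · rw [sl2_inv_00, ← hg₀.1]; exact hx
        · rw [sl2_inv_01, hk.2, hg₀.2, hy']; ring
        · rw [sl2_inv_10]; exact hy'
        · rw [sl2_inv_11, ← hk.1]; exact hx
      apply IsNsAnti.of_conj hg₀ hy₀
      calc g * g₀ = g * g₀ * g⁻¹ * g := by group
        _ = g₀⁻¹ * g := by rw [e]
  · rintro (hg | hg)
    · exact Subgroup.le_normalizer hg
    · exact mem_normalizer_nsTorus_of_anti hg

/-- the centralizer of a non-scalar element of the torus -/
theorem centralizer_ns_eq {g : Matrix.SpecialLinearGroup (Fin 2) F} (hg : IsNs δ g)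
    (hy : g.1 1 0 ≠ 0) :
    Subgroup.centralizer ({g} : Set (Matrix.SpecialLinearGroup (Fin 2) F)) = nsTorus δ := by
  ext h
  rw [Subgroup.mem_centralizer_iff, mem_nsTorus_iff]
  constructor
  · intro hc
    exact IsNs.of_commute hg hy (hc g rfl).symm
  · intro hh k hk
    rw [Set.mem_singleton_iff] at hk
    subst hk
    exact IsNs.comm hg hh

theorem centralizer_nsTorus_eq (h2 : (2 : F) ≠ 0) (hδ : ¬ IsSquare δ) :
    Subgroup.centralizer ((nsTorus δ : Subgroup _) : Set (Matrix.SpecialLinearGroup (Fin 2) F)) =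
      nsTorus δ := by
  obtain ⟨g₀, hg₀, hy₀⟩ := exists_ns_nonscalar h2 hδ
  ext h
  rw [Subgroup.mem_centralizer_iff, mem_nsTorus_iff]
  constructor
  · intro hc
    exact IsNs.of_commute hg₀ hy₀ (hc g₀ hg₀).symm
  · intro hh k hk
    exact IsNs.comm hk hh

/-- elements of the torus of square one -/
theorem IsNs.eq_of_mul_self (h2 : (2 : F) ≠ 0) (hδ0 : δ ≠ 0)
    {t : Matrix.SpecialLinearGroup (Fin 2) F} (ht : IsNs δ t) (htt : t * t = 1) :
    t = 1 ∨ t = negOne := by
  have hdet := ht.det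
  have e00 := congrArg (fun M : Matrix.SpecialLinearGroup (Fin 2) F => M.1 0 0) htt
  simp only [sl2_mul_apply] at e00
  rw [ht.2] at e00
  have hy : t.1 1 0 = 0 := by
    have : (2 : F) * δ * (t.1 1 0 * t.1 1 0) = 0 := by
      have h1 : (1 : Matrix.SpecialLinearGroup (Fin 2) F).1 0 0 = 1 := by simp
      rw [h1] at e00
      linear_combination e00 - hdet
    rcases mul_eq_zero.mp this with h | h
    · exact absurd h (mul_ne_zero h2 hδ0)
    · exact mul_self_eq_zero.mp h
  rcases ht.eq_of_zero hy with h | h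
  · left
    apply Subtype.ext
    rw [h]; rfl
  · right
    apply Subtype.ext
    rw [h]
    ext i j
    fin_cases i <;> fin_cases j <;> simp [negOne]

theorem negOne_isNs : IsNs δ (negOne : Matrix.SpecialLinearGroup (Fin 2) F) := by
  constructor <;> simp [negOne]

theorem negOne_ne_one (h2 : (2 : F) ≠ 0) : (negOne : Matrix.SpecialLinearGroup (Fin 2) F) ≠ 1 := by
  intro h
  have := congrArg (fun M : Matrix.SpecialLinearGroup (Fin 2) F => M.1 0 0) h
  simp [negOne] at this
  apply h2
  linear_combination -this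

theorem negOne_mul_self : (negOne : Matrix.SpecialLinearGroup (Fin 2) F) * negOne = 1 := by
  apply sl2_ext <;> rw [sl2_mul_apply] <;> simp [negOne]

end

section finite
variable {F : Type*} [Field F] [Fintype F] {δ : F}

/-- existence of an element of anti type -/
theorem exists_nsAnti (hodd : Fintype.card F % 2 = 1) (hδ0 : δ ≠ 0) :
    ∃ h : Matrix.SpecialLinearGroup (Fin 2) F, IsNsAnti δ h := by
  have h2 := two_ne_zero_of_odd_card hodd
  obtain ⟨v₀, v₁, hv⟩ := form_repr_one hodd (-1) 0 δ (by simp) (by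
    have : (4 : F) = 2 * 2 := by norm_num
    simp only [ne_eq, zero_pow, OfNat.ofNat_ne_zero, not_false_eq_true, mul_neg, mul_one, neg_mul,
      sub_neg_eq_add, zero_add, mul_eq_zero, not_or]
    rw [this]
    exact ⟨mul_ne_zero h2 h2, hδ0⟩)
  refine ⟨⟨!![v₀, -(δ * v₁); v₁, -v₀], ?_⟩, ?_, ?_⟩
  · rw [Matrix.det_fin_two_of]
    linear_combination hv
  · rfl
  · rfl

/-- order and class number of the normalizer of the non-split torus -/
theorem card_normalizer_nsTorus (hodd : Fintype.card F % 2 = 1) (hδ : ¬ IsSquare δ) :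
    Nat.card (Subgroup.normalizer
      ((nsTorus δ : Subgroup _) : Set (Matrix.SpecialLinearGroup (Fin 2) F))) =
      2 * (Fintype.card F + 1) ∧
    2 * Nat.card (ConjClasses (Subgroup.normalizer
      ((nsTorus δ : Subgroup _) : Set (Matrix.SpecialLinearGroup (Fin 2) F)))) =
      Fintype.card F + 1 + 6 := by
  classical
  have h2 := two_ne_zero_of_odd_card hodd
  have hδ0 := ns_delta_ne_zero hδ
  obtain ⟨h₀, hh₀⟩ := exists_nsAnti hodd hδ0
  have key := card_conjClasses_of_indexTwo'
    (Subgroup.normalizer ((nsTorus δ : Subgroup _) : Set (Matrix.SpecialLinearGroup (Fin 2) F)))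
    (nsTorus δ) Subgroup.le_normalizer h₀ (mem_normalizer_nsTorus_of_anti hh₀)
    (hh₀.not_isNs h2)
    (by
      intro g hg hgT
      rcases (mem_normalizer_nsTorus_iff h2 hδ g).mp hg with h | h
      · exact absurd h hgT
      · exact h.mul hh₀.inv)
    (fun a ha b hb => IsNs.comm ha hb)
    (fun t ht => hh₀.conj' ht)
    negOne negOne_isNs (negOne_ne_one h2) negOne_mul_self
    (fun t ht htt => IsNs.eq_of_mul_self h2 hδ0 ht htt)
  rw [card_nsTorus hodd hδ] at key
  exact key

end finite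

end Cfsg.Agent.Lib.Helper47
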