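import Mathlib
import Cfsg.Agent.Lib.Helper47.NonSplitNormalizer

set_option autoImplicit false

namespace Cfsg.Agent.Lib.Helper47

open Matrix

section
variable {F : Type*} [Field F]

/-- if `tr(g)² - 4` is a square then `g` has an eigenvector -/
theorem exists_eigenvector_of_sq (h2 : (2 : F) ≠ 0) (g : Matrix.SpecialLinearGroup (Fin 2) F)
    (r : F) (hr : r ^ 2 = (g.1 0 0 + g.1 1 1) ^ 2 - 4) :
    ∃ (c : F) (v : Fin 2 → F), v ≠ 0 ∧ g.1.mulVec v = c • v := by
  have hdet := det_eq g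
  set c := (g.1 0 0 + g.1 1 1 + r) / 2 with hc
  have hroot : c ^ 2 - (g.1 0 0 + g.1 1 1) * c + 1 = 0 := by
    rw [hc]
    field_simp
    linear_combination hr
  have hd : (g.1 - c • (1 : Matrix (Fin 2) (Fin 2) F)).det = 0 := by
    rw [Matrix.det_fin_two]
    simp only [Matrix.sub_apply, Matrix.smul_apply, Matrix.one_apply_eq, Matrix.one_apply_ne,
      ne_eq, zero_ne_one, one_ne_zero, not_false_eq_true, smul_eq_mul, mul_one, mul_zero, sub_zero]
    linear_combination hroot + hdet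
  obtain ⟨v, hv, hmv⟩ := Matrix.exists_mulVec_eq_zero_iff.mpr hd
  refine ⟨c, v, hv, ?_⟩
  rw [Matrix.sub_mulVec, sub_eq_zero, Matrix.smul_mulVec, Matrix.one_mulVec] at hmv
  exact hmv

end

section finite
variable {F : Type*} [Field F] [Fintype F] {δ : F}

/-- the quotient of two non-squares is a square -/
theorem exists_eq_mul_sq_of_not_isSquare {d : F}
    (hδ : ¬ IsSquare δ) (hd : ¬ IsSquare d) : ∃ s : F, d = δ * s ^ 2 := by
  classical
  have hδ0 := ns_delta_ne_zero hδ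
  have hd0 := ns_delta_ne_zero hd
  have h1 := quadraticChar_neg_one_iff_not_isSquare.mpr hδ
  have h2 := quadraticChar_neg_one_iff_not_isSquare.mpr hd
  have h3 : quadraticChar F (d * δ) = 1 := by
    rw [map_mul, h1, h2]; norm_num
  obtain ⟨r, hr⟩ := (quadraticChar_one_iff_isSquare (mul_ne_zero hd0 hδ0)).mp h3
  refine ⟨r / δ, ?_⟩
  field_simp
  linear_combination hr

/-- every element of `SL2` without eigenvector is conjugate into the non-split torus -/
theorem exists_conj_mem_nsTorus (hodd : Fintype.card F % 2 = 1) (hδ : ¬ IsSquare δ)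
    (g : Matrix.SpecialLinearGroup (Fin 2) F)
    (hg : ∀ (c : F) (v : Fin 2 → F), v ≠ 0 → g.1.mulVec v ≠ c • v) :
    ∃ h : Matrix.SpecialLinearGroup (Fin 2) F, h * g * h⁻¹ ∈ nsTorus δ := by
  have h2 := two_ne_zero_of_odd_card hodd
  have h4 : (4 : F) ≠ 0 := by
    have : (4 : F) = 2 * 2 := by norm_num
    rw [this]; exact mul_ne_zero h2 h2
  set t := g.1 0 0 + g.1 1 1 with ht
  have hd : ¬ IsSquare (t ^ 2 - 4) := by
    rintro ⟨r, hr⟩
    obtain ⟨c, v, hv, hcv⟩ := exists_eigenvector_of_sq h2 g r (by rw [← ht, hr]; ring)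
    exact hg c v hv hcv
  have hd0 := ns_delta_ne_zero hd
  obtain ⟨s, hs⟩ := exists_eq_mul_sq_of_not_isSquare hδ hd
  obtain ⟨m, hm⟩ : ∃ m : Matrix.SpecialLinearGroup (Fin 2) F,
      (m : Matrix (Fin 2) (Fin 2) F) = !![t / 2, δ * (s / 2); s / 2, t / 2] := by
    refine ⟨⟨!![t / 2, δ * (s / 2); s / 2, t / 2], ?_⟩, rfl⟩
    rw [Matrix.det_fin_two_of]
    field_simp
    linear_combination hs
  have hmT : IsNs δ m := by
    constructor
    · change (m : Matrix (Fin 2) (Fin 2) F) 0 0 = (m : Matrix (Fin 2) (Fin 2) F) 1 1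
      rw [hm]; rfl
    · change (m : Matrix (Fin 2) (Fin 2) F) 0 1 = δ * (m : Matrix (Fin 2) (Fin 2) F) 1 0
      rw [hm]; rfl
  have htrm : Matrix.trace m.1 = t := by
    change Matrix.trace (m : Matrix (Fin 2) (Fin 2) F) = t
    rw [hm, Matrix.trace_fin_two]
    simp only [of_apply, cons_val', cons_val_zero, cons_val_fin_one, cons_val_one]
    field_simp
    ring
  have htrg : Matrix.trace g.1 = t := by
    rw [Matrix.trace_fin_two]
  have ht4 : t ^ 2 ≠ 4 := fun h => hd0 (by rw [h]; ring)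
  obtain ⟨S, hS⟩ := conj_to_comp hodd g (by rw [htrg]; exact ht4)
  obtain ⟨S', hS'⟩ := conj_to_comp hodd m (by rw [htrm]; exact ht4)
  rw [htrg] at hS
  rw [htrm] at hS'
  refine ⟨S'⁻¹ * S, ?_⟩
  have : S'⁻¹ * S * g * (S'⁻¹ * S)⁻¹ = S'⁻¹ * (S * g * S⁻¹) * S' := by group
  rw [this, hS, ← hS']
  have : S'⁻¹ * (S' * m * S'⁻¹) * S' = m := by group
  rw [this]
  exact hmT

end finite

end Cfsg.Agent.Lib.Helper47
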