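import Mathlib
import Cfsg.Agent.Lib.Helper70.AGDefs

/-!
# Pack K-4188 (S4188), leaf A5 (keystone 418805): geometry of a normal four-group `{1, z, u, uz}`
in a 2-group `Q ≤ MulAut V` acting irreducibly on an abelian group `V` of odd order.
-/

set_option autoImplicit false

namespace Cfsg.Agent.Lib.Helper47.AG

open Cfsg.Agent.Lib.Helper70.AG

variable {V : Type*} [CommGroup V]

theorem a5_app {Q : Subgroup (MulAut V)} (a b : ↥Q) (v : V) :
    ((a * b : ↥Q) : MulAut V) v = (a : MulAut V) ((b : MulAut V) v) := by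
  rw [Subgroup.coe_mul, MulAut.mul_apply]

theorem a5_invol {Q : Subgroup (MulAut V)} (a : ↥Q) (ha : a ^ 2 = 1) (v : V) :
    (a : MulAut V) ((a : MulAut V) v) = v := by
  have h := congrArg (fun q : ↥Q => (q : MulAut V) v) ha
  simp only [pow_two] at h
  rw [a5_app] at h
  simpa using h

theorem a5_central_inv {Q : Subgroup (MulAut V)} (c : ↥Q) (hc : ∀ q : ↥Q, q * c = c * q) :
    IsInv Q (fixedSub (c : MulAut V)) := by
  intro q hq w hw
  rw [mem_fixedSub] at hw ⊢
  have h := hc ⟨q, hq⟩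
  have h2 := congrArg (fun t : ↥Q => (t : MulAut V) w) h
  simp only [a5_app] at h2
  rw [hw] at h2
  exact h2.symm

theorem a5_eq_one_of_top {Q : Subgroup (MulAut V)} (c : ↥Q) (h : fixedSub (c : MulAut V) = ⊤) :
    c = 1 := by
  apply Subtype.ext
  apply MulEquiv.ext
  intro v
  have hv : v ∈ fixedSub (c : MulAut V) := by rw [h]; exact Subgroup.mem_top v
  rw [mem_fixedSub] at hv
  simpa using hv

theorem a5_sq_odd [Finite V] (hodd : Odd (Nat.card V)) (v : V) (hv : v * v = 1) : v = 1 := by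
  have h2 : orderOf v ∣ 2 := by
    apply orderOf_dvd_of_pow_eq_one
    rw [pow_two]; exact hv
  have hc : orderOf v ∣ Nat.card V := orderOf_dvd_natCard v
  have hg : orderOf v ∣ Nat.gcd 2 (Nat.card V) := Nat.dvd_gcd h2 hc
  have h1 : Nat.gcd 2 (Nat.card V) = 1 := Nat.coprime_two_left.mpr hodd
  rw [h1] at hg
  exact orderOf_eq_one_iff.mp (Nat.dvd_one.mp hg)

theorem a5_exists_sq [Finite V] (hodd : Odd (Nat.card V)) (w : V) : ∃ v : V, v * v = w := by
  obtain ⟨k, hk⟩ := hodd
  refine ⟨w ^ (k + 1), ?_⟩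
  have h1 : w ^ (Nat.card V) = 1 := pow_card_eq_one'
  rw [← pow_add]
  have : k + 1 + (k + 1) = Nat.card V + 1 := by omega
  rw [this, pow_succ, h1, one_mul]

theorem caseB_geometry [Finite V] (hodd : Odd (Nat.card V))
    (Q : Subgroup (MulAut V))
    (hirr : ∀ W : Subgroup V, IsInv Q W → W = ⊥ ∨ W = ⊤)
    (z u : ↥Q) (hz1 : z ≠ 1) (hz2 : z ^ 2 = 1) (hzc : z ∈ Subgroup.center ↥Q)
    (hu1 : u ≠ 1) (hu2 : u ^ 2 = 1) (huz : u ≠ z)
    (hconj : ∀ s : ↥Q, s * u * s⁻¹ = u ∨ s * u * s⁻¹ = u * z) :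
    (Subgroup.centralizer ({u} : Set ↥Q)).index = 2 ∧
    fixedSub (u : MulAut V) ⊓ fixedSub ((u * z : ↥Q) : MulAut V) = ⊥ ∧
    fixedSub (u : MulAut V) ⊔ fixedSub ((u * z : ↥Q) : MulAut V) = ⊤ ∧
    (∀ m ∈ Subgroup.centralizer ({u} : Set ↥Q), ∀ v ∈ fixedSub (u : MulAut V),
      (m : MulAut V) v ∈ fixedSub (u : MulAut V)) ∧
    (∀ m ∈ Subgroup.centralizer ({u} : Set ↥Q), ∀ v ∈ fixedSub ((u * z : ↥Q) : MulAut V),
      (m : MulAut V) v ∈ fixedSub ((u * z : ↥Q) : MulAut V)) ∧
    Nat.card ↥(fixedSub (u : MulAut V)) = Nat.card ↥(fixedSub ((u * z : ↥Q) : MulAut V)) ∧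
    fixedSub (u : MulAut V) ≠ ⊥ := by
  classical
  have hzcomm : ∀ q : ↥Q, q * z = z * q := fun q => Subgroup.mem_center_iff.mp hzc q
  have hzz : ∀ v : V, (z : MulAut V) ((z : MulAut V) v) = v := a5_invol z hz2
  have huu : ∀ v : V, (u : MulAut V) ((u : MulAut V) v) = v := a5_invol u hu2
  -- (1) z inverts V
  have hzinv : ∀ v : V, (z : MulAut V) v = v⁻¹ := by
    rcases hirr _ (a5_central_inv z hzcomm) with h | h
    · intro v
      have hm : v * (z : MulAut V) v ∈ fixedSub (z : MulAut V) := by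
        rw [mem_fixedSub, map_mul, hzz, mul_comm]
      rw [h, Subgroup.mem_bot] at hm
      exact eq_inv_of_mul_eq_one_right hm
    · exact absurd (a5_eq_one_of_top z h) hz1
  have huzv : ∀ v : V, ((u * z : ↥Q) : MulAut V) v = ((u : MulAut V) v)⁻¹ := by
    intro v
    rw [a5_app, hzinv, map_inv]
  have memVm : ∀ v : V, v ∈ fixedSub ((u * z : ↥Q) : MulAut V) ↔ ((u : MulAut V) v)⁻¹ = v := by
    intro v
    rw [mem_fixedSub, huzv]
  -- (2)
  have hinf : fixedSub (u : MulAut V) ⊓ fixedSub ((u * z : ↥Q) : MulAut V) = ⊥ := by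
    rw [eq_bot_iff]
    intro v hv
    obtain ⟨h1, h2⟩ := Subgroup.mem_inf.mp hv
    rw [mem_fixedSub] at h1
    rw [memVm, h1] at h2
    rw [Subgroup.mem_bot]
    apply a5_sq_odd hodd
    have h3 := inv_mul_cancel v
    rwa [h2] at h3
  have hsup : fixedSub (u : MulAut V) ⊔ fixedSub ((u * z : ↥Q) : MulAut V) = ⊤ := by
    rw [eq_top_iff]
    intro w _
    obtain ⟨v, rfl⟩ := a5_exists_sq hodd w
    have h1 : v * (u : MulAut V) v ∈ fixedSub (u : MulAut V) := by
      rw [mem_fixedSub, map_mul, huu, mul_comm]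
    have h2 : v * ((u : MulAut V) v)⁻¹ ∈ fixedSub ((u * z : ↥Q) : MulAut V) := by
      rw [memVm, map_mul, map_inv, huu, mul_inv, inv_inv, mul_comm]
    have h3 := Subgroup.mul_mem_sup h1 h2
    have h4 : v * (u : MulAut V) v * (v * ((u : MulAut V) v)⁻¹) = v * v := by
      rw [mul_mul_mul_comm, mul_inv_cancel, mul_one]
    rwa [h4] at h3
  -- V₊ ≠ ⊥
  have hne : fixedSub (u : MulAut V) ≠ ⊥ := by
    intro h
    rw [h, bot_sup_eq] at hsup
    have h1 : u * z = 1 := a5_eq_one_of_top (u * z) hsup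
    apply huz
    have h2 : z * z = 1 := by rw [← pow_two]; exact hz2
    calc u = u * (z * z) := by rw [h2, mul_one]
      _ = (u * z) * z := by rw [mul_assoc]
      _ = z := by rw [h1, one_mul]
  -- centralizer membership
  have memC : ∀ b : ↥Q, b ∈ Subgroup.centralizer ({u} : Set ↥Q) ↔ b * u * b⁻¹ = u := by
    intro b
    rw [Subgroup.mem_centralizer_iff]
    constructor
    · intro h
      have h1 : u * b = b * u := h u rfl
      rw [← h1, mul_inv_cancel_right]
    · intro h x hx
      rw [Set.mem_singleton_iff] at hx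
      subst hx
      rw [mul_inv_eq_iff_eq_mul] at h
      exact h.symm
  -- (3)
  have h3a : ∀ m ∈ Subgroup.centralizer ({u} : Set ↥Q), ∀ v ∈ fixedSub (u : MulAut V),
      (m : MulAut V) v ∈ fixedSub (u : MulAut V) := by
    intro m hm v hv
    rw [Subgroup.mem_centralizer_iff] at hm
    have hum : u * m = m * u := hm u rfl
    rw [mem_fixedSub] at hv ⊢
    rw [← a5_app, hum, a5_app, hv]
  have h3b : ∀ m ∈ Subgroup.centralizer ({u} : Set ↥Q), ∀ v ∈ fixedSub ((u * z : ↥Q) : MulAut V),
      (m : MulAut V) v ∈ fixedSub ((u * z : ↥Q) : MulAut V) := by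
    intro m hm v hv
    rw [Subgroup.mem_centralizer_iff] at hm
    have hum : u * m = m * u := hm u rfl
    rw [memVm] at hv ⊢
    rw [← a5_app, hum, a5_app, ← map_inv, hv]
  -- existence of s outside the centralizer
  have hexs : ∃ s : ↥Q, s ∉ Subgroup.centralizer ({u} : Set ↥Q) := by
    by_contra hcon
    simp only [not_exists, not_not] at hcon
    have hucomm : ∀ q : ↥Q, q * u = u * q := by
      intro q
      have h := (memC q).mp (hcon q)
      rw [mul_inv_eq_iff_eq_mul] at h
      exact h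
    rcases hirr _ (a5_central_inv u hucomm) with h | h
    · exact hne h
    · exact hu1 (a5_eq_one_of_top u h)
  obtain ⟨s, hsC⟩ := hexs
  have hs : s * u * s⁻¹ = u * z := by
    rcases hconj s with h | h
    · exact absurd ((memC s).mpr h) hsC
    · exact h
  -- (4)
  have hkey : ∀ v : V, ((u : MulAut V) ((s : MulAut V) v))⁻¹ = (s : MulAut V) ((u : MulAut V) v) := by
    intro v
    have hsu : (u * z) * s = s * u := by
      rw [← hs, inv_mul_cancel_right]
    have h := congrArg (fun t : ↥Q => (t : MulAut V) v) hsu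
    simp only [a5_app s u, a5_app (u * z) s] at h
    rw [huzv] at h
    exact h
  have hpm : ∀ v ∈ fixedSub (u : MulAut V), (s : MulAut V) v ∈ fixedSub ((u * z : ↥Q) : MulAut V) := by
    intro v hv
    rw [mem_fixedSub] at hv
    rw [memVm, hkey, hv]
  have hmp : ∀ v ∈ fixedSub ((u * z : ↥Q) : MulAut V), (s : MulAut V) v ∈ fixedSub (u : MulAut V) := by
    intro v hv
    rw [memVm] at hv
    rw [mem_fixedSub]
    have h := hkey v
    have h2 : (u : MulAut V) v = v⁻¹ := by
      have h0 := congrArg Inv.inv hv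
      rwa [inv_inv] at h0
    rw [h2, map_inv] at h
    exact inv_injective h
  have hcard : Nat.card ↥(fixedSub (u : MulAut V)) = Nat.card ↥(fixedSub ((u * z : ↥Q) : MulAut V)) := by
    apply le_antisymm
    · apply Nat.card_le_card_of_injective
        (fun v : ↥(fixedSub (u : MulAut V)) =>
          (⟨(s : MulAut V) v, hpm v v.2⟩ : ↥(fixedSub ((u * z : ↥Q) : MulAut V))))
      intro a b hab
      have h := congrArg Subtype.val hab
      simp only at h
      exact Subtype.ext ((s : MulAut V).injective h)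
    · apply Nat.card_le_card_of_injective
        (fun v : ↥(fixedSub ((u * z : ↥Q) : MulAut V)) =>
          (⟨(s : MulAut V) v, hmp v v.2⟩ : ↥(fixedSub (u : MulAut V))))
      intro a b hab
      have h := congrArg Subtype.val hab
      simp only at h
      exact Subtype.ext ((s : MulAut V).injective h)
  -- (5) index two
  have hidx : (Subgroup.centralizer ({u} : Set ↥Q)).index = 2 := by
    rw [Subgroup.index_eq_two_iff_exists_notMem_and]
    refine ⟨s, hsC, ?_⟩
    intro b
    by_cases hb : b ∈ Subgroup.centralizer ({u} : Set ↥Q)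
    · exact Or.inr hb
    · left
      have hbu : b * u * b⁻¹ = u * z := by
        rcases hconj b with h | h
        · exact absurd ((memC b).mpr h) hb
        · exact h
      rw [memC]
      have hzb : b * z = z * b := hzcomm b
      have h2 : z * z = 1 := by rw [← pow_two]; exact hz2
      calc b * s * u * (b * s)⁻¹ = b * (s * u * s⁻¹) * b⁻¹ := by group
        _ = b * (u * z) * b⁻¹ := by rw [hs]
        _ = (b * u * b⁻¹) * (b * z * b⁻¹) := by group
        _ = (u * z) * z := by rw [hbu, hzb, mul_inv_cancel_right]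
        _ = u := by rw [mul_assoc, h2, mul_one]
  exact ⟨hidx, hinf, hsup, h3a, h3b, hcard, hne⟩

end Cfsg.Agent.Lib.Helper47.AG
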