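import Cfsg.Agent.Lib.Helper15.BG139Defs
import Cfsg.Agent.Lib.Helper15.BG139Defs2
import Cfsg.Agent.Lib.Helper54.BG134A3a
import Cfsg.Agent.Lib.Helper14.NilpHall
import Cfsg.Agent.Lib.Helper71.BG11a
import Cfsg.Agent.Lib.Helper31.BG12a
import Cfsg.Agent.Lib.Helper31.FittingHall
import Cfsg.Agent.Lib.Helper55.Uniq2
import Cfsg.Agent.Lib.Helper01.Coprime
import Cfsg.Agent.S1415
import Cfsg.Agent.S1423

/-!
# BG Theorem 13.9 (S1378), keystone 137816 K2c `tau2_final` (step 15(iii))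
-/

set_option autoImplicit false

namespace Cfsg.Agent.Lib.Helper47.BG139

open Cfsg Cfsg.Agent.Lib.Helper55 Cfsg.Agent.Lib.Helper31.BG134 Cfsg.Agent.Lib.Helper15.BG139

variable {G : Type*} [Group G] [Finite G]

omit [Finite G] in
/-- a cyclic subgroup is commutative, elementwise -/
theorem comm_of_isCyclic {C : Subgroup G} (hC : IsCyclic ↥C) :
    ∀ a ∈ C, ∀ b ∈ C, a * b = b * a := by
  intro a ha b hb
  obtain ⟨g, hg⟩ := hC.exists_generator
  obtain ⟨i, hi⟩ := Subgroup.mem_zpowers_iff.1 (hg ⟨a, ha⟩)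
  obtain ⟨j, hj⟩ := Subgroup.mem_zpowers_iff.1 (hg ⟨b, hb⟩)
  have h : (⟨a, ha⟩ : ↥C) * ⟨b, hb⟩ = ⟨b, hb⟩ * ⟨a, ha⟩ := by
    rw [← hi, ← hj]
    exact ((Commute.refl g).zpow_zpow i j).eq
  exact congrArg Subtype.val h

/-- a nontrivial subgroup contains an element of prime order -/
theorem exists_prime_order_of_ne_bot {C : Subgroup G} (hC : C ≠ ⊥) :
    ∃ (t : ℕ) (x : G), t.Prime ∧ t ∣ Nat.card ↥C ∧ x ∈ C ∧ orderOf x = t := by
  have h1 : Nat.card ↥C ≠ 1 := fun h => hC (Subgroup.card_eq_one.1 h)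
  obtain ⟨t, ht, htd⟩ := Nat.exists_prime_and_dvd h1
  have : Fact t.Prime := ⟨ht⟩
  obtain ⟨x₀, hx₀⟩ := exists_prime_orderOf_dvd_card' t htd
  exact ⟨t, (x₀ : G), ht, htd, x₀.2, by rw [Subgroup.orderOf_coe, hx₀]⟩

set_option linter.unusedVariables false in
/-- KEYSTONE 137816  K-S1378-K2c  (step 15(iii)). -/
theorem tau2_final {M N P H EH A : Subgroup G} {r : ℕ} (lM : Loc M P H r) (lN : Loc N P H r)
    (hnc : ∀ g : G, cj g M ≠ N) (hr2 : r ∈ tau2 H) (w : T2 M P H EH A r)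
    (hM1 : ∀ t : ℕ, t.Prime → t ∣ Nat.card ↥(CP M P) → t ∈ tau1 H)
    (hN1 : ∀ t : ℕ, t.Prime → t ∣ Nat.card ↥(CP N P) → t ∈ tau1 H) : False := by
  have hG := lM.o.hG
  have hM := lM.o.hM
  have hN := lN.o.hM
  have hH := lM.hH
  -- `X = ⟨x⟩ ≤ C_M`, `X' = ⟨x'⟩ ≤ C_N` of prime orders `t`, `t'`
  obtain ⟨t, x, ht, htd, hxC, hxo⟩ := exists_prime_order_of_ne_bot lM.o.hC1
  obtain ⟨t', x', ht', ht'd, hx'C, hx'o⟩ := exists_prime_order_of_ne_bot lN.o.hC1
  have : Fact t.Prime := ⟨ht⟩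
  have : Fact t'.Prime := ⟨ht'⟩
  have htτ : t ∈ tau1 H := hM1 t ht htd
  have ht'τ : t' ∈ tau1 H := hN1 t' ht' ht'd
  have hXC : Subgroup.zpowers x ≤ CP M P := (Subgroup.zpowers_le).2 hxC
  have hXcard : Nat.card (Subgroup.zpowers x) = t := by rw [Nat.card_zpowers, hxo]
  have hX1 : Subgroup.zpowers x ≠ ⊥ := by
    intro h
    rw [← Subgroup.card_eq_one, hXcard] at h
    exact ht.one_lt.ne' h
  have hXEH : Subgroup.zpowers x ≤ EH := (hXC.trans le_sup_left).trans w.hCE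
  -- the cyclic Hall `τ₁(H)`-subgroup `E₁ ≥ X` of `EH`
  have hEHH : EH ≤ H := w.hEH.1
  have hEHtop : EH ≠ ⊤ := fun h => hH.1 (top_le_iff.1 (h ▸ hEHH))
  have hEHsolv : Group.IsSolvable ↥EH := ms_solvable hG hEHtop
  obtain ⟨E₁, hE₁, hXE₁⟩ := Cfsg.Agent.Lib.Helper54.BG134.exists_isPiHallOf_ge hEHsolv (tau1 H)
    hXEH (by
      intro q hq hqd
      rw [hXcard] at hqd
      have : q = t := (Nat.prime_dvd_prime_iff_eq hq ht).1 hqd
      exact this ▸ htτ)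
  have hE₁c : IsCyclic ↥E₁ := (Cfsg.Agent.S1415.result hG H hH EH w.hEH).2.1 E₁ hE₁
  have hE₁comm := comm_of_isCyclic hE₁c
  have hxE₁ : x ∈ E₁ := hXE₁ (Subgroup.mem_zpowers x)
  -- a Sylow `t'`-subgroup `W` of `E₁`; `t' ∤ |H : W|`
  obtain ⟨W₀⟩ := (inferInstance : Nonempty (Sylow t' ↥E₁))
  have hWE₁ : (W₀ : Subgroup ↥E₁).map E₁.subtype ≤ E₁ := Subgroup.map_subtype_le _
  have hWp : IsPGroup t' ↥((W₀ : Subgroup ↥E₁).map E₁.subtype) := W₀.isPGroup'.map _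
  have hidx1 : ¬ t' ∣ ((W₀ : Subgroup ↥E₁).map E₁.subtype).relIndex E₁ := by
    have e : ((W₀ : Subgroup ↥E₁).map E₁.subtype).relIndex E₁ = (W₀ : Subgroup ↥E₁).index := by
      unfold Subgroup.relIndex Subgroup.subgroupOf
      rw [Subgroup.comap_map_eq_self_of_injective E₁.subtype_injective]
    rw [e]
    exact W₀.not_dvd_index
  have hidx2 : ¬ t' ∣ E₁.relIndex EH := hE₁.2.2 t' ht' ht'τ
  have hidx3 : ¬ t' ∣ EH.relIndex H := by
    have e1 := Subgroup.relIndex_mul_relIndex ⊥ EH H bot_le hEHH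
    rw [Subgroup.relIndex_bot_left, Subgroup.relIndex_bot_left] at e1
    have e2 := Cfsg.Agent.Lib.Helper31.IsComplIn.card_mul w.hEH
    have e3 : EH.relIndex H = Nat.card ↥(sigmaCore H) :=
      Nat.eq_of_mul_eq_mul_left Nat.card_pos (e1.trans e2.symm)
    rw [e3]
    intro h
    exact ht'τ.2.1 (Cfsg.Agent.Lib.Helper71.BG11.sigmaCore_pi hG hH ht' h)
  have hidx : ¬ t' ∣ ((W₀ : Subgroup ↥E₁).map E₁.subtype).relIndex H := by
    have e1 := Subgroup.relIndex_mul_relIndex _ E₁ EH hWE₁ hE₁.1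
    have e2 := Subgroup.relIndex_mul_relIndex _ EH H (hWE₁.trans hE₁.1) hEHH
    rw [← e2, ← e1]
    intro h
    rcases (Nat.Prime.dvd_mul ht').1 h with h | h
    · rcases (Nat.Prime.dvd_mul ht').1 h with h | h
      · exact hidx1 h
      · exact hidx2 h
    · exact hidx3 h
  -- conjugate `x'` into `W ≤ E₁`
  have hCNH : CP N P ≤ H :=
    (inf_le_right.trans (Subgroup.centralizer_le_normalizer (P : Set G))).trans lN.hNH
  have hX'p : IsPGroup t' ↥(Subgroup.zpowers x') :=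
    IsPGroup.of_card (n := 1) (by rw [Nat.card_zpowers, hx'o, pow_one])
  obtain ⟨c, hcH, hcW⟩ := Cfsg.Agent.Lib.Helper14.exists_conj_le_of_not_dvd_relIndex
    (L := H) (P := (W₀ : Subgroup ↥E₁).map E₁.subtype) (R := Subgroup.zpowers x')
    ((Subgroup.zpowers_le).2 (hCNH hx'C)) hWp hX'p hidx
  have hx''W : c⁻¹ * x' * c ∈ (W₀ : Subgroup ↥E₁).map E₁.subtype := by
    have h1 := hcW (Subgroup.mem_zpowers x')
    rw [Subgroup.mem_pointwise_smul_iff_inv_smul_mem] at h1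
    simpa [MulAut.smul_def, MulAut.conj_apply] using h1
  set x'' := c⁻¹ * x' * c with hx''
  have hx''E₁ : x'' ∈ E₁ := hWE₁ hx''W
  have hx''EH : x'' ∈ EH := hE₁.1 hx''E₁
  have hx''o : orderOf x'' = t' := by
    have : x'' = (MulAut.conj c⁻¹) x' := by simp [hx'']
    rw [this, MulEquiv.orderOf_eq, hx'o]
  -- `x''` normalizes `P = A ∩ C(X)`
  have hPfix := w.hfix (Subgroup.zpowers x) hXC hX1
  have key : ∀ g ∈ E₁, ∀ a ∈ P, g * a * g⁻¹ ∈ P := by
    intro g hg a ha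
    have hgEH : g ∈ EH := hE₁.1 hg
    rw [← hPfix] at ha ⊢
    obtain ⟨haA, haX⟩ := Subgroup.mem_inf.1 ha
    refine Subgroup.mem_inf.2 ⟨(Subgroup.mem_normalizer_iff.1 (w.hAn hgEH) a).1 haA, ?_⟩
    rw [Subgroup.mem_centralizer_iff] at haX ⊢
    intro h hh
    have hhE₁ : h ∈ E₁ := hXE₁ hh
    have h1 : h * g = g * h := hE₁comm h hhE₁ g hg
    have h2 : h * a = a * h := haX h hh
    have h3 : h * g⁻¹ = g⁻¹ * h := hE₁comm h hhE₁ g⁻¹ (E₁.inv_mem hg)
    calc h * (g * a * g⁻¹) = (h * g) * a * g⁻¹ := by group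
      _ = (g * h) * a * g⁻¹ := by rw [h1]
      _ = g * (h * a) * g⁻¹ := by group
      _ = g * (a * h) * g⁻¹ := by rw [h2]
      _ = g * a * (h * g⁻¹) := by group
      _ = g * a * (g⁻¹ * h) := by rw [h3]
      _ = g * a * g⁻¹ * h := by group
  have hx''NP : x'' ∈ Subgroup.normalizer (P : Set G) := by
    rw [Subgroup.mem_normalizer_iff]
    intro a
    constructor
    · exact key x'' hx''E₁ a
    · intro h
      have := key x''⁻¹ (E₁.inv_mem hx''E₁) _ h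
      simpa [mul_assoc] using this
  -- `x'' ∈ C_G(X) ≤ M`
  have htσM : t ∈ sigma M :=
    Cfsg.Agent.Lib.Helper71.BG11.sigmaCore_pi hG hM ht
      (htd.trans (Subgroup.card_dvd_of_le inf_le_left))
  have htβ : t ∈ beta M := lM.o.hCβ t ht htd
  have hXM : Subgroup.zpowers x ≤ M :=
    (hXC.trans inf_le_left).trans (Cfsg.Agent.Lib.Helper71.BG11.sigmaCore_le M)
  obtain ⟨Psyl⟩ := (inferInstance : Nonempty (Sylow t ↥(sigmaCore M)))
  have h1423 := Cfsg.Agent.S1423.result hG M hM t htσM (Subgroup.zpowers x) hXM hXcard Psyl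
    (Or.inl htβ)
  have hx''M : x'' ∈ M := by
    apply h1423.1.1
    rw [Subgroup.mem_centralizer_iff]
    intro h hh
    exact hE₁comm h (hXE₁ hh) x'' hx''E₁
  have hx''CP : x'' ∈ CP M P ⊔ P := lM.o.hNP (Subgroup.mem_inf.2 ⟨hx''M, hx''NP⟩)
  -- the order of `x''`
  have hPcent : P ≤ Subgroup.normalizer ((CP M P : Subgroup G) : Set G) := by
    refine le_trans ?_ (Subgroup.centralizer_le_normalizer _)
    rw [Subgroup.le_centralizer_iff]
    exact inf_le_right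
  have hcard := Cfsg.Agent.Lib.Helper01.card_sup_mul_card_inf_of_le_normalizer (CP M P) P hPcent
  have hdvd : t' ∣ Nat.card ↥(CP M P) * Nat.card ↥P := by
    rw [← hcard]
    apply Dvd.dvd.mul_right
    rw [← hx''o, sup_comm]
    exact Subgroup.orderOf_dvd_natCard _ hx''CP
  have ht'σN : t' ∈ sigma N :=
    Cfsg.Agent.Lib.Helper71.BG11.sigmaCore_pi hG hN ht'
      (ht'd.trans (Subgroup.card_dvd_of_le inf_le_left))
  rcases (Nat.Prime.dvd_mul ht').1 hdvd with h | h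
  · have ht'β : t' ∈ beta M := lM.o.hCβ t' ht' h
    exact Cfsg.Agent.Lib.Helper31.BG12.alpha_sigma_disjoint hG hM hN hnc ht'β.1 ht'σN
  · rw [lM.o.hPc] at h
    have hr : r.Prime := lM.o.hr1.1
    have : t' = r := (Nat.prime_dvd_prime_iff_eq ht' hr).1 h
    exact lN.o.hr1.2.1 (this ▸ ht'σN)

end Cfsg.Agent.Lib.Helper47.BG139
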