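import Mathlib
import Cfsg.Agent.S1350
import Cfsg.Agent.Lib.Helper02.BG1310Defs
import Cfsg.Agent.Lib.Helper15.BG139Glue
import Cfsg.Agent.Lib.Helper84.BG134T
import Cfsg.Agent.Lib.Helper91.BG125e
import Cfsg.Agent.Lib.Helper54.BG134A3a
import Cfsg.Agent.Lib.Helper47.BG139K2c
import Cfsg.Agent.Lib.Helper31.BG139L178
import Cfsg.Agent.Lib.Helper03.CoprimeAbelian
import Cfsg.Agent.Lib.Helper12.CNMaxSub

/-!
# K-LD2-I (keystone 143104, architect helper2; parallel hand): `typeI_cent_le`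

Lemma D (BG 13.10), type (I): `C₃ = C_{M_σ}(E₃) ≤ C₁ = C_{M_σ}(E₁)` (helper83's proof, with `S₀` only).
-/

set_option autoImplicit false

namespace Cfsg.Agent.Lib.Helper47.BG1310

open Cfsg Cfsg.Agent.Lib.Helper55 Cfsg.Agent.Lib.Helper31.BG134 Cfsg.Agent.Lib.Helper15.BG139
  Cfsg.Agent.Lib.Helper02.BG1310

variable {G : Type*} [Group G] [Finite G]

theorem typeI_cent_le (hTX : HTX G) (h28 : H1428 G) {M E E₁ E₃ : Subgroup G}
    (d : NRS M E E₁ E₃) (hI : TypeI M E₁ E₃) : CP M E₃ ≤ CP M E₁ := by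
  by_contra hnot
  have hG := d.nr.hG
  have hM := d.nr.hM
  have hE := d.nr.hE
  have hE₁E : E₁ ≤ E := d.nr.hE₁.1
  have hE₃E : E₃ ≤ E := d.nr.hE₃.1
  have hEM : E ≤ M := hE.1
  obtain ⟨S₀, hS₀, hS₀c, hS₀C⟩ := d.nr.hnr
  have hS₀ne : S₀ ≠ ⊥ := by
    intro h
    rw [h, Subgroup.card_bot] at hS₀c
    exact Nat.not_prime_one hS₀c
  have hS₀M : S₀ ≤ M := hS₀.trans (hE₃E.trans hEM)
  have hS₀top : S₀ ≠ ⊤ := by
    intro h
    apply hM.1
    rw [eq_top_iff, ← h]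
    exact hS₀M
  obtain ⟨H, hH, hNH⟩ := Cfsg.Agent.Lib.Helper12.CNMaxSub.exists_coatom_normalizer_le hG hS₀ne hS₀top
  obtain ⟨hEH, hnc, hMH⟩ := d.hH S₀ H hS₀ hS₀c hH hNH
  have hHallH := (Cfsg.Agent.S1350.result hG H hH).1
  have hE₁H : E₁ ≤ H := hE₁E.trans hEH
  have hE₁M : E₁ ≤ M := hE₁E.trans hEM
  -- `E₁ ≠ ⊥`
  have hE₁ne : E₁ ≠ ⊥ := by
    intro h
    apply hnot
    rw [h]
    intro x hx
    refine Subgroup.mem_inf.2 ⟨(Subgroup.mem_inf.1 hx).1, ?_⟩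
    rw [Subgroup.mem_centralizer_iff]
    intro y hy
    have : y = 1 := Subgroup.mem_bot.1 hy
    rw [this, one_mul, mul_one]
  -- every prime of `|E₁|` is in `τ₁(H)`
  have h1 : ∀ u : ℕ, u.Prime → u ∣ Nat.card E₁ → u ∈ tau1 H := by
    intro u hu hud
    by_contra hcon
    have hFu : Fact u.Prime := ⟨hu⟩
    obtain ⟨x, hx, hox⟩ :=
      Cfsg.Agent.Lib.Helper58.BG139.exists_mem_orderOf_eq_of_dvd_card hu hud
    have hUle : Subgroup.zpowers x ≤ E₁ := by rw [Subgroup.zpowers_le]; exact hx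
    have hUc : Nat.card (Subgroup.zpowers x) = u := by rw [Nat.card_zpowers, hox]
    have hUne : Subgroup.zpowers x ≠ ⊥ := by
      intro h
      rw [h, Subgroup.card_bot] at hUc
      exact hu.ne_one hUc.symm
    have hUp : IsPGroup u (Subgroup.zpowers x) := IsPGroup.of_card (n := 1) (by rw [pow_one, hUc])
    have hu1M : u ∈ tau1 M := d.nr.hE₁.2.1 u hu hud
    have := Cfsg.Agent.Lib.Helper84.BG134.lemmaT hG hM hH hnc hu1M.2.1 hcon hUp
      (hUle.trans hE₁M) (hUle.trans hE₁H)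
    rw [hMH] at this
    apply hnot
    rw [← d.hC₁ _ hUle hUne]
    exact le_inf inf_le_left this
  -- `E₁` lies in a Hall `τ₁(H)`-subgroup `F₁` of a complement `EH`
  have hE₁σ : ∀ r : ℕ, r.Prime → r ∣ Nat.card E₁ → r ∉ sigma H := fun r hr hrd => (h1 r hr hrd).2.1
  obtain ⟨EH, hEHc, hE₁EH⟩ :=
    Cfsg.Agent.Lib.Helper13.BG12.exists_complIn_ge hG hH hHallH hE₁H hE₁σ
  have hEHtop : EH ≠ ⊤ := fun h => hH.1 (top_le_iff.mp (h ▸ hEHc.1))
  have hsolv : Group.IsSolvable ↥EH := Cfsg.Agent.Lib.Helper55.ms_solvable hG hEHtop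
  obtain ⟨F₁, hF₁, hE₁F₁⟩ :=
    Cfsg.Agent.Lib.Helper54.BG134.exists_isPiHallOf_ge hsolv (tau1 H) hE₁EH h1
  have hPA : PrimeAct H F₁ := Cfsg.Agent.Lib.Helper31.BG139.primeAct hG hH h28 hEHc hF₁
  -- an element `y` of prime order of `E₁`
  obtain ⟨p, y, hp, hpd, hyE₁, hoy⟩ :=
    Cfsg.Agent.Lib.Helper47.BG139.exists_prime_order_of_ne_bot hE₁ne
  have hy1 : y ≠ 1 := by
    intro h
    rw [h, orderOf_one] at hoy
    exact hp.ne_one hoy.symm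
  have hPle : Subgroup.zpowers y ≤ E₁ := by rw [Subgroup.zpowers_le]; exact hyE₁
  have hPc : (Nat.card (Subgroup.zpowers y)).Prime := by rw [Nat.card_zpowers, hoy]; exact hp
  have hE₃P : E₃ ≤ Subgroup.centralizer ((Subgroup.zpowers y : Subgroup G) : Set G) :=
    hI.1 _ hPle hPc
  -- `S₀ ≤ H_σ`
  have hs3 : Nat.card S₀ ∈ tau3 M := d.nr.hE₃.2.1 _ hS₀c (Subgroup.card_dvd_of_le hS₀)
  have hsσH : Nat.card S₀ ∈ sigma H := hTX M H S₀ _ hM hH (Or.inr hs3) hS₀M rfl hS₀C hNH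
  have hFs : Fact (Nat.card S₀).Prime := ⟨hS₀c⟩
  have hS₀p : IsPGroup (Nat.card S₀) S₀ := IsPGroup.of_card (n := 1) (by rw [pow_one])
  have hS₀H : S₀ ≤ H := hS₀.trans (hE₃E.trans hEH)
  have hS₀σ : S₀ ≤ sigmaCore H :=
    Cfsg.Agent.Lib.Helper91.BG125.le_sigmaCore_of_mem_sigma hG hH hsσH hS₀p hS₀H
  -- `S₀ ≤ C(E₁)`
  have hS₀E₁ : S₀ ≤ Subgroup.centralizer (E₁ : Set G) := by
    intro s hs
    have hsy : s ∈ Subgroup.centralizer ({y} : Set G) := by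
      rw [Subgroup.mem_centralizer_singleton_iff]
      have := hE₃P (hS₀ hs)
      rw [Subgroup.mem_centralizer_iff] at this
      exact (this y (Subgroup.mem_zpowers y)).symm
    have := hPA y (hE₁F₁ hyE₁) hy1 (Subgroup.mem_inf.2 ⟨hS₀σ hs, hsy⟩)
    exact Subgroup.centralizer_le (by exact_mod_cast hE₁F₁) this
  -- `S₀ ≤ ⁅E,E⁆ ⊓ C(E) ⊓ E₃ = ⊥`
  have := d.hE₃c
  have hcomm : IsMulCommutative E₃ := IsCyclic.isMulCommutative (α := ↥E₃)
  have hcop : Nat.Coprime (Nat.card E₃) (E₃.relIndex E) := by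
    apply Nat.coprime_of_dvd
    intro r hr hr1 hr2
    exact d.nr.hE₃.2.2 r hr (d.nr.hE₃.2.1 r hr hr1) hr2
  have hbot := Cfsg.Agent.Lib.Helper03.commutator_inf_centralizer_inf_eq_bot_of_abelian_hall
    E₃ E hE₃E hcomm hcop
  apply hS₀ne
  rw [eq_bot_iff, ← hbot]
  refine le_inf (le_inf (hS₀.trans d.hE₃d) ?_) hS₀
  -- `S₀ ≤ C(E)`
  intro s hs
  rw [Subgroup.mem_centralizer_iff]
  intro e he
  obtain ⟨a, ha, b, hb, rfl⟩ := d.hfac e he
  have h1' : a * s = s * a :=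
    Cfsg.Agent.Lib.Helper47.BG139.comm_of_isCyclic d.hE₃c a ha s (hS₀ hs)
  have h2' : b * s = s * b := by
    have := hS₀E₁ hs
    rw [Subgroup.mem_centralizer_iff] at this
    exact this b hb
  rw [mul_assoc, h2', ← mul_assoc, h1', mul_assoc]

end Cfsg.Agent.Lib.Helper47.BG1310
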