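import Mathlib
import Cfsg.Agent.S1350
import Cfsg.Agent.S1415
import Cfsg.Agent.Lib.Helper02.BG1310Defs
import Cfsg.Agent.Lib.Helper15.BG139Glue
import Cfsg.Agent.Lib.Helper84.BG134T
import Cfsg.Agent.Lib.Helper91.BG125e
import Cfsg.Agent.Lib.Helper32.Coprime
import Cfsg.Agent.Lib.Helper11.BG134AB
import Cfsg.Agent.Lib.Helper54.BG134A3a
import Cfsg.Agent.Lib.Helper47.BG139K2c
import Cfsg.Agent.Lib.Helper55.Coprime

/-!
# K-LD2-IIb1 (keystone 143105, architect helper2): `exists_typeII_of_moves`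

Lemma D (BG 13.10): `M` of type (II) with `E₁` MOVING `C₃ = C_{M_σ}(E₃)`; `H` maximal over `N_G(S₀)`,
`S₀ ≤ E₃` of prime order.  Then `H` is nonregular of type (II) with the SAME `E₁`, and `C₃ ≤ F₃`.
-/

set_option autoImplicit false

namespace Cfsg.Agent.Lib.Helper47.BG1310

open Cfsg Cfsg.Agent.Lib.Helper55 Cfsg.Agent.Lib.Helper31.BG134 Cfsg.Agent.Lib.Helper15.BG139
  Cfsg.Agent.Lib.Helper02.BG1310

variable {G : Type*} [Group G] [Finite G]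

theorem exists_typeII_of_moves (hTX : HTX G) (hP4 : HP4 G) (hS : HNRS G)
    {M E E₁ E₃ S₀ H : Subgroup G}
    (d : NRS M E E₁ E₃) (hII : TypeII M E₁ E₃)
    (hmv : ¬ CP M E₃ ≤ Subgroup.centralizer (E₁ : Set G))
    (hS₀ : S₀ ≤ E₃) (hS₀c : (Nat.card S₀).Prime) (hH : IsCoatom H)
    (hNH : Subgroup.normalizer (S₀ : Set G) ≤ H) :
    ∃ EH F₃ : Subgroup G, NRS H EH E₁ F₃ ∧ TypeII H E₁ F₃ ∧ CP M E₃ ≤ F₃ := by
  have hG := d.nr.hG
  have hM := d.nr.hM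
  have hE := d.nr.hE
  have hpp : (Nat.card E₁).Prime := hII.1
  have hp1M : Nat.card E₁ ∈ tau1 M := d.nr.hE₁.2.1 _ hpp dvd_rfl
  obtain ⟨hEH, hnc, hMH⟩ := d.hH S₀ H hS₀ hS₀c hH hNH
  have hE₁E : E₁ ≤ E := d.nr.hE₁.1
  have hE₃E : E₃ ≤ E := d.nr.hE₃.1
  have hEM : E ≤ M := hE.1
  have hPH : E₁ ≤ H := hE₁E.trans hEH
  have hPM : E₁ ≤ M := hE₁E.trans hEM
  have hC₃H : CP M E₃ ≤ H := by rw [← hMH]; exact inf_le_right
  have hC₃σ : CP M E₃ ≤ sigmaCore M := inf_le_left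
  have hHallH := (Cfsg.Agent.S1350.result hG H hH).1
  have hFp : Fact (Nat.card E₁).Prime := ⟨hpp⟩
  have hPp : IsPGroup (Nat.card E₁) E₁ := IsPGroup.of_card (n := 1) (by rw [pow_one])
  -- (1) `p ∈ τ₁(H)`
  have hp1H : Nat.card E₁ ∈ tau1 H := by
    by_contra hcon
    have := Cfsg.Agent.Lib.Helper84.BG134.lemmaT hG hM hH hnc hp1M.2.1 hcon hPp hPM hPH
    rw [hMH] at this
    exact hmv this
  have hpσH : Nat.card E₁ ∉ sigma H := hp1H.2.1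
  -- (2) the primes of `|C₃|` are in `τ₁(H) ∪ τ₃(H)`
  have hS₀ne : S₀ ≠ ⊥ := by
    intro h
    rw [h, Subgroup.card_bot] at hS₀c
    exact Nat.not_prime_one hS₀c
  have hs3 : Nat.card S₀ ∈ tau3 M := d.nr.hE₃.2.1 _ hS₀c (Subgroup.card_dvd_of_le hS₀)
  have hS₀M : S₀ ≤ M := hS₀.trans (hE₃E.trans hEM)
  have hCS₀ : CP M S₀ = CP M E₃ := d.hC₃ S₀ hS₀ hS₀ne
  have hY13 : ∀ Y : Subgroup G, Y ≤ CP M E₃ → (Nat.card Y).Prime →
      (Nat.card Y ∈ tau1 H ∨ Nat.card Y ∈ tau3 H) := by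
    intro Y hY hYc
    exact hP4 M H S₀ Y _ hM hH (Or.inr hs3) hS₀M rfl hNH (by rw [hCS₀]; exact hY) hYc
  have hprime13 : ∀ y : ℕ, y.Prime → y ∣ Nat.card (CP M E₃) → (y ∈ tau1 H ∨ y ∈ tau3 H) := by
    intro y hy hyd
    obtain ⟨x, hx, hox⟩ :=
      Cfsg.Agent.Lib.Helper58.BG139.exists_mem_orderOf_eq_of_dvd_card hy hyd
    have hYle : Subgroup.zpowers x ≤ CP M E₃ := by rw [Subgroup.zpowers_le]; exact hx
    have hYc : Nat.card (Subgroup.zpowers x) = y := by rw [Nat.card_zpowers, hox]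
    have := hY13 _ hYle (by rw [hYc]; exact hy)
    rwa [hYc] at this
  -- `C₃ ⊔ P` lies in a complement `EH` of `H_σ`
  have hPnσ : E₁ ≤ Subgroup.normalizer (sigmaCore M : Set G) :=
    hPM.trans (Cfsg.Agent.Lib.Helper71.BG11.le_normalizer_sigmaCore M)
  have hPnE₃ : E₁ ≤ Subgroup.normalizer (E₃ : Set G) := hE₁E.trans d.hE₃n
  have hPnC₃ : E₁ ≤ Subgroup.normalizer ((CP M E₃ : Subgroup G) : Set G) :=
    (le_inf hPnσ
      (hPnE₃.trans (Cfsg.Agent.Lib.Helper55.normalizer_le_normalizer_centralizer E₃))).trans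
      Subgroup.inf_normalizer_le_normalizer_inf
  have hJH : CP M E₃ ⊔ E₁ ≤ H := sup_le hC₃H hPH
  have hJσ : ∀ r : ℕ, r.Prime → r ∣ Nat.card ↥(CP M E₃ ⊔ E₁) → r ∉ sigma H := by
    intro r hr hrd
    have h1 := hrd.trans
      (Cfsg.Agent.Lib.Helper11.BG134.card_sup_dvd_of_le_normalizer (CP M E₃) E₁ hPnC₃)
    rcases (Nat.Prime.dvd_mul hr).1 h1 with h | h
    · rcases hprime13 r hr h with h' | h'
      · exact h'.2.1
      · exact h'.2.1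
    · have : r = Nat.card E₁ := (Nat.prime_dvd_prime_iff_eq hr hpp).1 h
      rw [this]; exact hpσH
  obtain ⟨EH, hEHc, hJEH⟩ :=
    Cfsg.Agent.Lib.Helper13.BG12.exists_complIn_ge hG hH hHallH hJH hJσ
  have hC₃EH : CP M E₃ ≤ EH := le_sup_left.trans hJEH
  have hPEH : E₁ ≤ EH := le_sup_right.trans hJEH
  have hEHtop : EH ≠ ⊤ := fun h => hH.1 (top_le_iff.mp (h ▸ hEHc.1))
  have hsolv : Group.IsSolvable ↥EH := Cfsg.Agent.Lib.Helper55.ms_solvable hG hEHtop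
  obtain ⟨F₁, hF₁, hPF₁⟩ :=
    Cfsg.Agent.Lib.Helper54.BG134.exists_isPiHallOf_ge hsolv (tau1 H) hPEH (by
      intro r hr hrd
      have : r = Nat.card E₁ := (Nat.prime_dvd_prime_iff_eq hr hpp).1 hrd
      rw [this]; exact hp1H)
  obtain ⟨F₃, hF₃, -⟩ :=
    Cfsg.Agent.Lib.Helper54.BG134.exists_isPiHallOf_ge hsolv (tau3 H)
      (bot_le : (⊥ : Subgroup G) ≤ EH) (by
      intro r hr hrd
      rw [Subgroup.card_bot] at hrd
      exact absurd (Nat.dvd_one.1 hrd) hr.ne_one)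
  obtain ⟨hF₃c, hF₃d, hF₃n⟩ := (Cfsg.Agent.S1415.result hG H hH EH hEHc).2.2 F₃ hF₃
  -- (3) `K := ⁅C₃, P⁆`
  have hKle : ⁅CP M E₃, E₁⁆ ≤ CP M E₃ :=
    Cfsg.Agent.Lib.Helper11.BG134.commutator_le_left_of_le_normalizer hPnC₃
  have hKH' : ⁅CP M E₃, E₁⁆ ≤ ⁅H, H⁆ := Subgroup.commutator_mono hC₃H hPH
  have hK3 : ∀ y : ℕ, y.Prime → y ∣ Nat.card ↥⁅CP M E₃, E₁⁆ → y ∈ tau3 H := by
    intro y hy hyd
    have h1 : y ∣ Nat.card ↥⁅H, H⁆ := hyd.trans (Subgroup.card_dvd_of_le hKH')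
    have h2 : y ∣ Nat.card (CP M E₃) := hyd.trans (Subgroup.card_dvd_of_le hKle)
    rcases hprime13 y hy h2 with h | h
    · exact absurd h1 h.2.2.2.1
    · exact h
  have hKne : ⁅CP M E₃, E₁⁆ ≠ ⊥ := by
    intro h
    apply hmv
    rw [Subgroup.commutator_eq_bot_iff_le_centralizer] at h
    exact h
  have hKF₃ : ⁅CP M E₃, E₁⁆ ≤ F₃ :=
    Cfsg.Agent.Lib.Helper71.BG10.le_of_isPiHallOf_normal hF₃ hF₃n (hKle.trans hC₃EH) hK3
  obtain ⟨y, y₀, hy, hyd, hy₀K, hoy₀⟩ :=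
    Cfsg.Agent.Lib.Helper47.BG139.exists_prime_order_of_ne_bot hKne
  have hY₀c : Nat.card (Subgroup.zpowers y₀) = y := by rw [Nat.card_zpowers, hoy₀]
  have hY₀F₃ : Subgroup.zpowers y₀ ≤ F₃ := by rw [Subgroup.zpowers_le]; exact hKF₃ hy₀K
  have hC₃ne : CP M E₃ ≠ ⊥ := by
    intro h
    apply hmv
    rw [h]
    exact bot_le
  have hsσH : Nat.card S₀ ∈ sigma H :=
    hTX M H S₀ _ hM hH (Or.inr hs3) hS₀M rfl (by rw [hCS₀]; exact hC₃ne) hNH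
  have hFs : Fact (Nat.card S₀).Prime := ⟨hS₀c⟩
  have hS₀p : IsPGroup (Nat.card S₀) S₀ := IsPGroup.of_card (n := 1) (by rw [pow_one])
  have hS₀H : S₀ ≤ H := hS₀.trans (hE₃E.trans hEH)
  have hS₀σ : S₀ ≤ sigmaCore H :=
    Cfsg.Agent.Lib.Helper91.BG125.le_sigmaCore_of_mem_sigma hG hH hsσH hS₀p hS₀H
  have hS₀cent : S₀ ≤ Subgroup.centralizer ((Subgroup.zpowers y₀ : Subgroup G) : Set G) := by
    intro s hs
    rw [Subgroup.mem_centralizer_iff]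
    intro z hz
    have hzC : z ∈ Subgroup.centralizer (E₃ : Set G) := by
      have hle : Subgroup.zpowers y₀ ≤ CP M E₃ := by
        rw [Subgroup.zpowers_le]; exact hKle hy₀K
      exact (Subgroup.mem_inf.1 (hle hz)).2
    rw [Subgroup.mem_centralizer_iff] at hzC
    exact (hzC s (hS₀ hs)).symm
  have hCPne : CP H (Subgroup.zpowers y₀) ≠ ⊥ := by
    intro h
    apply hS₀ne
    rw [eq_bot_iff, ← h]
    exact le_inf hS₀σ hS₀cent
  have nrH : NR H EH F₁ F₃ :=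
    ⟨hG, hH, hEHc, hF₁, hF₃, ⟨Subgroup.zpowers y₀, hY₀F₃, by rw [hY₀c]; exact hy, hCPne⟩⟩
  have dH : NRS H EH F₁ F₃ := hS H EH F₁ F₃ nrH
  -- (4) `H` is of type (II)
  have hIIH : TypeII H F₁ F₃ := by
    rcases dH.hdich with hI | hII'
    · exfalso
      have hF₃P : F₃ ≤ Subgroup.centralizer (E₁ : Set G) := hI.1 E₁ hPF₁ hpp
      have hKP : ⁅CP M E₃, E₁⁆ ≤ Subgroup.centralizer (E₁ : Set G) := hKF₃.trans hF₃P
      have hcop : (Nat.card E₁).Coprime (Nat.card (CP M E₃)) := by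
        rw [Nat.Prime.coprime_iff_not_dvd hpp]
        intro hd
        have := Cfsg.Agent.Lib.Helper71.BG11.sigmaCore_pi hG hM hpp
          (hd.trans (Subgroup.card_dvd_of_le hC₃σ))
        exact hp1M.2.1 this
      exact hmv (Cfsg.Agent.Lib.Helper32.le_centralizer_of_stable (CP M E₃)
        ⁅CP M E₃, E₁⁆ E₁ le_rfl hKP hKle hcop)
    · exact hII'
  have hF₁eq : F₁ = E₁ := by
    have h1 : Nat.card E₁ ∣ Nat.card F₁ := Subgroup.card_dvd_of_le hPF₁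
    have h2 : Nat.card E₁ = Nat.card F₁ := (Nat.prime_dvd_prime_iff_eq hpp hIIH.1).1 h1
    exact (Subgroup.eq_of_le_of_card_ge hPF₁ (le_of_eq h2.symm)).symm
  -- (5) `C₃ ≤ F₃`
  have hC₃F₃ : CP M E₃ ≤ F₃ := by
    apply Cfsg.Agent.Lib.Helper71.BG10.le_of_isPiHallOf_normal hF₃ hF₃n hC₃EH
    intro y hy hyd
    rcases hprime13 y hy hyd with h | h
    · exfalso
      have h1 : y ∣ Nat.card F₁ := tau1_dvd_card hG hH hEHc hF₁ h
      rw [hF₁eq] at h1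
      have h2 : y = Nat.card E₁ := (Nat.prime_dvd_prime_iff_eq hy hpp).1 h1
      have h3 : y ∈ sigma M := Cfsg.Agent.Lib.Helper71.BG11.sigmaCore_pi hG hM hy
        (hyd.trans (Subgroup.card_dvd_of_le hC₃σ))
      rw [h2] at h3
      exact hp1M.2.1 h3
    · exact h
  rw [hF₁eq] at dH hIIH
  exact ⟨EH, F₃, dH, hIIH, hC₃F₃⟩

end Cfsg.Agent.Lib.Helper47.BG1310
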