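import Cfsg.Agent.Lib.Helper32.CoprimeDecomp

/-!
# BG 13.4 (S1428), case A4, PURE sub-lemma (a): commuting coprime operator groups

Let `Sq` be a solvable subgroup and `U i` a finite family of subgroups normalizing `Sq`, of orders
prime to `|Sq|` and commuting elementwise with each other.  If no nonidentity element of `Sq` is
centralized by all the `U i`, then `Sq = ⨆ i, [Sq, U i]`.
-/

set_option autoImplicit false

namespace Cfsg.Agent.Lib.Helper47.BG134

open scoped commutatorElement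

variable {G : Type*} [Group G] [Finite G]

/-- the inductive step: `Sq ≤ (⨆ i, [Sq, U i]) ⊔ (Sq ⊓ ⨅ i ∈ s, C(U i))` for every finite set `s` -/
theorem le_iSup_commutator_sup {ι : Type*} (Sq : Subgroup G) (U : ι → Subgroup G)
    (hsolv : Group.IsSolvable ↥Sq)
    (hU : ∀ i, U i ≤ Subgroup.normalizer (Sq : Set G))
    (hcomm : ∀ i j, ∀ a ∈ U i, ∀ b ∈ U j, a * b = b * a)
    (hcop : ∀ i, (Nat.card ↥Sq).Coprime (Nat.card ↥(U i))) (s : Finset ι) :
    Sq ≤ (⨆ i, ⁅Sq, U i⁆) ⊔ (Sq ⊓ ⨅ i ∈ s, Subgroup.centralizer (U i : Set G)) := by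
  classical
  induction s using Finset.induction_on with
  | empty =>
    simp
  | insert j s hj ih =>
    set D : Subgroup G := ⨆ i, ⁅Sq, U i⁆ with hD
    set C : Subgroup G := Sq ⊓ ⨅ i ∈ s, Subgroup.centralizer (U i : Set G) with hC
    have hCS : C ≤ Sq := inf_le_left
    -- `U j` normalizes `C`
    have hjC : U j ≤ Subgroup.normalizer (C : Set G) := by
      have key : ∀ b ∈ U j, ∀ x ∈ C, b * x * b⁻¹ ∈ C := by
        intro b hb x hx
        obtain ⟨hxS, hxc⟩ := Subgroup.mem_inf.1 hx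
        refine Subgroup.mem_inf.2 ⟨?_, ?_⟩
        · exact (Subgroup.mem_normalizer_iff.1 (hU j hb) x).1 hxS
        · rw [Subgroup.mem_iInf] at hxc ⊢
          intro i
          have hxi := hxc i
          rw [Subgroup.mem_iInf] at hxi ⊢
          intro his
          have hxi' := hxi his
          rw [Subgroup.mem_centralizer_iff] at hxi' ⊢
          intro a ha
          have h1 : a * b = b * a := hcomm i j a ha b hb
          have h2 : a * x = x * a := hxi' a ha
          have h3 : a * b⁻¹ = b⁻¹ * a := by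
            have : b⁻¹ * (a * b) * b⁻¹ = b⁻¹ * (b * a) * b⁻¹ := by rw [h1]
            simpa [mul_assoc] using this.symm
          calc a * (b * x * b⁻¹) = (a * b) * x * b⁻¹ := by group
            _ = (b * a) * x * b⁻¹ := by rw [h1]
            _ = b * (a * x) * b⁻¹ := by group
            _ = b * (x * a) * b⁻¹ := by rw [h2]
            _ = b * x * (a * b⁻¹) := by group
            _ = b * x * (b⁻¹ * a) := by rw [h3]
            _ = b * x * b⁻¹ * a := by group
      intro b hb
      rw [Subgroup.mem_normalizer_iff]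
      intro x
      constructor
      · exact key b hb x
      · intro h
        have := key b⁻¹ ((U j).inv_mem hb) _ h
        simpa [mul_assoc] using this
    have hCsolv : Group.IsSolvable ↥C :=
      Group.isSolvable_of_isSolvable_injective (Subgroup.inclusion_injective hCS)
    have hCcop : (Nat.card ↥C).Coprime (Nat.card ↥(U j)) :=
      Nat.Coprime.coprime_dvd_left (Subgroup.card_dvd_of_le hCS) (hcop j)
    have hdec := Cfsg.Agent.Lib.Helper32.le_centralizer_sup_commutator hjC hCcop (Or.inl hCsolv)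
    -- `C ≤ (C ⊓ C(U j)) ⊔ [C, U j]`
    have h1 : C ⊓ Subgroup.centralizer (U j : Set G) ≤
        Sq ⊓ ⨅ i ∈ insert j s, Subgroup.centralizer (U i : Set G) := by
      rw [Finset.iInf_insert]
      intro x hx
      obtain ⟨hxC, hxj⟩ := Subgroup.mem_inf.1 hx
      obtain ⟨hxS, hxc⟩ := Subgroup.mem_inf.1 hxC
      exact Subgroup.mem_inf.2 ⟨hxS, Subgroup.mem_inf.2 ⟨hxj, hxc⟩⟩
    have h2 : ⁅C, U j⁆ ≤ D := by
      refine le_trans (Subgroup.commutator_mono hCS le_rfl) ?_
      exact le_iSup (fun i => ⁅Sq, U i⁆) j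
    calc Sq ≤ D ⊔ C := ih
      _ ≤ D ⊔ ((C ⊓ Subgroup.centralizer (U j : Set G)) ⊔ ⁅C, U j⁆) := sup_le_sup_left hdec D
      _ ≤ D ⊔ (Sq ⊓ ⨅ i ∈ insert j s, Subgroup.centralizer (U i : Set G)) := by
          refine sup_le le_sup_left (sup_le (h1.trans le_sup_right) (h2.trans le_sup_left))

/-- **A4 (a), PURE.**  Commuting coprime operator groups `U i` on a solvable group `Sq` without a
common nonidentity fixed point: `Sq = ⨆ i, [Sq, U i]`. -/
theorem iSup_commutator_eq {ι : Type*} [Finite ι] (Sq : Subgroup G) (U : ι → Subgroup G)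
    (hsolv : Group.IsSolvable ↥Sq)
    (hU : ∀ i, U i ≤ Subgroup.normalizer (Sq : Set G))
    (hcomm : ∀ i j, ∀ a ∈ U i, ∀ b ∈ U j, a * b = b * a)
    (hcop : ∀ i, (Nat.card ↥Sq).Coprime (Nat.card ↥(U i)))
    (hfix : Sq ⊓ ⨅ i, Subgroup.centralizer (U i : Set G) = ⊥) : ⨆ i, ⁅Sq, U i⁆ = Sq := by
  classical
  have : Fintype ι := Fintype.ofFinite ι
  apply le_antisymm
  · refine iSup_le (fun i => ?_)
    rw [Subgroup.commutator_le]
    intro s hs u hu
    have h1 : u * s⁻¹ * u⁻¹ ∈ Sq :=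
      (Subgroup.mem_normalizer_iff.1 (hU i hu) s⁻¹).1 (Sq.inv_mem hs)
    have e : ⁅s, u⁆ = s * (u * s⁻¹ * u⁻¹) := by rw [commutatorElement_def]; group
    rw [e]
    exact Sq.mul_mem hs h1
  · have h := le_iSup_commutator_sup Sq U hsolv hU hcomm hcop Finset.univ
    have h2 : Sq ⊓ ⨅ i ∈ (Finset.univ : Finset ι), Subgroup.centralizer (U i : Set G) = ⊥ := by
      rw [← hfix]
      congr 1
      simp
    rw [h2, sup_bot_eq] at h
    exact h

/-- **A4 (a)** for an abelian `Sq`. -/
theorem iSup_commutator_eq_of_comm {ι : Type*} [Finite ι] (Sq : Subgroup G) (U : ι → Subgroup G)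
    (hab : ∀ a ∈ Sq, ∀ b ∈ Sq, a * b = b * a)
    (hU : ∀ i, U i ≤ Subgroup.normalizer (Sq : Set G))
    (hcomm : ∀ i j, ∀ a ∈ U i, ∀ b ∈ U j, a * b = b * a)
    (hcop : ∀ i, (Nat.card ↥Sq).Coprime (Nat.card ↥(U i)))
    (hfix : Sq ⊓ ⨅ i, Subgroup.centralizer (U i : Set G) = ⊥) : ⨆ i, ⁅Sq, U i⁆ = Sq :=
  iSup_commutator_eq Sq U
    (Group.isSolvable_of_comm (fun a b => Subtype.ext (hab a a.2 b b.2))) hU hcomm hcop hfix

end Cfsg.Agent.Lib.Helper47.BG134
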