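import Cfsg.Agent.Lib.Helper47.BG134A4a

/-!
# BG 13.4 (S1428), case A4, sub-lemma (a) in helper74's exact shape
(`notes/S1428_A4_split_helper74.lean.txt`, `iSup_commutator_eq_of_fix_eq_bot`)
-/

set_option autoImplicit false

namespace Cfsg.Agent.Lib.Helper47.BG134

open scoped commutatorElement

variable {G : Type*} [Group G] [Finite G]

/-- (a) PURE.  Pairwise commuting `q'`-subgroups `U i` normalizing the abelian `q`-group `A`, with no
common fixed point on `A`: then `A` is generated by the `⁅A, U i⁆`. -/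
theorem iSup_commutator_eq_of_fix_eq_bot {q : ℕ} [hq : Fact q.Prime] (A : Subgroup G)
    (hA : IsPGroup q A)
    (hab : ∀ a ∈ A, ∀ b ∈ A, a * b = b * a) {ι : Type*} [Finite ι] (U : ι → Subgroup G)
    (hUA : ∀ i, U i ≤ Subgroup.normalizer (A : Set G)) (hUq : ∀ i, ¬ q ∣ Nat.card (U i))
    (hcomm : ∀ i j, U i ≤ Subgroup.centralizer (U j : Set G))
    (hfix : A ⊓ ⨅ i, Subgroup.centralizer (U i : Set G) = ⊥) :
    (⨆ i, ⁅A, U i⁆) = A := by
  refine iSup_commutator_eq_of_comm A U hab hUA ?_ ?_ hfix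
  · intro i j a ha b hb
    exact ((Subgroup.mem_centralizer_iff.1 (hcomm i j ha)) b hb).symm
  · intro i
    obtain ⟨k, hk⟩ := IsPGroup.iff_card.1 hA
    rw [hk]
    exact Nat.Coprime.pow_left k ((Nat.Prime.coprime_iff_not_dvd hq.out).2 (hUq i))

end Cfsg.Agent.Lib.Helper47.BG134
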