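import Mathlib
import Cfsg.Agent.Lib.Helper71.BG1366Defs
import Cfsg.Agent.Lib.Helper71.BG1366J
import Cfsg.Agent.Lib.Helper31.BG147C
import Cfsg.Agent.Lib.Helper55.Basic
import Cfsg.Agent.Lib.Helper82.BG142D2
import Cfsg.Agent.Lib.Helper57.BG142D4
import Cfsg.Agent.Lib.Helper64.BG14K
import Cfsg.Agent.Lib.Helper97.BG1366O
import Cfsg.Agent.Lib.Helper13.BG12B
import Cfsg.Agent.Lib.Helper16.BG134Base
import Cfsg.Agent.Lib.Helper16.BG134Asm
import Cfsg.Agent.Lib.Helper71.BG11a
import Cfsg.Agent.Lib.Helper47.BG139K2c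
import Cfsg.Agent.S1420

/-!
# K-1366-C2 (keystone 136604, pack of helper71 for S1366/S1368/S1351): `home_torus`
(parallel hand of helper47)
-/

set_option autoImplicit false
set_option linter.unusedVariables false
set_option linter.unusedSectionVars false

namespace Cfsg.Agent.Lib.Helper47.BG1366

open Cfsg Subgroup Cfsg.Agent.Lib.Helper11.BG14D Cfsg.Agent.Lib.Helper11.BG144
  Cfsg.Agent.Lib.Helper31.BG147 Cfsg.Agent.Lib.Helper71.BG1366

variable {G : Type*} [Group G] [Finite G]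

omit [Finite G] in
theorem mem_centralizer_zpowers_c2 {w y : G} (h : w * y = y * w) :
    w ∈ centralizer ((zpowers y : Subgroup G) : Set G) := by
  rw [Subgroup.mem_centralizer_iff]
  intro t ht
  obtain ⟨n, rfl⟩ := Subgroup.mem_zpowers_iff.mp ht
  have hc : Commute y w := h.symm
  exact (hc.zpow_left n).eq

/-- **K-1366-C2** (136604). -/
theorem home_torus (hG : IsMinSimpleOddOrder G) (h30 : H1430 G) (h31 : H1431 G) {M K X J KJ : Subgroup G}
    (hp : PPair M K) (hXK : X ≤ K) (hXc : (Nat.card X).Prime) (hJ : IsCoatom J)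
    (hXJ : X ≤ sigmaCore J) (hnc : ∀ g : G, J ≠ M.map (MulAut.conj g).toMonoidHom) (hdis : ∀ r : ℕ, r ∈ sigma M → r ∉ sigma J)
    (hpj : PPair J KJ) (hKs : Ks M K ≤ KJ)
    (h1 : sigmaCore J ⊓ M = Ks J KJ) (h2 : KJ ⊔ Ks J KJ ≤ M ⊓ J) (h3 : K ⊔ Ks M K ≤ KJ ⊔ Ks J KJ) :
    Nbr M K J KJ ∧ X ≤ Ks J KJ := by
  have hM := hp.coatom
  have hK := hp.hall
  have hK1 := hp.ne
  have hKM : K ≤ M := hK.1
  have hXM : X ≤ M := hXK.trans hKM
  have hXKsJ : X ≤ Ks J KJ := by
    rw [← h1]
    exact le_inf hXJ hXM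
  have hKs1 : Ks M K ≠ ⊥ := hp.Ks_ne_bot hG h30
  have hKsJM : Ks J KJ ≤ M := by
    rw [← h1]
    exact inf_le_right
  have hKsJσ : Ks J KJ ≤ sigmaCore J := inf_le_left
  have hMsol : Group.IsSolvable ↥M := Cfsg.Agent.Lib.Helper55.ms_solvable hG hM.1
  have h30M := h30 M hM K hK hK1
  -- a subgroup `Y ≤ K*` generated by an element of prime order
  obtain ⟨q, y, hq, -, hyKs, hyo⟩ := Cfsg.Agent.Lib.Helper47.BG139.exists_prime_order_of_ne_bot hKs1
  have hy1 : y ≠ 1 := by
    intro h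
    rw [h, orderOf_one] at hyo
    exact hq.ne_one hyo.symm
  have hyσ : y ∈ sigmaCore M := hyKs.1
  have hyKJ : y ∈ KJ := hKs hyKs
  -- (i) every prime of `|KJ*|` is in `κ(M)`
  have hi : ∀ r : ℕ, r.Prime → r ∣ Nat.card (Ks J KJ) → r ∈ kappa M := by
    intro r hr hrd
    have : Fact r.Prime := ⟨hr⟩
    obtain ⟨t, hto⟩ := exists_prime_orderOf_dvd_card' (G := ↥(Ks J KJ)) r hrd
    have htKs : (t : G) ∈ Ks J KJ := t.2
    have hto' : orderOf (t : G) = r := by rw [Subgroup.orderOf_coe, hto]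
    have ht1 : (t : G) ≠ 1 := by
      intro h
      rw [h, orderOf_one] at hto'
      exact hr.ne_one hto'.symm
    have htM : (t : G) ∈ M := hKsJM htKs
    have hrσJ : r ∈ sigma J :=
      Cfsg.Agent.Lib.Helper71.BG11.sigmaCore_pi hG hJ hr
        (dvd_trans hrd (Subgroup.card_dvd_of_le hKsJσ))
    have hrσM : r ∉ sigma M := fun h => hdis r h hrσJ
    have hrM : r ∣ Nat.card M := dvd_trans hrd (Subgroup.card_dvd_of_le hKsJM)
    -- `t` commutes with `y`
    have hty : (t : G) * y = y * (t : G) := by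
      have := Subgroup.mem_centralizer_iff.mp htKs.2 y hyKJ
      exact this.symm
    set R : Subgroup G := zpowers (t : G) with hR
    have hRM : R ≤ M := by rw [hR, Subgroup.zpowers_le]; exact htM
    have hRc : Nat.card R = r := by rw [hR, Nat.card_zpowers, hto']
    have hRKs : R ≤ Ks J KJ := by rw [hR, Subgroup.zpowers_le]; exact htKs
    have hC : sigmaCore M ⊓ centralizer (R : Set G) ≠ ⊥ := by
      intro h
      have : y ∈ sigmaCore M ⊓ centralizer (R : Set G) :=
        Subgroup.mem_inf.mpr ⟨hyσ, by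
          rw [hR]
          exact mem_centralizer_zpowers_c2 hty.symm⟩
      rw [h, Subgroup.mem_bot] at this
      exact hy1 this
    rcases Cfsg.Agent.Lib.Helper16.BG134.mem_tau_cases hG hM hr hrM hrσM with h | h | h
    · exact Cfsg.Agent.Lib.Helper64.BG14.mem_kappa_of_cent_ne_bot hG hM hr hrM hrσM h.2.2.2.2 hRM hRc hC
    · -- `r ∈ τ₂(M)`: `M` is the only maximal subgroup over `C_G(t)`; but it is `J`
      exfalso
      obtain ⟨E, hE, -⟩ := Cfsg.Agent.Lib.Helper13.BG12.exists_complIn_ge hG hM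
        (Cfsg.Agent.Lib.Helper16.BG134.hall_sigma hG hM) (K := ⊥) bot_le
        (by
          intro p hp hpd
          rw [Subgroup.card_bot] at hpd
          exact absurd (Nat.dvd_one.mp hpd) hp.ne_one)
      have h20 := (Cfsg.Agent.S1420.result hG M hM E hE).2.2.2 (t : G) htM ht1
        (by
          intro p hp hpd
          rw [hto'] at hpd
          rw [(Nat.prime_dvd_prime_iff_eq hp hr).mp hpd]
          exact h)
        ⟨htM, y, hyσ, hy1, hty⟩
      have hu := Cfsg.Agent.Lib.Helper31.BG147.cent_uniq hG h31 hpj.coatom hpj.hall hpj.ne hRKs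
        (by rw [hRc]; exact hr)
      have hJM : J = M := by
        apply h20.2 J hJ
        intro w hw
        apply hu.1
        rw [hR]
        apply mem_centralizer_zpowers_c2
        rw [Subgroup.mem_centralizer_iff] at hw
        exact (hw (t : G) rfl).symm
      apply hnc 1
      rw [hJM]
      exact (Cfsg.Agent.Lib.Helper55.cj_one M).symm
    · exact Cfsg.Agent.Lib.Helper64.BG14.mem_kappa_of_cent_ne_bot hG hM hr hrM hrσM h.2.2.2 hRM hRc hC
  -- (ii) `KJ* ≤ K`
  obtain ⟨m, hmM, hm⟩ := Cfsg.Agent.Lib.Helper97.BG1366.exists_cj_ge_of_hall hMsol hK hKsJM hi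
  have hX1 : X ≠ ⊥ := by
    intro h
    rw [h, Subgroup.card_bot] at hXc
    exact Nat.not_prime_one hXc
  have hmZ : m ∈ K ⊔ Ks M K := by
    by_contra hcon
    have := (h31 M hM K hK hK1).2.1 m hmM hcon
    apply hX1
    rw [eq_bot_iff, ← this]
    exact le_inf hXK (hXKsJ.trans hm)
  have hZN : K ⊔ Ks M K ≤ normalizer (K : Set G) := by
    rw [← (h30M.2.2 X hXK hXc).2.1]
    exact inf_le_right
  have hcjK : K.map (MulAut.conj m).toMonoidHom = K :=
    Cfsg.Agent.Lib.Helper55.cj_eq_self_iff.mpr (hZN hmZ)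
  have hKsJK : Ks J KJ ≤ K := by
    rw [← hcjK]
    exact hm
  -- (iii)
  have hksJ : Ks J KJ = K ⊓ sigmaCore J := by
    apply le_antisymm
    · exact le_inf hKsJK hKsJσ
    · rw [← h1]
      exact le_inf inf_le_right (inf_le_left.trans hKM)
  -- (iv) `M ⊓ J ≤ K K*`
  have hcyc : ∀ (r : ℕ) [Fact r.Prime] (R : Sylow r K), IsCyclic (R : Subgroup K) := by
    intro r _ R
    by_cases hrK : r ∣ Nat.card K
    · have hrκ : r ∈ kappa M := hK.2.1 r Fact.out hrK
      exact (Cfsg.Agent.Lib.Helper57.BG142.kappa_facts hM hrκ).2.2 K hKM R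
    · have : (R : Subgroup K) = ⊥ := by
        have h1 : Nat.card (R : Subgroup K) = 1 := by
          rw [Sylow.card_eq_multiplicity, Nat.factorization_eq_zero_of_not_dvd hrK, pow_zero]
        exact Subgroup.card_eq_one.mp h1
      rw [this]
      infer_instance
  have hnormK : ∀ X' : Subgroup G, X' ≤ K → (Nat.card X').Prime → K ≤ normalizer (X' : Set G) := by
    intro X' hX'K hX'c
    have := (h30M.2.2 X' hX'K hX'c).1
    exact (le_sup_left.trans this.ge).trans inf_le_right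
  have huniq := Cfsg.Agent.Lib.Helper82.BG142.uniq_prime_sub_of_normal hcyc hnormK
  have hinter_le : M ⊓ J ≤ K ⊔ Ks M K := by
    intro d hd
    have hdM : d ∈ M := hd.1
    have hdJ : d ∈ J := hd.2
    rw [← (h30M.2.2 X hXK hXc).1]
    refine Subgroup.mem_inf.mpr ⟨hdM, ?_⟩
    rw [← Cfsg.Agent.Lib.Helper55.cj_eq_self_iff]
    -- `cj d X ≤ KJ* ≤ K` has the order of `X`
    have hle : Cfsg.Agent.Lib.Helper55.cj d X ≤ Ks J KJ := by
      rw [← h1]
      intro w hw
      rw [Cfsg.Agent.Lib.Helper55.mem_cj] at hw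
      have hwX := hw
      have hσ : d⁻¹ * w * d ∈ sigmaCore J := hXJ hwX
      have hMm : d⁻¹ * w * d ∈ M := hXM hwX
      refine Subgroup.mem_inf.mpr ⟨?_, ?_⟩
      · have hn := Cfsg.Agent.Lib.Helper71.BG11.le_normalizer_sigmaCore J hdJ
        have := (Subgroup.mem_normalizer_iff.mp hn (d⁻¹ * w * d)).mp hσ
        have e : d * (d⁻¹ * w * d) * d⁻¹ = w := by group
        rwa [e] at this
      · have := M.mul_mem (M.mul_mem hdM hMm) (M.inv_mem hdM)
        have e : d * (d⁻¹ * w * d) * d⁻¹ = w := by group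
        rwa [e] at this
    have hcard : Nat.card (Cfsg.Agent.Lib.Helper55.cj d X) = Nat.card X := by
      exact Nat.card_congr (Subgroup.equivMapOfInjective X (MulAut.conj d).toMonoidHom
        (MulAut.conj d).injective).symm.toEquiv
    exact huniq X (Cfsg.Agent.Lib.Helper55.cj d X) hXK (hle.trans hKsJK) hXc hcard
  have hinter : M ⊓ J = K ⊔ Ks M K := le_antisymm hinter_le (h3.trans h2)
  have hzeq : KJ ⊔ Ks J KJ = K ⊔ Ks M K := le_antisymm (h2.trans hinter_le) h3
  exact ⟨⟨hpj, hnc, hKs, hinter, hzeq, hksJ⟩, hXKsJ⟩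

end Cfsg.Agent.Lib.Helper47.BG1366
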