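import Mathlib
import Cfsg.Agent.Lib.Helper71.BG1366Defs
import Cfsg.Agent.Lib.Helper31.BG147C
import Cfsg.Agent.Lib.Helper27.BG147P
import Cfsg.Agent.Lib.Helper55.Basic
import Cfsg.Agent.Lib.Helper68.BG144G2
import Cfsg.Agent.Lib.Helper48.BG144G1
import Cfsg.Agent.Lib.Helper81.BG144R
import Cfsg.Agent.Lib.Helper75.BG14DP
import Cfsg.Agent.Lib.Helper75.BG144E
import Cfsg.Agent.Lib.Helper77.BG147N
import Cfsg.Agent.Lib.Helper89.BG14DS1
import Cfsg.Agent.Lib.Helper71.BG11a
import Cfsg.Agent.Lib.Helper01.BG134CJ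
import Cfsg.Agent.S1378

/-!
# K-1366-F (keystone 136607, pack of helper71 for S1366/S1368/S1351): the tilde set of ANY maximal
subgroup `J` misses the class support of `Ẑ = K K* - (K ∪ K*)` of a `P`-pair `(M, K)`.
(parallel hand of helper47)
-/

set_option autoImplicit false
set_option linter.unusedVariables false
set_option linter.unusedSectionVars false

namespace Cfsg.Agent.Lib.Helper47.BG1366

open Cfsg Subgroup Cfsg.Agent.Lib.Helper11.BG14D Cfsg.Agent.Lib.Helper11.BG144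
  Cfsg.Agent.Lib.Helper31.BG147 Cfsg.Agent.Lib.Helper71.BG1366

variable {G : Type*} [Group G] [Finite G]

omit [Finite G] in
/-- `R(x)` centralizes `x`. -/
theorem supportR_le_centralizer_f (M : Subgroup G) (x : G) :
    supportR M x ≤ centralizer ({x} : Set G) := by
  unfold supportR
  split_ifs with h
  · exact inf_le_right
  · exact bot_le

omit [Finite G] in
/-- an element commuting with `y` centralizes `zpowers y` -/
theorem mem_centralizer_zpowers_f {w y : G} (h : w * y = y * w) :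
    w ∈ centralizer ((zpowers y : Subgroup G) : Set G) := by
  rw [Subgroup.mem_centralizer_iff]
  intro t ht
  obtain ⟨n, rfl⟩ := Subgroup.mem_zpowers_iff.mp ht
  have hc : Commute y w := h.symm
  exact (hc.zpow_left n).eq

omit [Finite G] in
theorem centralizer_zpowers_le_f (a : G) :
    centralizer ({a} : Set G) ≤ centralizer ((zpowers a : Subgroup G) : Set G) := by
  intro w hw
  apply mem_centralizer_zpowers_f
  rw [Subgroup.mem_centralizer_iff] at hw
  exact (hw a rfl).symm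

theorem pow_card_eq_one_f {H : Subgroup G} {x : G} (hx : x ∈ H) : x ^ Nat.card H = 1 := by
  have h := pow_card_eq_one' (G := H) (x := ⟨x, hx⟩)
  exact congrArg Subtype.val h

/-- an element of two subgroups of coprime orders is trivial -/
theorem eq_one_of_coprime_f {A B : Subgroup G} (h : (Nat.card A).Coprime (Nat.card B)) {x : G}
    (hA : x ^ Nat.card A = 1) (hB : x ^ Nat.card B = 1) : x = 1 := by
  have h2 : orderOf x ∣ Nat.card A := orderOf_dvd_of_pow_eq_one hA
  have h3 : orderOf x ∣ Nat.card B := orderOf_dvd_of_pow_eq_one hB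
  have h4 : orderOf x ∣ 1 := by
    have := Nat.dvd_gcd h2 h3
    rwa [h] at this
  exact orderOf_eq_one_iff.mp (Nat.dvd_one.mp h4)

/-- the core: no element `a r`, `a ∈ J_σ - 1`, `r ∈ R(a)`, lies in `Ẑ(M, K)`. -/
theorem core_f (hG : IsMinSimpleOddOrder G) (h30 : H1430 G) (h31 : H1431 G) (hB : HB G) (hC : HC G)
    {J M K : Subgroup G} (hJ : IsCoatom J) (hp : PPair M K) {a r : G} (ha : a ∈ sigmaCore J)
    (ha1 : a ≠ 1) (hr : r ∈ supportR J a) (hz : a * r ∈ Zhat M K) : False := by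
  have hM := hp.coatom
  have hK := hp.hall
  have hK1 := hp.ne
  have hra : a * r = r * a := by
    have h := supportR_le_centralizer_f J a hr
    rw [Subgroup.mem_centralizer_iff] at h
    exact h a rfl
  have hcK : Ks M K ≤ centralizer (K : Set G) := inf_le_right
  have hcop : (Nat.card K).Coprime (Nat.card (Ks M K)) :=
    Cfsg.Agent.Lib.Helper77.BG147.coprime_card_Ks hG hM hK
  obtain ⟨x₀, hx₀, y₀, hy₀, hx₀1, hy₀1, hzxy, hxy, ⟨i, hi⟩, ⟨j, hj⟩⟩ :=
    Cfsg.Agent.Lib.Helper27.BG147.zhat_parts hcK hcop hz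
  have hca : Commute a (a * r) := by
    show a * (a * r) = a * r * a
    rw [mul_assoc a r a, ← hra]
  have hax : a * x₀ = x₀ * a := by
    rw [← hi]
    exact (hca.pow_right i).eq
  have hay : a * y₀ = y₀ * a := by
    rw [← hj]
    exact (hca.pow_right j).eq
  -- `a ∈ M`
  have hY0 : (zpowers y₀ : Subgroup G) ≤ Ks M K := by
    rw [Subgroup.zpowers_le]
    exact hy₀
  have hY01 : (zpowers y₀ : Subgroup G) ≠ ⊥ := by
    rw [Ne, Subgroup.zpowers_eq_bot]
    exact hy₀1
  have haM : a ∈ M :=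
    Cfsg.Agent.Lib.Helper31.BG147.centralizer_le h31 hM hK hK1 hY0 hY01 (mem_centralizer_zpowers_f hay)
  -- `a ∈ K K*`
  obtain ⟨X₀, hX₀le, hX₀c⟩ := Cfsg.Agent.Lib.Helper89.BG14D.exists_prime_card_le_zpowers hx₀1
  have hX₀K : X₀ ≤ K := hX₀le.trans (by rw [Subgroup.zpowers_le]; exact hx₀)
  have h3 := ((h30 M hM K hK hK1).2.2 X₀ hX₀K hX₀c).1
  have haKK : a ∈ K ⊔ Ks M K := by
    rw [← h3]
    refine Subgroup.mem_inf.mpr ⟨haM, ?_⟩
    apply Subgroup.centralizer_le_normalizer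
    exact Subgroup.centralizer_le (by exact_mod_cast hX₀le) (mem_centralizer_zpowers_f hax)
  obtain ⟨x₁, hx₁, y₁, hy₁, haxy⟩ :=
    Cfsg.Agent.Lib.Helper27.BG147.exists_mul_of_mem_sup_of_centralizer hcK haKK
  have hxy₁ : x₁ * y₁ = y₁ * x₁ := (Subgroup.mem_centralizer_iff.mp (hcK hy₁)) x₁ hx₁
  have hx₁K : x₁ ^ Nat.card K = 1 := pow_card_eq_one_f hx₁
  have hy₁Y : y₁ ^ Nat.card (Ks M K) = 1 := pow_card_eq_one_f hy₁
  have hpowx := Cfsg.Agent.Lib.Helper75.BG14D.pow_crt_eq hcop hx₁K hy₁Y hxy₁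
  have hpowy := Cfsg.Agent.Lib.Helper75.BG14D.pow_crt_eq hcop.symm hy₁Y hx₁K hxy₁.symm
  have haσ : a ^ Nat.card (sigmaCore J) = 1 := pow_card_eq_one_f ha
  have hx₁σ : x₁ ^ Nat.card (sigmaCore J) = 1 := by
    rw [← hpowx, ← haxy, ← pow_mul, mul_comm, pow_mul, haσ, one_pow]
  have hy₁σ : y₁ ^ Nat.card (sigmaCore J) = 1 := by
    rw [← hpowy, ← hxy₁, ← haxy, ← pow_mul, mul_comm, pow_mul, haσ, one_pow]
  have hσJ : sigmaCore J ≤ J := Cfsg.Agent.Lib.Helper71.BG11.sigmaCore_le J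
  have hσM : sigmaCore M ≤ M := Cfsg.Agent.Lib.Helper71.BG11.sigmaCore_le M
  have hA1 : (zpowers a : Subgroup G) ≠ ⊥ := by
    rw [Ne, Subgroup.zpowers_eq_bot]
    exact ha1
  by_cases hconj : ∃ g' : G, J = M.map (MulAut.conj g').toMonoidHom
  · -- CASE 1: `J` conjugate to `M`
    obtain ⟨g', hg'⟩ := hconj
    -- `|K|` and `|J_σ|` are coprime
    have hcopKJ : (Nat.card K).Coprime (Nat.card (sigmaCore J)) := by
      apply Nat.coprime_of_dvd
      intro q hq hqK hqJ
      have h1 : q ∈ kappa M := hK.2.1 q hq hqK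
      have h2 : q ∈ sigma J := Cfsg.Agent.Lib.Helper71.BG11.sigmaCore_pi hG hJ hq hqJ
      rw [hg'] at h2
      exact h1.2.2.1 ((Cfsg.Agent.Lib.Helper01.BG134.mem_sigma_cj_iff g').mp h2)
    have hx₁1 : x₁ = 1 := eq_one_of_coprime_f hcopKJ hx₁K hx₁σ
    have haKs : a ∈ Ks M K := by
      rw [haxy, hx₁1, one_mul]
      exact hy₁
    have hA : (zpowers a : Subgroup G) ≤ Ks M K := by
      rw [Subgroup.zpowers_le]
      exact haKs
    have hg'M : g' ∈ M := by
      apply Cfsg.Agent.Lib.Helper31.BG147.mem_of_le_cj h31 hM hK hK1 hA hA1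
      rw [Subgroup.zpowers_le]
      have h := hσJ ha
      rw [hg'] at h
      exact h
    have hJM : J = M := by
      rw [hg']
      exact Cfsg.Agent.Lib.Helper55.cj_eq_self_of_mem hg'M
    have hCa : centralizer ({a} : Set G) ≤ J := by
      rw [hJM]
      exact (centralizer_zpowers_le_f a).trans
        (Cfsg.Agent.Lib.Helper31.BG147.centralizer_le h31 hM hK hK1 hA hA1)
    have hR : supportR J a = ⊥ := Cfsg.Agent.Lib.Helper81.BG144.supportR_eq_bot J a hCa
    rw [hR, Subgroup.mem_bot] at hr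
    apply hz.2
    right
    rw [SetLike.mem_coe, hr, mul_one]
    exact haKs
  · -- CASE 2: `J` not conjugate to `M`
    have hdis : ∀ q : ℕ, q ∈ sigma M → q ∉ sigma J := by
      intro q hqM hqJ
      exact hconj ((Cfsg.Agent.S1378.result hG).2 M J hM hJ ⟨q, hqM, hqJ⟩)
    have hcopYJ : (Nat.card (Ks M K)).Coprime (Nat.card (sigmaCore J)) := by
      apply Nat.coprime_of_dvd
      intro q hq hqY hqJ
      have h1 : q ∈ sigma M :=
        Cfsg.Agent.Lib.Helper71.BG11.sigmaCore_pi hG hM hq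
          (dvd_trans hqY (Subgroup.card_dvd_of_le (inf_le_left : Ks M K ≤ sigmaCore M)))
      exact hdis q h1 (Cfsg.Agent.Lib.Helper71.BG11.sigmaCore_pi hG hJ hq hqJ)
    have hy₁1 : y₁ = 1 := eq_one_of_coprime_f hcopYJ hy₁Y hy₁σ
    have haK : a ∈ K := by
      rw [haxy, hy₁1, mul_one]
      exact hx₁
    by_cases hCa : centralizer ({a} : Set G) ≤ J
    · have hR : supportR J a = ⊥ := Cfsg.Agent.Lib.Helper81.BG144.supportR_eq_bot J a hCa
      rw [hR, Subgroup.mem_bot] at hr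
      apply hz.2
      left
      rw [SetLike.mem_coe, hr, mul_one]
      exact haK
    · obtain ⟨N, hN⟩ := hB J hJ a ha ha1 hCa
      have hReq := Cfsg.Agent.Lib.Helper81.BG144.supportR_eq hC hN
      rw [hReq] at hr
      have hrN : r ∈ sigmaCore N := hr.1
      -- `w := y₀ ^ |K| = r ^ |K| ∈ K* ⊓ N_σ`, `w ≠ 1`
      set n := Nat.card K with hn
      have haK' : a ^ n = 1 := pow_card_eq_one_f haK
      have hx₀K' : x₀ ^ n = 1 := pow_card_eq_one_f hx₀
      have hw1 : (a * r) ^ n = r ^ n := by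
        rw [(show Commute a r from hra).mul_pow, haK', one_mul]
      have hw2 : (a * r) ^ n = y₀ ^ n := by
        rw [hzxy, (show Commute x₀ y₀ from hxy).mul_pow, hx₀K', one_mul]
      have hwY : y₀ ^ n ∈ Ks M K := Subgroup.pow_mem _ hy₀ n
      have hwN : y₀ ^ n ∈ sigmaCore N := by
        rw [← hw2, hw1]
        exact Subgroup.pow_mem _ hrN n
      have hwne : y₀ ^ n ≠ 1 := by
        intro h
        exact hy₀1 (eq_one_of_coprime_f hcop h (pow_card_eq_one_f hy₀))
      -- a common prime of `σ(M)` and `σ(N)`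
      have hNc : IsCoatom N := hN.coatom
      have hord : orderOf (y₀ ^ n) ≠ 1 := fun h => hwne (orderOf_eq_one_iff.mp h)
      obtain ⟨q, hq, hqd⟩ := Nat.exists_prime_and_dvd hord
      have hqM : q ∈ sigma M := by
        apply Cfsg.Agent.Lib.Helper71.BG11.sigmaCore_pi hG hM hq
        have : orderOf (y₀ ^ n) ∣ Nat.card (sigmaCore M) :=
          orderOf_dvd_of_pow_eq_one (pow_card_eq_one_f (hwY.1))
        exact dvd_trans hqd this
      have hqN : q ∈ sigma N := by
        apply Cfsg.Agent.Lib.Helper71.BG11.sigmaCore_pi hG hNc hq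
        have : orderOf (y₀ ^ n) ∣ Nat.card (sigmaCore N) :=
          orderOf_dvd_of_pow_eq_one (pow_card_eq_one_f hwN)
        exact dvd_trans hqd this
      obtain ⟨g', hg'⟩ := (Cfsg.Agent.S1378.result hG).2 M N hM hNc ⟨q, hqM, hqN⟩
      have hW : (zpowers (y₀ ^ n) : Subgroup G) ≤ Ks M K := by
        rw [Subgroup.zpowers_le]
        exact hwY
      have hW1 : (zpowers (y₀ ^ n) : Subgroup G) ≠ ⊥ := by
        rw [Ne, Subgroup.zpowers_eq_bot]
        exact hwne
      have hg'M : g' ∈ M := by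
        apply Cfsg.Agent.Lib.Helper31.BG147.mem_of_le_cj h31 hM hK hK1 hW hW1
        rw [Subgroup.zpowers_le]
        have h := (Cfsg.Agent.Lib.Helper71.BG11.sigmaCore_le N) hwN
        rw [hg'] at h
        exact h
      have hNM : N = M := by
        rw [hg']
        exact Cfsg.Agent.Lib.Helper55.cj_eq_self_of_mem hg'M
      -- a prime of `orderOf a` is in `κ(M)` and in `τ₂(M)`
      have horda : orderOf a ≠ 1 := fun h => ha1 (orderOf_eq_one_iff.mp h)
      obtain ⟨ℓ, hℓ, hℓd⟩ := Nat.exists_prime_and_dvd horda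
      have hℓ2 : ℓ ∈ tau2 M := by
        rw [← hNM]
        exact hN.tau2 ℓ hℓ hℓd
      have hℓκ : ℓ ∈ kappa M := by
        apply hK.2.1 ℓ hℓ
        exact dvd_trans hℓd (orderOf_dvd_of_pow_eq_one haK')
      exact Cfsg.Agent.Lib.Helper75.BG144.not_mem_tau2_of_mem_kappa hℓκ hℓ2

/-- **K-1366-F** (136607). -/
theorem tilde_disjoint_zhat (hG : IsMinSimpleOddOrder G) (h30 : H1430 G) (h31 : H1431 G) (hB : HB G) (hC : HC G)
    {J M K : Subgroup G} (hJ : IsCoatom J) (hp : PPair M K) :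
    Disjoint (tildeOf J ((sigmaCore J : Set G) \ {1})) (csupp (Zhat M K)) := by
  rw [Set.disjoint_left]
  rintro v ⟨a, ⟨haσ, ha1⟩, r, hr, y, hv⟩ ⟨g, z, hz, hv'⟩
  have ha1' : a ≠ 1 := fun h => ha1 (by simp [h])
  have haσ' : a ∈ sigmaCore J := haσ
  -- conjugating
  set c : G := g⁻¹ * y with hc
  have hzc : z = (c * a * c⁻¹) * (c * r * c⁻¹) := by
    have h1 : y * (a * r) * y⁻¹ = g * z * g⁻¹ := hv.symm.trans hv'
    have h2 : z = g⁻¹ * (g * z * g⁻¹) * g := by group
    rw [h2, ← h1, hc]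
    group
  have hJ' : IsCoatom (Cfsg.Agent.Lib.Helper11.BG144.cj c J) :=
    (Cfsg.Agent.Lib.Helper48.BG144.isCoatom_cj_iff c J).mpr hJ
  have ha' : c * a * c⁻¹ ∈ sigmaCore (Cfsg.Agent.Lib.Helper11.BG144.cj c J) := by
    rw [Cfsg.Agent.Lib.Helper68.BG144.sigmaCore_cj hG hJ c]
    exact Cfsg.Agent.Lib.Helper55.conj_mem_cj haσ'
  have ha'1 : c * a * c⁻¹ ≠ 1 := by
    intro h
    apply ha1'
    have : a = c⁻¹ * (c * a * c⁻¹) * c := by group
    rw [this, h]
    group
  have hr' : c * r * c⁻¹ ∈ supportR (Cfsg.Agent.Lib.Helper11.BG144.cj c J) (c * a * c⁻¹) := by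
    rw [Cfsg.Agent.Lib.Helper48.BG144.supportR_conj J a c]
    exact Cfsg.Agent.Lib.Helper55.conj_mem_cj hr
  rw [hzc] at hz
  exact core_f hG h30 h31 hB hC hJ' hp ha' ha'1 hr' hz

end Cfsg.Agent.Lib.Helper47.BG1366
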