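import Mathlib
import Cfsg.Agent.S0025
import Cfsg.Agent.S1418
import Cfsg.Agent.Lib.Helper31.BG137Defs
import Cfsg.Agent.Lib.Helper55.BG135b
import Cfsg.Agent.Lib.Helper55.CoprimeGen
import Cfsg.Agent.Lib.Helper91.BG125e
import Cfsg.Agent.Lib.Helper71.BG11a

/-!
# K-137N-J1 (keystone 137712, architect helper31): `LCfg.exists_S_EL`

BG 13.7, step (j), existence: a `P`-invariant Sylow `q`-subgroup `S₁ ≥ A` of `L_σ` and a complement
`EL ∋ P` of `L_σ` in `L` normalizing it.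
-/

set_option autoImplicit false

namespace Cfsg.Agent.Lib.Helper47.BG137

open Cfsg Cfsg.Agent.Lib.Helper55 Cfsg.Agent.Lib.Helper31.BG137 Cfsg.Agent.Lib.Helper15.BG139

variable {G : Type*} [Group G] [Finite G]

theorem LCfg.exists_S_EL {M E P A L : Subgroup G} {p q : ℕ} (l : LCfg M E P A L p q)
    (hpσ : p ∉ sigma L) :
    ∃ S₁ EL : Subgroup G, IsSylowIn q (sigmaCore L) S₁ ∧ A ≤ S₁ ∧ IsComplIn EL (sigmaCore L) L ∧
      P ≤ EL ∧ EL ≤ Subgroup.normalizer (S₁ : Set G) := by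
  have hG := l.c.hG
  have hL := l.hL
  have hqq : Fact q.Prime := ⟨l.c.hq.1⟩
  have hpp : p.Prime := l.c.hp.1
  have hPL : P ≤ L := l.c.hPE.trans l.hEL
  have hAL : A ≤ L := l.c.hAE.trans l.hEL
  have hAq : IsPGroup q A := Cfsg.Agent.Lib.Helper55.isPGroup_of_pow_eq_one l.c.hAe.2
  have hAσ : A ≤ sigmaCore L :=
    Cfsg.Agent.Lib.Helper91.BG125.le_sigmaCore_of_mem_sigma hG hL l.hqL hAq hAL
  have hEA : E ≤ Subgroup.normalizer (A : Set G) :=
    (Cfsg.Agent.S1418.result hG M l.c.hM E l.c.hE q l.c.hq A ⟨l.c.hAE, l.c.hAe, l.c.hAc⟩).1.1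
  have hPA : P ≤ Subgroup.normalizer (A : Set G) := l.c.hPE.trans hEA
  have hPσ : P ≤ Subgroup.normalizer (sigmaCore L : Set G) :=
    hPL.trans (Cfsg.Agent.Lib.Helper71.BG11.le_normalizer_sigmaCore L)
  have hcop : (Nat.card P).Coprime (Nat.card (sigmaCore L)) := by
    rw [l.c.hP]
    rw [Nat.Prime.coprime_iff_not_dvd hpp]
    intro hd
    exact hpσ (Cfsg.Agent.Lib.Helper71.BG11.sigmaCore_pi hG hL hpp hd)
  have hLtop : L ≠ ⊤ := hL.1
  have hσtop : sigmaCore L ≠ ⊤ := by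
    intro h
    apply hLtop
    rw [eq_top_iff, ← h]
    exact Cfsg.Agent.Lib.Helper71.BG11.sigmaCore_le L
  have hsolv : Group.IsSolvable (sigmaCore L) := Cfsg.Agent.Lib.Helper55.ms_solvable hG hσtop
  obtain ⟨S, hAS, hPS⟩ := Cfsg.Agent.S0025.result P (sigmaCore L) hPσ hcop (Or.inr hsolv) q A hAσ hAq hPA
  have hS₁ : IsSylowIn q (sigmaCore L) ((S : Subgroup (sigmaCore L)).map (sigmaCore L).subtype) :=
    isSylowIn_of_sylow S
  have hK : ∀ s : ℕ, s.Prime → s ∣ Nat.card P → s ∉ sigma L := by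
    intro s hs hsd
    rw [l.c.hP] at hsd
    have : s = p := (Nat.prime_dvd_prime_iff_eq hs hpp).1 hsd
    rw [this]; exact hpσ
  obtain ⟨EL, hEL, hPEL, hELS⟩ :=
    Cfsg.Agent.Lib.Helper55.BG135.exists_complIn_ge_normalizing hG hL hPL hK hS₁ hPS
  exact ⟨_, EL, hS₁, hAS, hEL, hPEL, hELS⟩

end Cfsg.Agent.Lib.Helper47.BG137
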