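import Cfsg.Agent.Lib.Helper03.FrobSub

/-!
# BG Theorem 13.9 (S1378), step 11 of `notes/BG13_9_proof_helper15.md`: PURE core

A Frobenius-like group `S ⋊ E₁` (`S` nilpotent, every nonidentity element of `E₁` fixed-point-free on
`S`) acts coprimely on a solvable group `T` not centralized by `S`.  If a subgroup `P ≤ E₁` has the
same fixed points on `T` as `E₁`, then `P = E₁`.

Proof: the Frobenius–Wielandt formula (`Helper03.FrobSub.wielandt_sub`) for `S ⋊ E₁` and for `S ⋊ P`:
with `k = |C_T(E₁)| / |C_T(S E₁)|` one gets `|T| = k ^ |E₁| |C_T(S)| = k ^ |P| |C_T(S)|` and `k > 1`.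
-/

set_option autoImplicit false

namespace Cfsg.Agent.Lib.Helper47.BG139

variable {G : Type*} [Group G]

/-- `C(A ⊔ B) = C(A) ⊓ C(B)` -/
theorem centralizer_sup_eq (A B : Subgroup G) :
    Subgroup.centralizer ((A ⊔ B : Subgroup G) : Set G) =
      Subgroup.centralizer (A : Set G) ⊓ Subgroup.centralizer (B : Set G) := by
  apply le_antisymm
  · exact le_inf (Subgroup.centralizer_le (SetLike.coe_subset_coe.2 le_sup_left))
      (Subgroup.centralizer_le (SetLike.coe_subset_coe.2 le_sup_right))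
  · intro x hx
    obtain ⟨hxA, hxB⟩ := Subgroup.mem_inf.1 hx
    have hle : A ⊔ B ≤ Subgroup.centralizer ({x} : Set G) := by
      apply sup_le
      · intro a ha
        rw [Subgroup.mem_centralizer_singleton_iff]
        exact (Subgroup.mem_centralizer_iff.1 hxA) a ha
      · intro b hb
        rw [Subgroup.mem_centralizer_singleton_iff]
        exact (Subgroup.mem_centralizer_iff.1 hxB) b hb
    rw [Subgroup.mem_centralizer_iff]
    intro l hl
    have := hle hl
    rw [Subgroup.mem_centralizer_singleton_iff] at this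
    exact this

set_option linter.unusedVariables false in
/-- **Step 11 of BG 13.9, pure core.** -/
theorem card_eq_of_frobenius_wielandt [Finite G] (S E₁ P T : Subgroup G)
    (hnil : Group.IsNilpotent ↥S)
    (hES : ∀ e ∈ E₁, ∀ u ∈ S, e * u * e⁻¹ ∈ S)
    (hfpf : ∀ e ∈ E₁, e ≠ 1 → ∀ u ∈ S, e * u = u * e → u = 1)
    (hTn : ∀ x ∈ S ⊔ E₁, ∀ h ∈ T, x * h * x⁻¹ ∈ T)
    (hsolv : Group.IsSolvable ↥T)
    (hcop : Nat.Coprime (Nat.card ↥T) (Nat.card ↥(S ⊔ E₁)))
    (hPE : P ≤ E₁) (hP1 : P ≠ ⊥)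
    (hprime : T ⊓ Subgroup.centralizer (P : Set G) = T ⊓ Subgroup.centralizer (E₁ : Set G))
    (hST : ¬ T ≤ Subgroup.centralizer (S : Set G)) : P = E₁ := by
  have hSP_le : S ⊔ P ≤ S ⊔ E₁ := sup_le_sup_left hPE S
  have hW1 := Cfsg.Agent.Lib.Helper03.FrobSub.wielandt_sub S E₁ T hES hfpf hnil hTn hsolv hcop
  have hW2 := Cfsg.Agent.Lib.Helper03.FrobSub.wielandt_sub S P T (fun e he => hES e (hPE he))
    (fun e he => hfpf e (hPE he)) hnil (fun x hx => hTn x (hSP_le hx)) hsolv
    (Nat.Coprime.coprime_dvd_right (Subgroup.card_dvd_of_le hSP_le) hcop)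
  -- the fixed points of `S P` and of `S E₁` on `T` agree
  have hfix : T ⊓ Subgroup.centralizer ((S ⊔ P : Subgroup G) : Set G) =
      T ⊓ Subgroup.centralizer ((S ⊔ E₁ : Subgroup G) : Set G) := by
    rw [centralizer_sup_eq, centralizer_sup_eq]
    calc T ⊓ (Subgroup.centralizer (S : Set G) ⊓ Subgroup.centralizer (P : Set G))
        = Subgroup.centralizer (S : Set G) ⊓ (T ⊓ Subgroup.centralizer (P : Set G)) := by
          rw [← inf_assoc, inf_comm T, inf_assoc]
      _ = Subgroup.centralizer (S : Set G) ⊓ (T ⊓ Subgroup.centralizer (E₁ : Set G)) := by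
          rw [hprime]
      _ = T ⊓ (Subgroup.centralizer (S : Set G) ⊓ Subgroup.centralizer (E₁ : Set G)) := by
          rw [← inf_assoc, inf_comm _ T, inf_assoc]
  rw [hfix, hprime] at hW2
  -- notation
  set a := Nat.card ↥(T ⊓ Subgroup.centralizer ((S ⊔ E₁ : Subgroup G) : Set G)) with ha
  set b := Nat.card ↥(T ⊓ Subgroup.centralizer (E₁ : Set G)) with hb
  set c := Nat.card ↥(T ⊓ Subgroup.centralizer (S : Set G)) with hc
  set h := Nat.card ↥T with hh
  have hapos : 0 < a := Nat.card_pos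
  have hcpos : 0 < c := Nat.card_pos
  have hab : a ∣ b := Subgroup.card_dvd_of_le
    (inf_le_inf_left T (Subgroup.centralizer_le (SetLike.coe_subset_coe.2 le_sup_right)))
  obtain ⟨k, hk⟩ := hab
  have h1 : h = k ^ Nat.card ↥E₁ * c := by
    rw [hk, mul_pow, mul_assoc] at hW1
    exact Nat.eq_of_mul_eq_mul_left (pow_pos hapos _) hW1
  have h2 : h = k ^ Nat.card ↥P * c := by
    rw [hk, mul_pow, mul_assoc] at hW2
    exact Nat.eq_of_mul_eq_mul_left (pow_pos hapos _) hW2
  have hpow : k ^ Nat.card ↥E₁ = k ^ Nat.card ↥P :=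
    Nat.eq_of_mul_eq_mul_right hcpos (h1.symm.trans h2)
  have hch : c ≠ h := by
    intro heq
    apply hST
    have : T ⊓ Subgroup.centralizer (S : Set G) = T :=
      Subgroup.eq_of_le_of_card_ge inf_le_left (by rw [← hc, ← hh, heq])
    exact le_trans (le_of_eq this.symm) inf_le_right
  have hk2 : 2 ≤ k := by
    rcases Nat.lt_or_ge k 2 with hlt | hge
    · exfalso
      interval_cases k
      · -- k = 0: b = 0, impossible
        have hbpos : 0 < b := Nat.card_pos
        rw [hk] at hbpos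
        simp at hbpos
      · apply hch
        rw [h1]
        simp
    · exact hge
  have hcard : Nat.card ↥E₁ = Nat.card ↥P := Nat.pow_right_injective hk2 hpow
  exact Subgroup.eq_of_le_of_card_ge hPE hcard.le

end Cfsg.Agent.Lib.Helper47.BG139
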