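import Cfsg.Agent.S1427
import Cfsg.Agent.S1428
import Cfsg.Agent.Lib.Helper13.BG12A

/-!
# BG Theorem 13.9 (S1378), step 7 of `notes/BG13_9_proof_helper15.md` (= BG 13.5-type prime action)

Let `M` be a maximal subgroup, `E` a complement of `M_σ` in `M` and `E₁ ≤ E` a commutative
`τ₁(M)`-subgroup (e.g. the cyclic Hall `τ₁(M)`-subgroup of `E`).  Then `E₁` acts in a prime manner on
`M_σ`: `C_{M_σ}(x) = C_{M_σ}(E₁)` for all `x ∈ E₁ - 1`.

Proof: for `m ∈ C_{M_σ}(x)` take `P₀ ≤ ⟨x⟩` of prime order; S1428 shows that `m` commutes with every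
element of prime order of `E₁`; for a Sylow `u`-subgroup `W` of `E₁`, contained in a (cyclic) Sylow
`u`-subgroup `R` of `E`, S1427 shows that `m` centralizes `R ⊇ W`.  So `C_{E₁}(m)` has index prime to
every prime.
-/

set_option autoImplicit false

namespace Cfsg.Agent.Lib.Helper47.BG139

open Cfsg

variable {G : Type*} [Group G] [Finite G]

/-- **Prime action of a commutative `τ₁(M)`-subgroup of a complement on `M_σ`.** -/
theorem prime_action_of_tau1 (hG : IsMinSimpleOddOrder G) {M : Subgroup G} (hM : IsCoatom M)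
    {E : Subgroup G} (hE : IsComplIn E (sigmaCore M) M) {E₁ : Subgroup G} (hE₁E : E₁ ≤ E)
    (hτ : ∀ u : ℕ, u.Prime → u ∣ Nat.card E₁ → u ∈ tau1 M)
    (hcomm : ∀ a ∈ E₁, ∀ b ∈ E₁, a * b = b * a) :
    ∀ x ∈ E₁, x ≠ 1 → sigmaCore M ⊓ Subgroup.centralizer ({x} : Set G) =
      sigmaCore M ⊓ Subgroup.centralizer (E₁ : Set G) := by
  intro x hx hx1
  apply le_antisymm
  swap
  · exact inf_le_inf_left _ (Subgroup.centralizer_le (Set.singleton_subset_iff.2 hx))
  intro m hm
  obtain ⟨hmσ, hmx⟩ := Subgroup.mem_inf.1 hm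
  refine Subgroup.mem_inf.2 ⟨hmσ, ?_⟩
  have hmx' : m * x = x * m := Subgroup.mem_centralizer_singleton_iff.1 hmx
  -- (1) a subgroup `P₀ ≤ ⟨x⟩` of prime order
  have hox : orderOf x ≠ 1 := by
    intro h
    exact hx1 (orderOf_eq_one_iff.1 h)
  obtain ⟨p0, hp0, hp0x⟩ := Nat.exists_prime_and_dvd hox
  have hoy : orderOf (x ^ (orderOf x / p0)) = p0 :=
    orderOf_pow_orderOf_div (orderOf_pos x).ne' hp0x
  set y := x ^ (orderOf x / p0) with hy
  have hyE : y ∈ E₁ := E₁.pow_mem hx _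
  have hmy : Commute m y := (show Commute m x from hmx').pow_right _
  have hP0card : Nat.card (Subgroup.zpowers y) = p0 := by rw [Nat.card_zpowers, hoy]
  have hP0E : Subgroup.zpowers y ≤ E₁ := (Subgroup.zpowers_le).2 hyE
  have hp0τ : p0 ∈ tau1 M := by
    apply hτ p0 hp0
    rw [← hP0card]
    exact Subgroup.card_dvd_of_le hP0E
  have hmP0 : m ∈ sigmaCore M ⊓ Subgroup.centralizer ((Subgroup.zpowers y : Subgroup G) : Set G) := by
    refine Subgroup.mem_inf.2 ⟨hmσ, ?_⟩
    rw [Subgroup.mem_centralizer_iff]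
    intro w hw
    obtain ⟨k, rfl⟩ := Subgroup.mem_zpowers_iff.1 hw
    exact ((hmy.zpow_right k).eq).symm
  -- (2) `m` commutes with every element of prime order of `E₁`
  have step2 : ∀ z ∈ E₁, (orderOf z).Prime → z * m = m * z := by
    intro z hz hzp
    have hR : (Nat.card (Subgroup.zpowers z)).Prime := by rw [Nat.card_zpowers]; exact hzp
    have hRE : Subgroup.zpowers z ≤
        E ⊓ Subgroup.centralizer ((Subgroup.zpowers y : Subgroup G) : Set G) := by
      rw [Subgroup.zpowers_le]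
      refine Subgroup.mem_inf.2 ⟨hE₁E hz, ?_⟩
      rw [Subgroup.mem_centralizer_iff]
      intro w hw
      exact hcomm w (hP0E hw) z hz
    have h1 := Cfsg.Agent.S1428.result hG M hM E hE p0 hp0τ (Subgroup.zpowers y)
      (hP0E.trans hE₁E) hP0card (Subgroup.zpowers z) hRE hR hmP0
    exact (Subgroup.mem_centralizer_iff.1 (Subgroup.mem_inf.1 h1).2) z (Subgroup.mem_zpowers z)
  -- (3) Sylow argument in `E₁`
  have hodd : Odd (Nat.card G) := hG.1
  have hidx : ((Subgroup.centralizer ({m} : Set G)).subgroupOf E₁).index = 1 := by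
    rw [Nat.eq_one_iff_not_exists_prime_dvd]
    intro u hu hud
    have : Fact u.Prime := ⟨hu⟩
    obtain ⟨W⟩ := (inferInstance : Nonempty (Sylow u ↥E₁))
    have hWle : (W : Subgroup ↥E₁) ≤ (Subgroup.centralizer ({m} : Set G)).subgroupOf E₁ := by
      by_cases hW1 : (W : Subgroup ↥E₁) = ⊥
      · rw [hW1]; exact bot_le
      -- an element of order `u` in `W`
      have hWcard : u ∣ Nat.card ↥(W : Subgroup ↥E₁) := by
        obtain ⟨k, hk⟩ := IsPGroup.iff_card.1 W.isPGroup'
        have hk0 : k ≠ 0 := by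
          rintro rfl
          apply hW1
          rw [← Subgroup.card_eq_one]
          simpa using hk
        rw [hk]
        exact dvd_pow_self u hk0
      obtain ⟨z₀, hz₀⟩ := exists_prime_orderOf_dvd_card' u hWcard
      have hzo : orderOf (((z₀ : ↥E₁) : G)) = u := by
        rw [Subgroup.orderOf_coe, Subgroup.orderOf_coe, hz₀]
      have hzE : ((z₀ : ↥E₁) : G) ∈ E₁ := (z₀ : ↥E₁).2
      have hzm := step2 _ hzE (by rw [hzo]; exact hu)
      have hz1 : ((z₀ : ↥E₁) : G) ≠ 1 := by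
        intro h
        rw [h, orderOf_one] at hzo
        exact hu.one_lt.ne hzo
      -- the image `W'` of `W` in `G` and a Sylow `u`-subgroup `R` of `E` containing it
      have hW'p : IsPGroup u ↥((W : Subgroup ↥E₁).map E₁.subtype) := W.isPGroup'.map _
      have hW'E : (W : Subgroup ↥E₁).map E₁.subtype ≤ E :=
        (Subgroup.map_subtype_le _).trans hE₁E
      obtain ⟨R, hR⟩ := (hW'p.comap_subtype (K := E)).exists_le_sylow
      have hW'R : (W : Subgroup ↥E₁).map E₁.subtype ≤ (R : Subgroup ↥E).map E.subtype := by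
        have h1 := Subgroup.map_mono (f := E.subtype) hR
        rwa [← Subgroup.subgroupOf, Subgroup.map_subgroupOf_eq_of_le hW'E] at h1
      have hzW' : ((z₀ : ↥E₁) : G) ∈ (W : Subgroup ↥E₁).map E₁.subtype :=
        Subgroup.mem_map.2 ⟨(z₀ : ↥E₁), z₀.2, rfl⟩
      have hzR : ((z₀ : ↥E₁) : G) ∈ (R : Subgroup ↥E).map E.subtype := hW'R hzW'
      have hR1 : (R : Subgroup ↥E) ≠ ⊥ := by
        intro h
        rw [h, Subgroup.map_bot, Subgroup.mem_bot] at hzR
        exact hz1 hzR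
      -- `R` is cyclic
      have huτ : u ∈ tau1 M := by
        apply hτ u hu
        exact hWcard.trans (Subgroup.card_subgroup_dvd_card _)
      have hu2 : u ≠ 2 := by
        rintro rfl
        have h2 : 2 ∣ Nat.card G :=
          (hWcard.trans (Subgroup.card_subgroup_dvd_card _)).trans
            (Subgroup.card_subgroup_dvd_card E₁)
        exact (Nat.not_even_iff_odd.2 hodd) (even_iff_two_dvd.2 h2)
      have hRMc : IsCyclic ↥((R : Subgroup ↥E).map E.subtype) :=
        Cfsg.Agent.Lib.Helper13.BG12.isCyclic_of_pRankLE_one hu2 huτ.2.2.2.2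
          ((Subgroup.map_subtype_le _).trans hE.1) (R.isPGroup'.map _)
      have hRc : IsCyclic ↥(R : Subgroup ↥E) :=
        ((Subgroup.equivMapOfInjective (R : Subgroup ↥E) E.subtype
          E.subtype_injective).isCyclic).2 hRMc
      have h27 := Cfsg.Agent.S1427.result hG M hM E hE u R hR1 hRc _ hzR hz1
      have hmz : m ∈ sigmaCore M ⊓ Subgroup.centralizer ({((z₀ : ↥E₁) : G)} : Set G) := by
        refine Subgroup.mem_inf.2 ⟨hmσ, ?_⟩
        rw [Subgroup.mem_centralizer_singleton_iff]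
        exact hzm.symm
      rw [h27] at hmz
      have hmR := (Subgroup.mem_inf.1 hmz).2
      intro w hw
      rw [Subgroup.mem_subgroupOf, Subgroup.mem_centralizer_singleton_iff]
      have hwR : ((w : ↥E₁) : G) ∈ (R : Subgroup ↥E).map E.subtype :=
        hW'R (Subgroup.mem_map.2 ⟨w, hw, rfl⟩)
      exact (Subgroup.mem_centralizer_iff.1 hmR) _ hwR
    exact W.not_dvd_index (hud.trans (Subgroup.index_dvd_of_le hWle))
  rw [Subgroup.index_eq_one] at hidx
  rw [Subgroup.mem_centralizer_iff]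
  intro e he
  have : (⟨e, he⟩ : ↥E₁) ∈ (Subgroup.centralizer ({m} : Set G)).subgroupOf E₁ := by
    rw [hidx]; trivial
  rw [Subgroup.mem_subgroupOf, Subgroup.mem_centralizer_singleton_iff] at this
  exact this

/-- **Step 7 of BG 13.9**: the cyclic Hall `τ₁(M)`-subgroup `E₁` of a complement `E` acts in a prime
manner on `M_σ`. -/
theorem prime_action_tau1 (hG : IsMinSimpleOddOrder G) {M : Subgroup G} (hM : IsCoatom M)
    {E : Subgroup G} (hE : IsComplIn E (sigmaCore M) M) {E₁ : Subgroup G}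
    (hE₁ : IsPiHallOf (tau1 M) E₁ E) (hE₁c : IsCyclic E₁) :
    ∀ x ∈ E₁, x ≠ 1 → sigmaCore M ⊓ Subgroup.centralizer ({x} : Set G) =
      sigmaCore M ⊓ Subgroup.centralizer (E₁ : Set G) := by
  refine prime_action_of_tau1 hG hM hE hE₁.1 hE₁.2.1 ?_
  intro a ha b hb
  obtain ⟨g, hg⟩ := hE₁c.exists_generator
  obtain ⟨i, hi⟩ := Subgroup.mem_zpowers_iff.1 (hg ⟨a, ha⟩)
  obtain ⟨j, hj⟩ := Subgroup.mem_zpowers_iff.1 (hg ⟨b, hb⟩)
  have h : (⟨a, ha⟩ : ↥E₁) * ⟨b, hb⟩ = ⟨b, hb⟩ * ⟨a, ha⟩ := by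
    rw [← hi, ← hj]
    exact ((Commute.refl g).zpow_zpow i j).eq
  exact congrArg Subtype.val h

end Cfsg.Agent.Lib.Helper47.BG139
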