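import Mathlib
import Cfsg.Agent.Lib.Helper11.BG144Glue
import Cfsg.Agent.Lib.Helper13.BG12B
import Cfsg.Agent.Lib.Helper82.BG134D5
import Cfsg.Agent.Lib.Helper68.BG144G2

/-!
# S1436 clause (b)  (BG Theorem 14.4, conjugacy of supports under `M`)

If `x, y ∈ M_σ - 1` have supports `N ⊇ C_G(x)`, `N' ⊇ C_G(y)` (both centralizers not in `M`) and
`g N' g⁻¹ = N`, then `m N' m⁻¹ = N` for some `m ∈ M`.

Proof: `M ∩ N'` is a complement of `N'_σ` in `N'`, so `gMg⁻¹ ∩ N` is a complement of `N_σ` in `N`,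
hence `N_σ`-conjugate to `M ∩ N ∋ x`: `x ∈ (sg) M (sg)⁻¹`; by BG 14.4(a) `(sg) M (sg)⁻¹ = c M c⁻¹` with
`c ∈ C_G(x) ≤ N`; so `m := c⁻¹ s g ∈ M` and `m N' m⁻¹ = (c⁻¹ s) N (c⁻¹ s)⁻¹ = N`.
-/

set_option autoImplicit false

namespace Cfsg.Agent.Lib.Helper47.BG1436

open Cfsg Subgroup Cfsg.Agent.Lib.Helper55
open scoped Pointwise

variable {G : Type*} [Group G]

/-- conjugating a complement configuration by an arbitrary element. -/
theorem isComplIn_cj_all {A B M : Subgroup G} (h : IsComplIn A B M) (g : G) :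
    IsComplIn (cj g A) (cj g B) (cj g M) := by
  refine ⟨cj_mono h.1, cj_mono h.2.1, ?_, ?_⟩
  · rw [← cj_inf, h.2.2.1, cj_bot]
  · intro m hm
    rw [mem_cj] at hm
    obtain ⟨a, ha, b, hb, hab⟩ := h.2.2.2 _ hm
    refine ⟨g * a * g⁻¹, conj_mem_cj ha, g * b * g⁻¹, conj_mem_cj hb, ?_⟩
    have : m = g * (g⁻¹ * m * g) * g⁻¹ := by group
    rw [this, hab]
    group

theorem clause_b {G : Type*} [Group G] [Finite G] (hG : Cfsg.IsMinSimpleOddOrder G)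
    (M : Subgroup G) (hM : IsCoatom M) (x : G) (hx : x ∈ Cfsg.sigmaCore M) (hx1 : x ≠ 1) (hxM : ¬ Subgroup.centralizer ({x} : Set G) ≤ M)
    (N : Subgroup G) (hN : IsCoatom N) (hxN : Subgroup.centralizer ({x} : Set G) ≤ N) :
      ∀ (y : G) (N' : Subgroup G) (g : G), y ∈ Cfsg.sigmaCore M → y ≠ 1 → ¬ Subgroup.centralizer ({y} : Set G) ≤ M → IsCoatom N' → Subgroup.centralizer ({y} : Set G) ≤ N' →
        N'.map (MulAut.conj g).toMonoidHom = N → ∃ m ∈ M, N'.map (MulAut.conj m).toMonoidHom = N := by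
  intro y N' g hy hy1 hyM hN' hyN' hgN
  obtain ⟨N0, hS⟩ := Cfsg.Agent.Lib.Helper11.BG144.hB_main hG M hM x hx hx1 hxM
  have hNeq : N = N0 := hS.uniq N hN hxN
  obtain ⟨N0', hS'⟩ := Cfsg.Agent.Lib.Helper11.BG144.hB_main hG M hM y hy hy1 hyM
  have hNeq' : N' = N0' := hS'.uniq N' hN' hyN'
  have hc1 : IsComplIn (M ⊓ N) (sigmaCore N) N := hNeq ▸ hS.compl
  have hc2 : IsComplIn (M ⊓ N') (sigmaCore N') N' := hNeq' ▸ hS'.compl
  have hgN' : cj g N' = N := hgN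
  have hc3 : IsComplIn (cj g M ⊓ N) (sigmaCore N) N := by
    have h := isComplIn_cj_all hc2 g
    rw [cj_inf, ← Cfsg.Agent.Lib.Helper68.BG144.sigmaCore_cj hG hN' g, hgN'] at h
    exact h
  obtain ⟨s, hs, hsE⟩ := Cfsg.Agent.Lib.Helper13.BG12.complIn_conj hG hN
    (Cfsg.Agent.Lib.Helper82.BG134.hallOf hG hN) hc1 hc3
  have hsN : s ∈ N := Cfsg.Agent.Lib.Helper71.BG11.sigmaCore_le N hs
  have hxMm : x ∈ M := Cfsg.Agent.Lib.Helper71.BG11.sigmaCore_le M hx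
  have hM1 : M ≠ ⊥ := by
    intro h
    rw [h, Subgroup.mem_bot] at hxMm
    exact hx1 hxMm
  have hxc : x ∈ centralizer ({x} : Set G) := by
    rw [Subgroup.mem_centralizer_iff]
    intro z hz
    rw [Set.mem_singleton_iff] at hz
    rw [hz]
  have hxMN : x ∈ M ⊓ N := ⟨hxMm, hxN hxc⟩
  -- x ∈ conj s • (cj g M ⊓ N)
  have hx2 : x ∈ cj (s * g) M := by
    rw [← hsE, Subgroup.mem_pointwise_smul_iff_inv_smul_mem] at hxMN
    have h1 : (MulAut.conj s)⁻¹ • x = s⁻¹ * x * s := by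
      rw [MulAut.smul_def, MulAut.conj_inv_apply]
    rw [h1] at hxMN
    have h2 : s⁻¹ * x * s ∈ cj g M := hxMN.1
    rw [mem_cj] at h2 ⊢
    have : (s * g)⁻¹ * x * (s * g) = g⁻¹ * (s⁻¹ * x * s) * g := by group
    rw [this]
    exact h2
  obtain ⟨c, hc, hcM⟩ := Cfsg.Agent.Lib.Helper11.BG144.hA_main hG M hM x hx hx1 (s * g) hx2
  have hcN : c ∈ N := hxN hc
  have hm : c⁻¹ * (s * g) ∈ M :=
    (Cfsg.Agent.Lib.Helper68.BG144.cj_eq_cj_iff hG hM hM1 c (s * g)).mp hcM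
  refine ⟨c⁻¹ * (s * g), hm, ?_⟩
  show cj (c⁻¹ * (s * g)) N' = N
  have h3 : c⁻¹ * (s * g) = (c⁻¹ * s) * g := by group
  rw [h3, cj_mul, hgN']
  exact cj_eq_self_of_mem (N.mul_mem (N.inv_mem hcN) hsN)

end Cfsg.Agent.Lib.Helper47.BG1436
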