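import Mathlib
import Cfsg.Agent.Lib.Helper90.BG14DW1
import Cfsg.Agent.Lib.Helper13.BG139W
import Cfsg.Agent.Lib.Helper31.BG15KA
import Cfsg.Agent.Lib.Helper47.BG139K2c
import Cfsg.Agent.Lib.Helper55.Coprime
import Cfsg.Agent.S1417

/-!
# BG 14.7, step (α): in a standard factorisation `M = K U M_σ` with `K ≠ 1` and `U ≠ 1`,
`K` has prime order

`K` acts freely on the abelian group `U` (S1430 + `free_action`) and in a prime manner on `M_σ`
(S1430 (1)).  By the Frobenius–Wielandt formula in its prime action form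
(`Helper13.BG139W.card_eq_of_wielandt`), either `U` centralizes `M_σ` or every non-trivial subgroup
of `K` is `K`.  The former is impossible for `U ≠ 1`: an element of prime order `r` of `U`
centralizing `M_σ ≠ 1` has `r ∈ τ₂(M)` (S1359), and then all `r`-elements of `M` centralize `M_σ`,
against S1417 (d).
-/

set_option autoImplicit false
set_option linter.unusedSectionVars false

namespace Cfsg.Agent.Lib.Helper47.BG147

open Cfsg Subgroup Cfsg.Agent.Lib.Helper11.BG14D

variable {G : Type*} [Group G] [Finite G]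

omit [Finite G] in
/-- an element of `M` killed by `n` lies in every subgroup `C ≤ M` normalized by `M` whose index in
`M` is prime to `n` -/
theorem mem_of_pow_eq_one_of_coprime_relIndex {M C : Subgroup G} (hCM : C ≤ M)
    (hn : M ≤ normalizer (C : Set G)) {a : G} (ha : a ∈ M) {n : ℕ} (han : a ^ n = 1)
    (hcop : n.Coprime (C.relIndex M)) : a ∈ C := by
  have hN : (C.subgroupOf M).Normal := (Subgroup.normal_subgroupOf_iff_le_normalizer hCM).mpr hn
  set a' : M := ⟨a, ha⟩ with ha'
  have h1 : a' ^ (C.subgroupOf M).index ∈ C.subgroupOf M := Subgroup.pow_index_mem _ a'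
  have h2 : a' ^ n = 1 := by
    apply Subtype.ext
    simp [ha', han]
  have hb := Nat.gcd_eq_gcd_ab n (C.relIndex M)
  rw [hcop] at hb
  have h3 : a' = (a' ^ n) ^ (Nat.gcdA n (C.relIndex M)) *
      (a' ^ (C.subgroupOf M).index) ^ (Nat.gcdB n (C.relIndex M)) := by
    have hidx : (C.subgroupOf M).index = C.relIndex M := rfl
    rw [hidx, ← zpow_natCast, ← zpow_natCast, ← zpow_mul, ← zpow_mul, ← zpow_add, ← hb]
    simp
  have h4 : a' ∈ C.subgroupOf M := by
    rw [h3, h2, one_zpow, one_mul]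
    exact Subgroup.zpow_mem _ h1 _
  exact Subgroup.mem_subgroupOf.mp h4

omit [Finite G] in
theorem centralizer_zpowers_eq (x : G) :
    centralizer ((Subgroup.zpowers x : Subgroup G) : Set G) = centralizer ({x} : Set G) := by
  apply le_antisymm
  · apply Subgroup.centralizer_le
    intro z hz
    rw [Set.mem_singleton_iff.mp hz]
    exact Subgroup.mem_zpowers x
  · intro g hg
    rw [Subgroup.mem_centralizer_iff] at hg ⊢
    intro h hh
    obtain ⟨n, rfl⟩ := Subgroup.mem_zpowers_iff.mp hh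
    have hc : Commute x g := hg x rfl
    exact (hc.zpow_left n).eq

/-- `U ≠ 1` does not centralize `M_σ`. -/
theorem not_sigmaCore_le_centralizer (hG : IsMinSimpleOddOrder G) (M : Subgroup G) (hM : IsCoatom M)
    (K U : Subgroup G) (hKU : IsSigmaDecomposition M K U) (hU : U ≠ ⊥) :
    ¬ sigmaCore M ≤ centralizer (U : Set G) := by
  intro hcen
  have hUM : U ≤ M := hKU.compl.1
  have hσM : sigmaCore M ≤ M := Cfsg.Agent.Lib.Helper71.BG11.sigmaCore_le M
  have hM1 : M ≠ ⊥ := fun h => hU (le_bot_iff.mp (h ▸ hUM))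
  have hσ1 : sigmaCore M ≠ ⊥ := Cfsg.Agent.Lib.Helper71.BG11.sigmaCore_ne_bot hG hM hM1
  obtain ⟨⟨y, hy⟩, hy1'⟩ := Subgroup.ne_bot_iff_exists_ne_one.mp hσ1
  have hy1 : y ≠ 1 := fun h => hy1' (Subtype.ext h)
  -- an element of prime order of `U`
  obtain ⟨r, u, hr, hrU, hu, huo⟩ :=
    Cfsg.Agent.Lib.Helper47.BG139.exists_prime_order_of_ne_bot hU
  have : Fact r.Prime := ⟨hr⟩
  have hu1 : u ≠ 1 := by
    intro h
    rw [h, orderOf_one] at huo
    exact hr.ne_one huo.symm
  have huy : u * y = y * u := by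
    have := (Subgroup.mem_centralizer_iff.mp (hcen hy)) u hu
    exact this
  have huσ : u ∈ sigmaHat M := ⟨hUM hu, y, hy, hy1, huy⟩
  have hr2 : r ∈ tau2 M :=
    Cfsg.Agent.Lib.Helper02.BG1359.prime_mem_tau2 hG hM hKU hu huσ hr (by rw [huo])
  have hrσ : r ∉ sigma M := hr2.2.1
  have hrκ : r ∉ kappa M := Cfsg.Agent.Lib.Helper31.BG15.not_mem_kappa_of_dvd_card hKU hr hrU
  obtain ⟨A, hAM, hAe, hAc⟩ := Cfsg.Agent.Lib.Helper13.BG12.exists_elemAb_sq_of_tau2 hr2
  have h17 := Cfsg.Agent.S1417.result hG M hM r hr2 A ⟨hAM, hAe, hAc⟩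
  have hd : sigmaCore M ⊓ centralizer (A : Set G) = ⊥ := h17.2.2.2.1
  -- `C := C_M(M_σ)` is normalized by `M`, contains `U`, and has index prime to `r`
  set C : Subgroup G := M ⊓ centralizer (sigmaCore M : Set G) with hC
  have hCM : C ≤ M := inf_le_left
  have hUC : U ≤ C := le_inf hUM (Subgroup.le_centralizer_iff.mp hcen)
  have hnC : M ≤ normalizer (C : Set G) := by
    intro m hm
    have h1 := Subgroup.mem_normalizer_iff.mp (Subgroup.le_normalizer hm)
    have h2 := Subgroup.mem_normalizer_iff.mp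
      (Cfsg.Agent.Lib.Helper55.normalizer_le_normalizer_centralizer (sigmaCore M)
        (Cfsg.Agent.Lib.Helper71.BG11.le_normalizer_sigmaCore M hm))
    rw [Subgroup.mem_normalizer_iff]
    intro c
    rw [hC, Subgroup.mem_inf, Subgroup.mem_inf, h1 c, h2 c]
  have hKσ := Cfsg.Agent.Lib.Helper31.BG15.kappa_inf_sigmaCore hG hM hKU
  have hKnσ : K ≤ normalizer (sigmaCore M : Set G) :=
    hKU.hall.1.trans (Cfsg.Agent.Lib.Helper71.BG11.le_normalizer_sigmaCore M)
  have hcardKσ : Nat.card ↥(K ⊔ sigmaCore M) = Nat.card ↥(sigmaCore M) * Nat.card K := by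
    rw [sup_comm]
    exact Cfsg.Agent.Lib.Helper90.BG14D.card_sup_of_le_normalizer hKnσ (by rw [inf_comm]; exact hKσ)
  have hMcard : Nat.card U * Nat.card ↥(K ⊔ sigmaCore M) = Nat.card M :=
    Cfsg.Agent.Lib.Helper31.IsComplIn.card_mul hKU.compl
  have hUrel : U.relIndex M = Nat.card ↥(sigmaCore M) * Nat.card K := by
    have h1 := Cfsg.Agent.Lib.Helper90.BG14D.card_mul_relIndex hUM
    have hUpos : 0 < Nat.card U := Nat.card_pos
    have : Nat.card U * U.relIndex M = Nat.card U * (Nat.card ↥(sigmaCore M) * Nat.card K) := by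
      rw [h1, ← hMcard, hcardKσ]
    exact Nat.eq_of_mul_eq_mul_left hUpos this
  have hrC : r.Coprime (C.relIndex M) := by
    have hdvd : C.relIndex M ∣ U.relIndex M := Subgroup.relIndex_dvd_of_le_left M hUC
    apply Nat.Coprime.coprime_dvd_right hdvd
    rw [hUrel]
    apply Nat.Coprime.mul_right
    · rw [Nat.Prime.coprime_iff_not_dvd hr]
      intro h
      exact hrσ (Cfsg.Agent.Lib.Helper71.BG11.sigmaCore_pi hG hM hr h)
    · rw [Nat.Prime.coprime_iff_not_dvd hr]
      intro h
      exact hrκ (hKU.hall.2.1 r hr h)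
  -- so `A ≤ C_M(M_σ)`, against S1417 (d)
  have hAC : A ≤ C := fun a ha =>
    mem_of_pow_eq_one_of_coprime_relIndex hCM hnC (hAM ha) (hAe.2 a ha) hrC
  have hσA : sigmaCore M ≤ centralizer (A : Set G) :=
    Subgroup.le_centralizer_iff.mp (hAC.trans inf_le_right)
  apply hσ1
  rw [← hd]
  exact (inf_eq_left.mpr hσA).symm

/-- **BG 14.7 (α)**: in a standard factorisation `M = K U M_σ` with `K ≠ 1` and `U ≠ 1`, the order of
`K` is a prime. -/
theorem card_prime_of_U_ne_bot (hG : IsMinSimpleOddOrder G) (h30 : H1430 G) (M : Subgroup G)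
    (hM : IsCoatom M) (K U : Subgroup G) (hKU : IsSigmaDecomposition M K U) (hK1 : K ≠ ⊥)
    (hU : U ≠ ⊥) : (Nat.card K).Prime := by
  obtain ⟨hab, hfree⟩ := Cfsg.Agent.Lib.Helper90.BG14D.free_action hG h30 M hM K U hKU hK1
  obtain ⟨hpa, -, -⟩ := h30 M hM K hKU.hall hK1
  obtain ⟨t, x, ht, -, hx, hxo⟩ := Cfsg.Agent.Lib.Helper47.BG139.exists_prime_order_of_ne_bot hK1
  have hx1 : x ≠ 1 := by
    intro h
    rw [h, orderOf_one] at hxo
    exact ht.ne_one hxo.symm
  have hUM : U ≤ M := hKU.compl.1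
  have hKM : K ≤ M := hKU.hall.1
  have hMsol : Group.IsSolvable ↥M := Cfsg.Agent.Lib.Helper55.ms_solvable hG hM.1
  have hσM : sigmaCore M ≤ M := Cfsg.Agent.Lib.Helper71.BG11.sigmaCore_le M
  -- `P := ⟨x⟩`
  set P : Subgroup G := Subgroup.zpowers x with hP
  have hPK : P ≤ K := by rw [hP, Subgroup.zpowers_le]; exact hx
  have hPc : Nat.card P = t := by rw [hP, Nat.card_zpowers, hxo]
  have hprime : sigmaCore M ⊓ centralizer (P : Set G) = sigmaCore M ⊓ centralizer (K : Set G) := by
    rw [← hpa x hx hx1, hP, centralizer_zpowers_eq]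
  have hsolv : Group.IsSolvable ↥(sigmaCore M) := by
    have : Group.IsSolvable ↥((sigmaCore M).subgroupOf M) := inferInstance
    exact Group.isSolvable_of_isSolvable_injective
      (f := (Subgroup.subgroupOfEquivOfLe hσM).symm.toMonoidHom)
      (Subgroup.subgroupOfEquivOfLe hσM).symm.injective
  have hcop : Nat.Coprime (Nat.card ↥(sigmaCore M)) (Nat.card ↥(U ⊔ K)) := by
    have hUK : U ⊓ K = ⊥ := by
      rw [inf_comm]; exact Cfsg.Agent.Lib.Helper31.BG15.inf_eq_bot_of_sigmaDecomposition hKU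
    rw [Cfsg.Agent.Lib.Helper90.BG14D.card_sup_of_le_normalizer hKU.normal hUK]
    apply Nat.coprime_of_dvd
    intro p hp hpσ hpUK
    have hσ : p ∈ sigma M := Cfsg.Agent.Lib.Helper71.BG11.sigmaCore_pi hG hM hp hpσ
    rcases (Nat.Prime.dvd_mul hp).mp hpUK with h | h
    · -- `p ∣ |U|`: `U` is a `σ(M)'`-group
      have hHall := Cfsg.Agent.Lib.Helper16.BG134.hall_sigma hG hM
      apply hHall.2.2 p hp hσ
      have h1 : (sigmaCore M).relIndex (K ⊔ sigmaCore M) * (K ⊔ sigmaCore M).relIndex M =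
          (sigmaCore M).relIndex M :=
        Subgroup.relIndex_mul_relIndex _ _ _ le_sup_right hKU.compl.2.1
      have h2 : (K ⊔ sigmaCore M).relIndex M = Nat.card U :=
        Cfsg.Agent.Lib.Helper13.BG12.relIndex_eq_card_of_complIn hKU.compl
      rw [← h1, h2]
      exact Dvd.dvd.mul_left h _
    · exact (hKU.hall.2.1 p hp h).2.2.1 hσ
  have hnil : Group.IsNilpotent ↥U := by
    have hab' : IsMulCommutative ↥U := hab
    let _ : CommGroup ↥U :=
      { (inferInstance : Group ↥U) with mul_comm := fun a b => mul_comm' a b }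
    exact CommGroup.isNilpotent
  have hcard := Cfsg.Agent.Lib.Helper13.BG139.card_eq_of_wielandt U K P (sigmaCore M) hPK
    (fun e he u hu => by
      have := (Subgroup.mem_normalizer_iff.mp (hKU.normal he)) u
      exact this.mp hu)
    (fun e he he1 u hu hc => by
      have : u ∈ U ⊓ centralizer ({e} : Set G) :=
        Subgroup.mem_inf.mpr ⟨hu, by
          rw [Subgroup.mem_centralizer_iff]
          intro z hz
          rw [Set.mem_singleton_iff.mp hz]
          exact hc⟩
      rw [hfree e he he1] at this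
      exact Subgroup.mem_bot.mp this)
    hnil
    (fun z hz h hh => by
      have hzM : z ∈ M := (sup_le hUM hKM) hz
      have := (Subgroup.mem_normalizer_iff.mp
        (Cfsg.Agent.Lib.Helper71.BG11.le_normalizer_sigmaCore M hzM)) h
      exact this.mp hh)
    hsolv hcop hprime
    (not_sigmaCore_le_centralizer hG M hM K U hKU hU)
  rw [← hcard, hPc]
  exact ht

/-- contrapositive: if `|K|` is not a prime then `U = 1`, i.e. `M = K M_σ`. -/
theorem U_eq_bot_of_not_prime (hG : IsMinSimpleOddOrder G) (h30 : H1430 G) (M : Subgroup G)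
    (hM : IsCoatom M) (K U : Subgroup G) (hKU : IsSigmaDecomposition M K U) (hK1 : K ≠ ⊥)
    (hnp : ¬ (Nat.card K).Prime) : U = ⊥ := by
  by_contra hU
  exact hnp (card_prime_of_U_ne_bot hG h30 M hM K U hKU hK1 hU)

end Cfsg.Agent.Lib.Helper47.BG147
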