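import Cfsg.Agent.Lib.Helper03.FrobSub
import Cfsg.Agent.Lib.Helper89.OmegaFix
import Cfsg.Agent.Lib.Helper66.TWWielandtAux
import Cfsg.Agent.Lib.Helper01.Coprime

/-!
# Lemma F for BG 13.4: Frobenius groups acting on odd `p`-groups

Let `Y ⋊ T` be a Frobenius-like group (`Y` nilpotent, every nonidentity element of `T` acting
fixed-point-freely on `Y`) of order prime to the odd prime `p`, normalizing a `p`-subgroup `S`.
If `Y` centralizes every element of order dividing `p` of `C_S(T)`, then `Y` centralizes `S`.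

Proof: a minimal counterexample `S` satisfies `S = [S, Y]`; the subgroup `D` generated by the
commutators and the `p`-th powers of `S` is proper and invariant, hence centralized by `Y`; the three
subgroups lemma gives `[S, D] = 1`, so `S` has class at most two and (`p` odd) `x ↦ x ^ p` is a
homomorphism `S → D`, which kills `[S, Y] = S`: `S` has exponent `p`.  Therefore `C_S(T) = C_S(YT)`
and the Frobenius–Wielandt fixed point formula `|C_S(YT)|^|T| |S| = |C_S(T)|^|T| |C_S(Y)|`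
(`Helper03.FrobSub.wielandt_sub`) gives `|S| = |C_S(Y)|`.
-/

set_option autoImplicit false

namespace Cfsg.Agent.Lib.Helper47.BGFrob

open scoped commutatorElement

variable {G : Type*} [Group G]

/-- conjugation of a commutator element -/
theorem conj_commutatorElement (x a b : G) :
    x * ⁅a, b⁆ * x⁻¹ = ⁅x * a * x⁻¹, x * b * x⁻¹⁆ := by
  rw [commutatorElement_def, commutatorElement_def]; group

/-- conjugation invariance of a commutator subgroup -/
theorem conj_mem_commutator {A B : Subgroup G} {x : G} (hA : ∀ a ∈ A, x * a * x⁻¹ ∈ A)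
    (hB : ∀ b ∈ B, x * b * x⁻¹ ∈ B) : ∀ c ∈ ⁅A, B⁆, x * c * x⁻¹ ∈ ⁅A, B⁆ := by
  have h : ⁅A, B⁆ ≤ (⁅A, B⁆).comap (MulAut.conj x).toMonoidHom := by
    rw [Subgroup.commutator_le]
    intro a ha b hb
    rw [Subgroup.mem_comap]
    show (MulAut.conj x) ⁅a, b⁆ ∈ ⁅A, B⁆
    rw [MulAut.conj_apply, conj_commutatorElement]
    exact Subgroup.commutator_mem_commutator (hA a ha) (hB b hb)
  intro c hc
  have h1 := h hc
  rw [Subgroup.mem_comap] at h1
  exact h1

/-- the subgroup generated by the commutators and the `p`-th powers of the elements of `S` -/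
def commPow (p : ℕ) (S : Subgroup G) : Subgroup G :=
  Subgroup.closure ({z | ∃ a ∈ S, ∃ b ∈ S, z = ⁅a, b⁆} ∪ {z | ∃ a ∈ S, z = a ^ p})

theorem commutator_mem_commPow {p : ℕ} {S : Subgroup G} {a b : G} (ha : a ∈ S) (hb : b ∈ S) :
    ⁅a, b⁆ ∈ commPow p S :=
  Subgroup.subset_closure (Or.inl ⟨a, ha, b, hb, rfl⟩)

theorem pow_mem_commPow {p : ℕ} {S : Subgroup G} {a : G} (ha : a ∈ S) : a ^ p ∈ commPow p S :=
  Subgroup.subset_closure (Or.inr ⟨a, ha, rfl⟩)

theorem commPow_le {p : ℕ} {S M : Subgroup G} (hc : ∀ x ∈ S, ∀ y ∈ S, ⁅x, y⁆ ∈ M)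
    (hpw : ∀ x ∈ S, x ^ p ∈ M) : commPow p S ≤ M := by
  unfold commPow
  rw [Subgroup.closure_le]
  rintro z (⟨a, ha, b, hb, rfl⟩ | ⟨a, ha, rfl⟩)
  · exact hc a ha b hb
  · exact hpw a ha

/-- `commPow p S` is invariant under everything normalizing `S` -/
theorem conj_mem_commPow {p : ℕ} {S : Subgroup G} {x : G} (hx : ∀ a ∈ S, x * a * x⁻¹ ∈ S) :
    ∀ d ∈ commPow p S, x * d * x⁻¹ ∈ commPow p S := by
  have h : commPow p S ≤ (commPow p S).comap (MulAut.conj x).toMonoidHom := by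
    apply commPow_le
    · intro a ha b hb
      rw [Subgroup.mem_comap]
      show (MulAut.conj x) ⁅a, b⁆ ∈ commPow p S
      rw [MulAut.conj_apply, conj_commutatorElement]
      exact commutator_mem_commPow (hx a ha) (hx b hb)
    · intro a ha
      rw [Subgroup.mem_comap]
      show (MulAut.conj x) (a ^ p) ∈ commPow p S
      rw [MulAut.conj_apply, ← conj_pow]
      exact pow_mem_commPow (hx a ha)
  intro d hd
  have h1 := h hd
  rw [Subgroup.mem_comap] at h1
  exact h1

/-- the induction behind Lemma F -/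
theorem le_centralizer_aux [Finite G] {p : ℕ} [hp : Fact p.Prime] (hp2 : p ≠ 2) (Y T : Subgroup G)
    (hTY : ∀ e ∈ T, ∀ u ∈ Y, e * u * e⁻¹ ∈ Y)
    (hfpf : ∀ e ∈ T, e ≠ 1 → ∀ u ∈ Y, e * u = u * e → u = 1)
    (hnil : Group.IsNilpotent Y)
    (hcop : ¬ p ∣ Nat.card ↥(Y ⊔ T)) :
    ∀ (n : ℕ) (S : Subgroup G), Nat.card S = n → IsPGroup p S →
      (∀ x ∈ Y ⊔ T, ∀ s ∈ S, x * s * x⁻¹ ∈ S) →
      (∀ x ∈ S, x ∈ Subgroup.centralizer (T : Set G) → x ^ p = 1 →
        x ∈ Subgroup.centralizer (Y : Set G)) →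
      S ≤ Subgroup.centralizer (Y : Set G) := by
  intro n
  induction n using Nat.strong_induction_on with
  | _ n ih =>
  intro S hcard hS hSn hΩ
  by_contra hcon
  have hYL : Y ≤ Y ⊔ T := le_sup_left
  have hTL : T ≤ Y ⊔ T := le_sup_right
  -- proper invariant subgroups are centralized by `Y`
  have hmin : ∀ S₁ : Subgroup G, S₁ ≤ S → S₁ ≠ S → (∀ x ∈ Y ⊔ T, ∀ s ∈ S₁, x * s * x⁻¹ ∈ S₁) →
      S₁ ≤ Subgroup.centralizer (Y : Set G) := by
    intro S₁ hle hne hinv
    have hlt : Nat.card S₁ < n := by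
      rw [← hcard]
      refine lt_of_le_of_ne (Subgroup.card_le_of_le hle) ?_
      intro heq
      exact hne (Subgroup.eq_of_le_of_card_ge hle heq.ge)
    exact ih _ hlt S₁ rfl (hS.to_le hle) hinv (fun x hx => hΩ x (hle hx))
  -- `Y ⊔ T` normalizes `Y`
  have hLY : ∀ x ∈ Y ⊔ T, ∀ y ∈ Y, x * y * x⁻¹ ∈ Y := by
    have hLN : Y ⊔ T ≤ Subgroup.normalizer (Y : Set G) := by
      apply sup_le Subgroup.le_normalizer
      intro e he
      rw [Subgroup.mem_normalizer_iff]
      intro u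
      constructor
      · exact hTY e he u
      · intro h
        have := hTY e⁻¹ (T.inv_mem he) _ h
        simpa [mul_assoc] using this
    intro x hx y hy
    exact (Subgroup.mem_normalizer_iff.1 (hLN hx) y).1 hy
  have hYS : Y ≤ Subgroup.normalizer (S : Set G) := by
    intro y hy
    rw [Subgroup.mem_normalizer_iff]
    intro s
    constructor
    · exact hSn y (hYL hy) s
    · intro h
      have := hSn y⁻¹ ((Y ⊔ T).inv_mem (hYL hy)) _ h
      simpa [mul_assoc] using this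
  have hcopL : (Nat.card ↥(Y ⊔ T)).Coprime p :=
    ((Nat.Prime.coprime_iff_not_dvd hp.out).2 hcop).symm
  have hcopY : (Nat.card ↥Y).Coprime p :=
    Nat.Coprime.coprime_dvd_left (Subgroup.card_dvd_of_le hYL) hcopL
  -- step 1: `S = [S, Y]`
  have hCS : ⁅S, Y⁆ ≤ S := by
    rw [Subgroup.commutator_le]
    intro s hs y hy
    have h1 : y * s⁻¹ * y⁻¹ ∈ S := hSn y (hYL hy) _ (S.inv_mem hs)
    have e : ⁅s, y⁆ = s * (y * s⁻¹ * y⁻¹) := by rw [commutatorElement_def]; group
    rw [e]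
    exact S.mul_mem hs h1
  have hCeq : ⁅S, Y⁆ = S := by
    by_contra hne
    have hinv : ∀ x ∈ Y ⊔ T, ∀ c ∈ ⁅S, Y⁆, x * c * x⁻¹ ∈ ⁅S, Y⁆ := fun x hx =>
      conj_mem_commutator (hSn x hx) (hLY x hx)
    have h1 := hmin _ hCS hne hinv
    have h2 : ⁅⁅S, Y⁆, Y⁆ = ⊥ := Subgroup.commutator_eq_bot_iff_le_centralizer.2 h1
    have h3 := Cfsg.Agent.Lib.Helper66.TW.comm_le_comm_comm hS hYS hcopY
    rw [h2, le_bot_iff] at h3
    exact hcon (Subgroup.commutator_eq_bot_iff_le_centralizer.1 h3)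
  have hSne : S ≠ ⊥ := by
    intro h
    apply hcon
    rw [h]
    exact bot_le
  -- step 2: the subgroup `D` of commutators and `p`-th powers
  obtain ⟨M, hMS, hMne, hMc, hMp⟩ := Cfsg.Agent.Lib.Helper89.exists_lt_comm_pow_mem S hS hSne
  have hDM : commPow p S ≤ M := commPow_le hMc hMp
  have hDS : commPow p S ≤ S := hDM.trans hMS
  have hDne : commPow p S ≠ S := by
    intro h
    exact hMne (le_antisymm hMS (h ▸ hDM))
  have hDY : commPow p S ≤ Subgroup.centralizer (Y : Set G) :=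
    hmin _ hDS hDne (fun x hx => conj_mem_commPow (hSn x hx))
  have hDinvS : ∀ s ∈ S, ∀ d ∈ commPow p S, s * d * s⁻¹ ∈ commPow p S := fun s hs =>
    conj_mem_commPow (fun a ha => S.mul_mem (S.mul_mem hs ha) (S.inv_mem hs))
  -- step 3: three subgroups lemma, `[S, D] = 1`
  have h1 : ⁅⁅S, commPow p S⁆, Y⁆ = ⊥ := by
    rw [Subgroup.commutator_eq_bot_iff_le_centralizer]
    refine le_trans ?_ hDY
    rw [Subgroup.commutator_le]
    intro s hs d hd
    have e : ⁅s, d⁆ = (s * d * s⁻¹) * d⁻¹ := by rw [commutatorElement_def]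
    rw [e]
    exact (commPow p S).mul_mem (hDinvS s hs d hd) ((commPow p S).inv_mem hd)
  have h2 : ⁅⁅commPow p S, Y⁆, S⁆ = ⊥ := by
    rw [Subgroup.commutator_eq_bot_iff_le_centralizer.2 hDY]
    exact Subgroup.commutator_bot_left S
  have h3 : ⁅⁅Y, S⁆, commPow p S⁆ = ⊥ := Subgroup.commutator_commutator_eq_bot_of_rotate h1 h2
  rw [Subgroup.commutator_comm Y S, hCeq] at h3
  have hSD : S ≤ Subgroup.centralizer (commPow p S : Set G) :=
    Subgroup.commutator_eq_bot_iff_le_centralizer.1 h3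
  have hcomm : ∀ s ∈ S, ∀ d ∈ commPow p S, d * s = s * d := by
    intro s hs d hd
    exact (Subgroup.mem_centralizer_iff.1 (hSD hs)) d hd
  -- step 4: `x ↦ x ^ p` is multiplicative on `S`
  have hpdvd : p ∣ p.choose 2 := by
    have h2le := hp.out.two_le
    exact hp.out.dvd_choose_self (by norm_num) (by omega)
  have hmulpow : ∀ a ∈ S, ∀ b ∈ S, (a * b) ^ p = a ^ p * b ^ p := by
    intro a ha b hb
    have hz : ⁅b, a⁆ ∈ commPow p S := commutator_mem_commPow hb ha
    have hza : Commute ⁅b, a⁆ a := hcomm a ha _ hz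
    have hzb : Commute ⁅b, a⁆ b := hcomm b hb _ hz
    have hzp : ⁅b, a⁆ ^ p = 1 := by
      rw [← Cfsg.Agent.Lib.Helper89.commutator_pow_left_of_central a b hzb p]
      have hc : Commute (b ^ p) a := hcomm a ha _ (pow_mem_commPow hb)
      rw [commutatorElement_eq_one_iff_commute]
      exact hc
    rw [Cfsg.Agent.Lib.Helper89.mul_pow_of_comm_central a b hza hzb p]
    obtain ⟨k, hk⟩ := hpdvd
    rw [hk, pow_mul, hzp, one_pow, mul_one]
  -- step 5: `S` has exponent `p`
  have hexp : ∀ x ∈ S, x ^ p = 1 := by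
    let K : Subgroup G :=
      { carrier := {x | x ∈ S ∧ x ^ p = 1}
        one_mem' := ⟨S.one_mem, one_pow _⟩
        mul_mem' := by
          rintro a b ⟨ha, hap⟩ ⟨hb, hbp⟩
          exact ⟨S.mul_mem ha hb, by rw [hmulpow a ha b hb, hap, hbp, one_mul]⟩
        inv_mem' := by
          rintro a ⟨ha, hap⟩
          exact ⟨S.inv_mem ha, by rw [inv_pow, hap, inv_one]⟩ }
    have hK : ⁅S, Y⁆ ≤ K := by
      rw [Subgroup.commutator_le]
      intro s hs y hy
      have h1 : y * s⁻¹ * y⁻¹ ∈ S := hSn y (hYL hy) _ (S.inv_mem hs)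
      have e : ⁅s, y⁆ = s * (y * s⁻¹ * y⁻¹) := by rw [commutatorElement_def]; group
      refine ⟨?_, ?_⟩
      · rw [e]; exact S.mul_mem hs h1
      · rw [e, hmulpow s hs _ h1, conj_pow, inv_pow]
        have hc : y * s ^ p = s ^ p * y :=
          (Subgroup.mem_centralizer_iff.1 (hDY (pow_mem_commPow hs))) y hy
        have hc' : y * (s ^ p)⁻¹ = (s ^ p)⁻¹ * y := (Commute.inv_right hc)
        rw [hc']
        group
    intro x hx
    have hxK : x ∈ K := hK (by rw [hCeq]; exact hx)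
    exact hxK.2
  -- step 6: the fixed point formula
  have hfix : S ⊓ Subgroup.centralizer (T : Set G) ≤
      S ⊓ Subgroup.centralizer ((Y ⊔ T : Subgroup G) : Set G) := by
    intro x hx
    obtain ⟨hxS, hxT⟩ := Subgroup.mem_inf.1 hx
    refine Subgroup.mem_inf.2 ⟨hxS, ?_⟩
    have hxY := hΩ x hxS hxT (hexp x hxS)
    have hle : Y ⊔ T ≤ Subgroup.centralizer ({x} : Set G) := by
      apply sup_le
      · intro y hy
        rw [Subgroup.mem_centralizer_singleton_iff]
        exact (Subgroup.mem_centralizer_iff.1 hxY) y hy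
      · intro t ht
        rw [Subgroup.mem_centralizer_singleton_iff]
        exact (Subgroup.mem_centralizer_iff.1 hxT) t ht
    rw [Subgroup.mem_centralizer_iff]
    intro l hl
    have := hle hl
    rw [Subgroup.mem_centralizer_singleton_iff] at this
    exact this
  have hge : S ⊓ Subgroup.centralizer ((Y ⊔ T : Subgroup G) : Set G) ≤
      S ⊓ Subgroup.centralizer (T : Set G) :=
    inf_le_inf_left _ (Subgroup.centralizer_le (SetLike.coe_subset_coe.2 hTL))
  have heq : S ⊓ Subgroup.centralizer ((Y ⊔ T : Subgroup G) : Set G) =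
      S ⊓ Subgroup.centralizer (T : Set G) := le_antisymm hge hfix
  have hnilS : Group.IsNilpotent ↥S := hS.isNilpotent
  have hsolv : Group.IsSolvable ↥S := inferInstance
  have hcopSL : Nat.Coprime (Nat.card ↥S) (Nat.card ↥(Y ⊔ T)) := by
    obtain ⟨k, hk⟩ := IsPGroup.iff_card.1 hS
    rw [hk]
    exact Nat.Coprime.pow_left _ hcopL.symm
  have hW := Cfsg.Agent.Lib.Helper03.FrobSub.wielandt_sub Y T S hTY hfpf hnil hSn hsolv hcopSL
  rw [heq] at hW
  have hpos : 0 < Nat.card ↥(S ⊓ Subgroup.centralizer (T : Set G)) ^ Nat.card T :=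
    pow_pos Nat.card_pos _
  have hcardeq : Nat.card ↥S = Nat.card ↥(S ⊓ Subgroup.centralizer (Y : Set G)) :=
    Nat.eq_of_mul_eq_mul_left hpos hW
  have hfin : S ⊓ Subgroup.centralizer (Y : Set G) = S :=
    Subgroup.eq_of_le_of_card_ge inf_le_left hcardeq.le
  exact hcon (le_trans (le_of_eq hfin.symm) inf_le_right)

/-- **Lemma F** (for BG 13.4).  Let `p` be an odd prime, `S` a `p`-subgroup, `Y` a nilpotent subgroup
and `T` a subgroup normalizing `Y` such that every nonidentity element of `T` acts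
fixed-point-freely on `Y`; assume `Y` and `T` normalize `S` and `p ∤ |Y T|`.  If `Y` centralizes
every element of `C_S(T)` of order dividing `p`, then `Y` centralizes `S`. -/
theorem le_centralizer_of_frobenius [Finite G] {p : ℕ} [Fact p.Prime] (hp2 : p ≠ 2)
    (S Y T : Subgroup G) (hS : IsPGroup p S)
    (hYS : Y ≤ Subgroup.normalizer (S : Set G)) (hTS : T ≤ Subgroup.normalizer (S : Set G))
    (hTY : T ≤ Subgroup.normalizer (Y : Set G))
    (hnil : Group.IsNilpotent Y)
    (hfpf : ∀ e ∈ T, e ≠ 1 → ∀ u ∈ Y, e * u = u * e → u = 1)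
    (hcop : ¬ p ∣ Nat.card ↥(Y ⊔ T))
    (hΩ : ∀ x ∈ S, x ∈ Subgroup.centralizer (T : Set G) → x ^ p = 1 →
      x ∈ Subgroup.centralizer (Y : Set G)) :
    S ≤ Subgroup.centralizer (Y : Set G) := by
  have hTY' : ∀ e ∈ T, ∀ u ∈ Y, e * u * e⁻¹ ∈ Y := fun e he u hu =>
    (Subgroup.mem_normalizer_iff.1 (hTY he) u).1 hu
  have hSn : ∀ x ∈ Y ⊔ T, ∀ s ∈ S, x * s * x⁻¹ ∈ S := by
    intro x hx s hs
    exact (Subgroup.mem_normalizer_iff.1 ((sup_le hYS hTS) hx) s).1 hs
  exact le_centralizer_aux hp2 Y T hTY' hfpf hnil hcop _ S rfl hS hSn hΩ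

/-- `p ∤ |Y T|` from `p ∤ |Y|` and `p ∤ |T|` when `T` normalizes `Y`. -/
theorem not_dvd_card_sup {p : ℕ} (hp : p.Prime) (Y T : Subgroup G)
    (hTY : T ≤ Subgroup.normalizer (Y : Set G))
    (hY : ¬ p ∣ Nat.card ↥Y) (hT : ¬ p ∣ Nat.card ↥T) : ¬ p ∣ Nat.card ↥(Y ⊔ T) := by
  intro h
  have h1 := Cfsg.Agent.Lib.Helper01.card_sup_mul_card_inf_of_le_normalizer Y T hTY
  rw [sup_comm] at h1
  have h2 : p ∣ Nat.card ↥Y * Nat.card ↥T := by
    rw [← h1]
    exact Dvd.dvd.mul_right h _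
  rcases (Nat.Prime.dvd_mul hp).1 h2 with h3 | h3
  · exact hY h3
  · exact hT h3

/-- **Lemma F, cyclic form.**  As `le_centralizer_of_frobenius`, with `C_S(T)` cyclic and `Y`
centralizing a subgroup `P ≤ C_S(T)` of order `p` (so `P = Ω₁(C_S(T))`). -/
theorem le_centralizer_of_frobenius_cyclic [Finite G] {p : ℕ} [hp : Fact p.Prime] (hp2 : p ≠ 2)
    (S Y T P : Subgroup G) (hS : IsPGroup p S)
    (hYS : Y ≤ Subgroup.normalizer (S : Set G)) (hTS : T ≤ Subgroup.normalizer (S : Set G))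
    (hTY : T ≤ Subgroup.normalizer (Y : Set G))
    (hnil : Group.IsNilpotent Y)
    (hfpf : ∀ e ∈ T, e ≠ 1 → ∀ u ∈ Y, e * u = u * e → u = 1)
    (hcopY : ¬ p ∣ Nat.card ↥Y) (hcopT : ¬ p ∣ Nat.card ↥T)
    (hcyc : IsCyclic ↥(S ⊓ Subgroup.centralizer (T : Set G)))
    (hPS : P ≤ S ⊓ Subgroup.centralizer (T : Set G)) (hPcard : Nat.card ↥P = p)
    (hPY : P ≤ Subgroup.centralizer (Y : Set G)) :
    S ≤ Subgroup.centralizer (Y : Set G) := by
  apply le_centralizer_of_frobenius hp2 S Y T hS hYS hTS hTY hnil hfpf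
    (not_dvd_card_sup hp.out Y T hTY hcopY hcopT)
  intro x hxS hxT hxp
  apply hPY
  -- the elements of order dividing `p` of the cyclic group `C_S(T)` are those of `P`
  set C : Subgroup G := S ⊓ Subgroup.centralizer (T : Set G) with hC
  have hxC : x ∈ C := Subgroup.mem_inf.2 ⟨hxS, hxT⟩
  classical
  let _ : Fintype ↥C := Fintype.ofFinite _
  have hle := IsCyclic.card_pow_eq_one_le (α := ↥C) hp.out.pos
  -- the subgroup `P` inside `C`
  by_contra hxP
  let A : Finset ↥C := Finset.univ.filter (fun a : ↥C => a ^ p = 1)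
  have hA : A.card ≤ p := hle
  let f : ↥P → ↥C := fun a => ⟨a.1, hPS a.2⟩
  have hf : Function.Injective f := by
    intro a b hab
    apply Subtype.ext
    exact congrArg (fun c : ↥C => (c : G)) hab
  let _ : Fintype ↥P := Fintype.ofFinite _
  let B : Finset ↥C := (Finset.univ : Finset ↥P).image f
  have hBcard : B.card = p := by
    rw [Finset.card_image_of_injective _ hf, Finset.card_univ, ← Nat.card_eq_fintype_card, hPcard]
  have hBA : insert (⟨x, hxC⟩ : ↥C) B ⊆ A := by
    intro c hc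
    rw [Finset.mem_insert] at hc
    rw [Finset.mem_filter]
    refine ⟨Finset.mem_univ _, ?_⟩
    rcases hc with rfl | hc
    · apply Subtype.ext
      simpa using hxp
    · obtain ⟨a, -, rfl⟩ := Finset.mem_image.1 hc
      apply Subtype.ext
      have : (a : G) ^ p = 1 := by
        have h1 : a ^ Nat.card ↥P = 1 := pow_card_eq_one'
        rw [hPcard] at h1
        exact_mod_cast congrArg (fun c : ↥P => (c : G)) h1
      simpa using this
  have hxB : (⟨x, hxC⟩ : ↥C) ∉ B := by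
    intro h
    obtain ⟨a, -, ha⟩ := Finset.mem_image.1 h
    apply hxP
    have : (a : G) = x := congrArg (fun c : ↥C => (c : G)) ha
    rw [← this]
    exact a.2
  have h1 := Finset.card_le_card hBA
  rw [Finset.card_insert_of_notMem hxB, hBcard] at h1
  omega

end Cfsg.Agent.Lib.Helper47.BGFrob
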