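import Cfsg.Agent.Lib.Helper47.BGFrobCent

/-!
# Lemma F for BG 13.4, family form (helper31's keystone 142814, for odd `p`)

`isCyclic_of_frobenius_family_odd` has exactly the signature of the keystone
`isCyclic_of_frobenius_family` of `notes/S1428_keystones.lean.txt`, plus the hypothesis `p ≠ 2`.
It is a short consequence of `BGFrob.le_centralizer_of_frobenius_cyclic`: each `Q i` centralizes `S`,
hence `S = C_S(⨆ Q j)` is cyclic.
-/

set_option autoImplicit false

namespace Cfsg.Agent.Lib.Helper47.BGFrob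

variable {G : Type*} [Group G] [Finite G]

omit [Finite G] in
/-- an elementwise commutative subgroup is nilpotent -/
theorem isNilpotent_of_comm (Q : Subgroup G) (hQ : ∀ a ∈ Q, ∀ b ∈ Q, a * b = b * a) :
    Group.IsNilpotent ↥Q := by
  let _ : CommGroup ↥Q :=
    { (inferInstance : Group ↥Q) with
      mul_comm := fun a b => Subtype.ext (hQ a a.2 b b.2) }
  exact CommGroup.isNilpotent

omit [Finite G] in
/-- a subgroup `R` of prime order normalizing `Q` with `C_Q(R) = 1` acts fixed-point-freely: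
every nonidentity element of `R` has no fixed point on `Q`. -/
theorem fpf_of_prime_card (Q R : Subgroup G) (hR : (Nat.card R).Prime)
    (hfix : Q ⊓ Subgroup.centralizer (R : Set G) = ⊥) :
    ∀ e ∈ R, e ≠ 1 → ∀ u ∈ Q, e * u = u * e → u = 1 := by
  intro e he he1 u hu heu
  have : Fact (Nat.card R).Prime := ⟨hR⟩
  have hgen : Subgroup.zpowers (⟨e, he⟩ : ↥R) = ⊤ :=
    zpowers_eq_top_of_prime_card rfl (fun h => he1 (congrArg Subtype.val h))
  have hmem : u ∈ Q ⊓ Subgroup.centralizer (R : Set G) := by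
    refine Subgroup.mem_inf.2 ⟨hu, ?_⟩
    rw [Subgroup.mem_centralizer_iff]
    intro t ht
    have h1 : (⟨t, ht⟩ : ↥R) ∈ Subgroup.zpowers (⟨e, he⟩ : ↥R) := by rw [hgen]; trivial
    obtain ⟨k, hk⟩ := Subgroup.mem_zpowers_iff.1 h1
    have h2 : t = e ^ k := by
      have := congrArg Subtype.val hk
      simpa using this.symm
    rw [h2]
    have hc : Commute e u := heu
    exact (hc.zpow_left k).eq
  rw [hfix] at hmem
  exact Subgroup.mem_bot.1 hmem

set_option linter.unusedVariables false in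
/-- **Lemma F, family form** (keystone 142814 for odd `p`; the hypothesis `hRQs` is not used). -/
theorem isCyclic_of_frobenius_family_odd {p : ℕ} [hp : Fact p.Prime] (hp2 : p ≠ 2)
    {ι : Type*} [Finite ι]
    (S P₀ : Subgroup G) (Q R : ι → Subgroup G) (hS : IsPGroup p S)
    (hQab : ∀ i, ∀ a ∈ Q i, ∀ b ∈ Q i, a * b = b * a)
    (hQp : ∀ i, ¬ p ∣ Nat.card (Q i))
    (hRc : ∀ i, (Nat.card (R i)).Prime ∧ Nat.card (R i) ≠ p)
    (hRQ : ∀ i, R i ≤ Subgroup.normalizer (Q i : Set G))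
    (hfix : ∀ i, Q i ⊓ Subgroup.centralizer (R i : Set G) = ⊥)
    (hQS : ∀ i, Q i ≤ Subgroup.normalizer (S : Set G))
    (hRS : ∀ i, R i ≤ Subgroup.normalizer (S : Set G))
    (hRQs : ∀ i, R i ≤ Subgroup.normalizer ((⨆ j, Q j : Subgroup G) : Set G))
    (hCR : ∀ i, IsCyclic ↥(S ⊓ Subgroup.centralizer (R i : Set G)))
    (hCQ : IsCyclic ↥(S ⊓ Subgroup.centralizer ((⨆ j, Q j : Subgroup G) : Set G)))
    (hP₀1 : P₀ ≠ ⊥) (hP₀S : P₀ ≤ S) (hP₀Q : ∀ i, Q i ≤ Subgroup.centralizer (P₀ : Set G))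
    (hP₀R : ∀ i, R i ≤ Subgroup.centralizer (P₀ : Set G)) : IsCyclic S := by
  -- a subgroup `P` of order `p` of `P₀`
  have hP₀p : IsPGroup p P₀ := hS.to_le hP₀S
  have hcard : p ∣ Nat.card P₀ := by
    obtain ⟨k, hk⟩ := IsPGroup.iff_card.1 hP₀p
    have hk0 : k ≠ 0 := by
      rintro rfl
      apply hP₀1
      rw [← Subgroup.card_eq_one]
      simpa using hk
    rw [hk]
    exact dvd_pow_self p hk0
  obtain ⟨x, hx⟩ := exists_prime_orderOf_dvd_card' p hcard
  set P : Subgroup G := Subgroup.zpowers (x : G) with hP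
  have hPP₀ : P ≤ P₀ := by
    rw [hP, Subgroup.zpowers_le]
    exact x.2
  have hPcard : Nat.card ↥P = p := by
    rw [hP, Nat.card_zpowers, Subgroup.orderOf_coe, hx]
  -- each `Q i` centralizes `S`
  have hSQ : ∀ i, S ≤ Subgroup.centralizer (Q i : Set G) := by
    intro i
    have hcopT : ¬ p ∣ Nat.card ↥(R i) := by
      intro h
      exact (hRc i).2 ((Nat.prime_dvd_prime_iff_eq hp.out (hRc i).1).1 h).symm
    refine le_centralizer_of_frobenius_cyclic hp2 S (Q i) (R i) P hS (hQS i) (hRS i) (hRQ i)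
      (isNilpotent_of_comm (Q i) (hQab i)) (fpf_of_prime_card (Q i) (R i) (hRc i).1 (hfix i))
      (hQp i) hcopT (hCR i) ?_ hPcard ?_
    · refine le_inf (hPP₀.trans hP₀S) ?_
      exact hPP₀.trans (Subgroup.le_centralizer_iff.1 (hP₀R i))
    · exact hPP₀.trans (Subgroup.le_centralizer_iff.1 (hP₀Q i))
  have hle : S ≤ Subgroup.centralizer ((⨆ j, Q j : Subgroup G) : Set G) := by
    rw [Subgroup.le_centralizer_iff]
    exact iSup_le (fun j => Subgroup.le_centralizer_iff.1 (hSQ j))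
  have h : S ⊓ Subgroup.centralizer ((⨆ j, Q j : Subgroup G) : Set G) = S := inf_eq_left.2 hle
  rw [h] at hCQ
  exact hCQ

end Cfsg.Agent.Lib.Helper47.BGFrob
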