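import Mathlib
import Cfsg.Prelude.Def_ParabolicCharacters
import Cfsg.Agent.Lib.Helper47.SL2

set_option autoImplicit false

namespace Cfsg.Agent.Lib.Helper47

open Matrix

section
variable {F : Type*} [Field F]

/-- the upper triangular (Borel) subgroup of `SL2` -/
abbrev borel (F : Type*) [Field F] : Subgroup (Matrix.SpecialLinearGroup (Fin 2) F) :=
  (Cfsg.upperTriangularGL 2 F).comap Matrix.SpecialLinearGroup.toGL

theorem mem_borel_iff (g : Matrix.SpecialLinearGroup (Fin 2) F) :
    g ∈ borel F ↔ (g : Matrix (Fin 2) (Fin 2) F) 1 0 = 0 := by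
  change (Matrix.SpecialLinearGroup.toGL g : Matrix (Fin 2) (Fin 2) F).BlockTriangular id ↔ _
  rw [Matrix.SpecialLinearGroup.coe_GL_coe_matrix]
  constructor
  · intro h
    exact h (by decide : (id (0 : Fin 2)) < id 1)
  · intro h i j hij
    fin_cases i <;> fin_cases j <;> simp_all

/-- the element `[[a, b], [0, a⁻¹]]` of `SL2` -/
def borelSL (a : Fˣ) (b : F) : Matrix.SpecialLinearGroup (Fin 2) F :=
  ⟨!![(a : F), b; 0, (a : F)⁻¹], by simp [Matrix.det_fin_two]⟩

theorem borelSL_coe (a : Fˣ) (b : F) :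
    ((borelSL a b : Matrix.SpecialLinearGroup (Fin 2) F) : Matrix (Fin 2) (Fin 2) F) =
      !![(a : F), b; 0, (a : F)⁻¹] := rfl

theorem borelSL_mem (a : Fˣ) (b : F) : borelSL a b ∈ borel F := by
  rw [mem_borel_iff, borelSL_coe]; simp

/-- the element `[[a, b], [0, a⁻¹]]` of the Borel subgroup -/
def borelMk (a : Fˣ) (b : F) : borel F := ⟨borelSL a b, borelSL_mem a b⟩

theorem borelMk_coe (a : Fˣ) (b : F) :
    (((borelMk a b : borel F) : Matrix.SpecialLinearGroup (Fin 2) F) : Matrix (Fin 2) (Fin 2) F) =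
      !![(a : F), b; 0, (a : F)⁻¹] := rfl

theorem borel_entries (g : borel F) :
    (g.1 : Matrix (Fin 2) (Fin 2) F) 1 0 = 0 ∧
    (g.1 : Matrix (Fin 2) (Fin 2) F) 0 0 * (g.1 : Matrix (Fin 2) (Fin 2) F) 1 1 = 1 := by
  have h10 := (mem_borel_iff g.1).mp g.2
  have hdet := det_eq g.1
  rw [h10, mul_zero, sub_zero] at hdet
  exact ⟨h10, hdet⟩

/-- the parametrization of the Borel subgroup by `Fˣ × F` -/
noncomputable def borelEquiv (F : Type*) [Field F] : Fˣ × F ≃ borel F where
  toFun p := borelMk p.1 p.2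
  invFun g := (Units.mkOfMulEqOne _ _ (borel_entries g).2, (g.1 : Matrix (Fin 2) (Fin 2) F) 0 1)
  left_inv p := by
    ext
    · simp [borelMk_coe]
    · simp [borelMk_coe]
  right_inv g := by
    obtain ⟨h10, hdet⟩ := borel_entries g
    apply Subtype.ext
    apply Matrix.SpecialLinearGroup.ext
    intro i j
    rw [borelMk_coe]
    fin_cases i <;> fin_cases j
    · simp
    · simp
    · simp [h10]
    · simp only [Fin.mk_one, Fin.isValue, of_apply, cons_val', cons_val_one, cons_val_fin_one,
        Units.val_mkOfMulEqOne]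
      exact (eq_inv_of_mul_eq_one_right hdet).symm

theorem borelMk_commute_iff (a c : Fˣ) (b d : F) :
    Commute (borelMk a b) (borelMk c d) ↔
      d * ((a : F) - (a : F)⁻¹) = b * ((c : F) - (c : F)⁻¹) := by
  rw [Commute, SemiconjBy]
  constructor
  · intro h
    have h1 := congrArg (fun g : borel F => (g.1 : Matrix (Fin 2) (Fin 2) F) 0 1) h
    simp only [Subgroup.coe_mul, Matrix.SpecialLinearGroup.coe_mul, borelMk_coe] at h1
    simp [Matrix.mul_apply, Fin.sum_univ_two] at h1
    linear_combination h1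
  · intro h
    apply Subtype.ext
    apply Matrix.SpecialLinearGroup.ext
    intro i j
    simp only [Subgroup.coe_mul, Matrix.SpecialLinearGroup.coe_mul, borelMk_coe]
    fin_cases i <;> fin_cases j <;> simp [Matrix.mul_apply, Fin.sum_univ_two, mul_comm]
    linear_combination h

end

end Cfsg.Agent.Lib.Helper47
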