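import Mathlib
import Cfsg.Agent.Lib.Helper47.Borel
import Cfsg.Agent.Lib.Helper47.SL2Finite

set_option autoImplicit false

namespace Cfsg.Agent.Lib.Helper47

open Matrix

section
variable {F : Type*} [Field F] [Fintype F]

theorem card_borel : Nat.card (borel F) = (Fintype.card F - 1) * Fintype.card F := by
  classical
  rw [← Nat.card_congr (borelEquiv F), Nat.card_prod, Nat.card_eq_fintype_card,
    Nat.card_eq_fintype_card, Fintype.card_units]

/-- the units with `a = a⁻¹` are `1` and `-1` -/
theorem units_sub_inv_eq_zero_iff (a : Fˣ) : (a : F) - (a : F)⁻¹ = 0 ↔ a = 1 ∨ a = -1 := by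
  have ha : (a : F) ≠ 0 := a.ne_zero
  constructor
  · intro h
    have h2 : ((a : F) - 1) * ((a : F) + 1) = 0 := by
      have : (a : F) * ((a : F) - (a : F)⁻¹) = 0 := by rw [h, mul_zero]
      rw [mul_sub, mul_inv_cancel₀ ha] at this
      linear_combination this
    rcases mul_eq_zero.mp h2 with h1 | h1
    · left; exact Units.ext (by simpa using sub_eq_zero.mp h1)
    · right; exact Units.ext (by simpa using eq_neg_of_add_eq_zero_left h1)
  · rintro (rfl | rfl) <;> simp

theorem card_units_sub_inv_eq_zero [DecidableEq F] (hodd : Fintype.card F % 2 = 1) :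
    (Finset.univ.filter (fun a : Fˣ => (a : F) - (a : F)⁻¹ = 0)).card = 2 := by
  have h2 : (2 : F) ≠ 0 := two_ne_zero_of_odd_card hodd
  have hne : (1 : Fˣ) ≠ -1 := by
    intro h
    have := congrArg Units.val h
    simp only [Units.val_one, Units.val_neg] at this
    apply h2
    linear_combination this
  have : Finset.univ.filter (fun a : Fˣ => (a : F) - (a : F)⁻¹ = 0) = {1, -1} := by
    ext a
    simp only [Finset.mem_filter, Finset.mem_univ, true_and, Finset.mem_insert, Finset.mem_singleton]
    exact units_sub_inv_eq_zero_iff a
  rw [this, Finset.card_pair hne]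

/-- number of solutions `(b, d)` of `d α = b γ` -/
theorem card_linear_pairs [DecidableEq F] (α γ : F) :
    (Finset.univ.filter (fun p : F × F => p.2 * α = p.1 * γ)).card =
      if α = 0 ∧ γ = 0 then Fintype.card F * Fintype.card F else Fintype.card F := by
  by_cases hα : α = 0
  · by_cases hγ : γ = 0
    · subst hα; subst hγ
      simp [Finset.card_univ]
    · subst hα
      rw [if_neg (fun h => hγ h.2)]
      -- solutions: b = 0
      have : Finset.univ.filter (fun p : F × F => p.2 * 0 = p.1 * γ) =
          (Finset.univ : Finset F).image (fun d => ((0 : F), d)) := by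
        ext ⟨b, d⟩
        simp only [mul_zero, Finset.mem_filter, Finset.mem_univ, true_and, Finset.mem_image,
          Prod.mk.injEq, exists_eq_right]
        constructor
        · intro h
          rcases mul_eq_zero.mp h.symm with h | h
          · exact h.symm
          · exact absurd h hγ
        · intro h; rw [← h, zero_mul]
      rw [this, Finset.card_image_of_injective _ (fun a b h => by simpa using h), Finset.card_univ]
  · rw [if_neg (fun h => hα h.1)]
    have : Finset.univ.filter (fun p : F × F => p.2 * α = p.1 * γ) =
        (Finset.univ : Finset F).image (fun b => (b, b * γ / α)) := by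
      ext ⟨b, d⟩
      simp only [Finset.mem_filter, Finset.mem_univ, true_and, Finset.mem_image, Prod.mk.injEq]
      constructor
      · intro h
        refine ⟨b, rfl, ?_⟩
        rw [← h]; field_simp
      · rintro ⟨b', rfl, rfl⟩
        field_simp
    rw [this, Finset.card_image_of_injective _ (fun a b h => by
      simp only [Prod.mk.injEq] at h; exact h.1), Finset.card_univ]

end

end Cfsg.Agent.Lib.Helper47
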