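import Mathlib
import Cfsg.Prelude.Def_ParabolicCharacters

set_option autoImplicit false

/-!
# Existence in the Bruhat decomposition of `GL_n`, by elimination
-/

namespace Cfsg.Agent.Lib.Helper47

open Finset

section
variable {n : ℕ} {F : Type*} [Field F]

/-- `M' = u * M * u'` with `u`, `u'` invertible upper triangular -/
def BRel (M M' : Matrix (Fin n) (Fin n) F) : Prop :=
  ∃ u u' : Matrix (Fin n) (Fin n) F, u.BlockTriangular id ∧ u'.BlockTriangular id ∧
    u.det ≠ 0 ∧ u'.det ≠ 0 ∧ M' = u * M * u'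

theorem BRel.refl (M : Matrix (Fin n) (Fin n) F) : BRel M M :=
  ⟨1, 1, Matrix.blockTriangular_one, Matrix.blockTriangular_one, by simp, by simp, by simp⟩

theorem BRel.trans {M M' M'' : Matrix (Fin n) (Fin n) F} (h : BRel M M') (h' : BRel M' M'') :
    BRel M M'' := by
  obtain ⟨u, u', hu, hu', hd, hd', rfl⟩ := h
  obtain ⟨v, v', hv, hv', he, he', rfl⟩ := h'
  refine ⟨v * u, u' * v', hv.mul hu, hu'.mul hv', ?_, ?_, ?_⟩
  · rw [Matrix.det_mul]
    exact mul_ne_zero he hd
  · rw [Matrix.det_mul]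
    exact mul_ne_zero hd' he'
  · simp only [Matrix.mul_assoc]

theorem BRel.det_ne_zero {M M' : Matrix (Fin n) (Fin n) F} (h : BRel M M') (hM : M.det ≠ 0) :
    M'.det ≠ 0 := by
  obtain ⟨u, u', _, _, hd, hd', rfl⟩ := h
  rw [Matrix.det_mul, Matrix.det_mul]
  exact mul_ne_zero (mul_ne_zero hd hM) hd'

/-- columns of index `< k` are reduced -/
def Red (M : Matrix (Fin n) (Fin n) F) (k : ℕ) : Prop :=
  ∀ c : Fin n, c.val < k →
    ∃ r, M r c ≠ 0 ∧ (∀ a, a ≠ r → M a c = 0) ∧ (∀ j, j ≠ c → M r j = 0)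

/-- the elementary row operation matrix: subtract `t i` times row `r` from the rows `i < r` -/
def rowOp (r : Fin n) (t : Fin n → F) : Matrix (Fin n) (Fin n) F :=
  fun i j => if i = j then 1 else if j = r ∧ i < r then - t i else 0

theorem rowOp_blockTriangular (r : Fin n) (t : Fin n → F) : (rowOp r t).BlockTriangular id := by
  intro i j hij
  change j < i at hij
  unfold rowOp
  rw [if_neg (ne_of_gt hij), if_neg]
  rintro ⟨rfl, h⟩
  exact absurd h (not_lt.mpr hij.le)

theorem rowOp_det (r : Fin n) (t : Fin n → F) : (rowOp r t).det = 1 := by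
  rw [Matrix.det_of_isUpperTriangular (rowOp_blockTriangular r t)]
  apply Finset.prod_eq_one
  intro i _
  unfold rowOp
  rw [if_pos rfl]

theorem rowOp_mul_apply (r : Fin n) (t : Fin n → F) (M : Matrix (Fin n) (Fin n) F)
    (i c : Fin n) :
    (rowOp r t * M) i c = M i c - (if i < r then t i * M r c else 0) := by
  rw [Matrix.mul_apply]
  by_cases hir : i < r
  · rw [if_pos hir]
    have hne : i ≠ r := ne_of_lt hir
    rw [Finset.sum_eq_add_of_mem i r (mem_univ _) (mem_univ _) hne]
    · unfold rowOp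
      rw [if_pos rfl, if_neg hne, if_pos ⟨rfl, hir⟩]
      ring
    · intro k _ hk
      unfold rowOp
      rw [if_neg (Ne.symm hk.1), if_neg, zero_mul]
      rintro ⟨rfl, _⟩
      exact hk.2 rfl
  · rw [if_neg hir, sub_zero]
    rw [Finset.sum_eq_single i]
    · unfold rowOp
      rw [if_pos rfl, one_mul]
    · intro k _ hk
      unfold rowOp
      rw [if_neg (Ne.symm hk), if_neg, zero_mul]
      rintro ⟨_, h⟩
      exact hir h
    · intro h
      exact absurd (mem_univ _) h

/-- the elementary column operation matrix: subtract `s j` times column `c` from the columns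
`j > c` -/
def colOp (c : Fin n) (s : Fin n → F) : Matrix (Fin n) (Fin n) F :=
  fun i j => if i = j then 1 else if i = c ∧ c < j then - s j else 0

theorem colOp_blockTriangular (c : Fin n) (s : Fin n → F) : (colOp c s).BlockTriangular id := by
  intro i j hij
  change j < i at hij
  unfold colOp
  rw [if_neg (ne_of_gt hij), if_neg]
  rintro ⟨rfl, h⟩
  exact absurd h (not_lt.mpr hij.le)

theorem colOp_det (c : Fin n) (s : Fin n → F) : (colOp c s).det = 1 := by
  rw [Matrix.det_of_isUpperTriangular (colOp_blockTriangular c s)]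
  apply Finset.prod_eq_one
  intro i _
  unfold colOp
  rw [if_pos rfl]

theorem mul_colOp_apply (c : Fin n) (s : Fin n → F) (M : Matrix (Fin n) (Fin n) F)
    (a j : Fin n) :
    (M * colOp c s) a j = M a j - (if c < j then M a c * s j else 0) := by
  rw [Matrix.mul_apply]
  by_cases hcj : c < j
  · rw [if_pos hcj]
    have hne : j ≠ c := ne_of_gt hcj
    rw [Finset.sum_eq_add_of_mem j c (mem_univ _) (mem_univ _) hne]
    · unfold colOp
      rw [if_pos rfl, if_neg (Ne.symm hne), if_pos ⟨rfl, hcj⟩]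
      ring
    · intro k _ hk
      unfold colOp
      rw [if_neg hk.1, if_neg, mul_zero]
      rintro ⟨rfl, _⟩
      exact hk.2 rfl
  · rw [if_neg hcj, sub_zero]
    rw [Finset.sum_eq_single j]
    · unfold colOp
      rw [if_pos rfl, mul_one]
    · intro k _ hk
      unfold colOp
      rw [if_neg hk, if_neg, mul_zero]
      rintro ⟨_, h⟩
      exact hcj h
    · intro h
      exact absurd (mem_univ _) h

theorem red_step (M : Matrix (Fin n) (Fin n) F) (hM : M.det ≠ 0) (k : ℕ) (hk : k < n)
    (hred : Red M k) : ∃ M', BRel M M' ∧ Red M' (k + 1) := by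
  classical
  set c₀ : Fin n := ⟨k, hk⟩ with hc₀
  -- a nonzero entry in column c₀
  have hex : ∃ r, M r c₀ ≠ 0 := by
    by_contra hno
    simp only [not_exists, not_not] at hno
    exact hM (Matrix.det_eq_zero_of_column_eq_zero c₀ hno)
  have hS : (univ.filter fun r : Fin n => M r c₀ ≠ 0).Nonempty := by
    obtain ⟨r, hr⟩ := hex
    exact ⟨r, mem_filter.mpr ⟨mem_univ _, hr⟩⟩
  set r := (univ.filter fun r : Fin n => M r c₀ ≠ 0).max' hS with hr
  have hr1 : M r c₀ ≠ 0 := (mem_filter.mp (Finset.max'_mem _ hS)).2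
  have hr2 : ∀ a, r < a → M a c₀ = 0 := by
    intro a ha
    by_contra hne
    have : a ≤ r := Finset.le_max' _ a (mem_filter.mpr ⟨mem_univ _, hne⟩)
    exact absurd ha (not_lt.mpr this)
  -- the pivot row has zero entries in the reduced columns
  have hr3 : ∀ c : Fin n, c.val < k → M r c = 0 := by
    intro c hc
    obtain ⟨rc, h1, h2, h3⟩ := hred c hc
    by_cases hrc : r = rc
    · exfalso
      apply hr1
      rw [hrc]
      apply h3
      intro h
      rw [← h] at hc
      simp [hc₀] at hc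
    · exact h2 r hrc
  set t : Fin n → F := fun i => M i c₀ / M r c₀ with ht
  set M₁ := rowOp r t * M with hM₁
  have hM₁a : ∀ i c, M₁ i c = M i c - (if i < r then t i * M r c else 0) :=
    fun i c => rowOp_mul_apply r t M i c
  have hM₁r : ∀ c, M₁ r c = M r c := by
    intro c
    rw [hM₁a, if_neg (lt_irrefl r), sub_zero]
  have hM₁c : ∀ i, i ≠ r → M₁ i c₀ = 0 := by
    intro i hi
    rw [hM₁a]
    rcases lt_or_gt_of_ne hi with h | h
    · rw [if_pos h, ht]
      field_simp
      ring
    · rw [if_neg (not_lt.mpr h.le), sub_zero]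
      exact hr2 i h
  have hM₁old : ∀ i (c : Fin n), c.val < k → M₁ i c = M i c := by
    intro i c hc
    rw [hM₁a, hr3 c hc, mul_zero, ite_self, sub_zero]
  set s : Fin n → F := fun j => M r j / M r c₀ with hs
  set M₂ := M₁ * colOp c₀ s with hM₂
  have hM₂a : ∀ a j, M₂ a j = M₁ a j - (if c₀ < j then M₁ a c₀ * s j else 0) :=
    fun a j => mul_colOp_apply c₀ s M₁ a j
  have hM₂ne : ∀ a j, a ≠ r → M₂ a j = M₁ a j := by
    intro a j ha
    rw [hM₂a, hM₁c a ha, zero_mul, ite_self, sub_zero]
  have hM₂r : ∀ j, j ≠ c₀ → M₂ r j = 0 := by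
    intro j hj
    rw [hM₂a, hM₁r, hM₁r]
    rcases lt_or_gt_of_ne hj with h | h
    · rw [if_neg (not_lt.mpr h.le), sub_zero]
      apply hr3
      exact h
    · rw [if_pos h, hs]
      field_simp
      ring
  have hM₂rc : M₂ r c₀ = M r c₀ := by
    rw [hM₂a, if_neg (lt_irrefl c₀), sub_zero, hM₁r]
  refine ⟨M₂, ⟨rowOp r t, colOp c₀ s, rowOp_blockTriangular r t, colOp_blockTriangular c₀ s,
    by rw [rowOp_det]; exact one_ne_zero, by rw [colOp_det]; exact one_ne_zero, rfl⟩, ?_⟩
  intro c hc
  rcases Nat.lt_succ_iff_lt_or_eq.mp hc with hlt | heq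
  · -- an old column
    obtain ⟨rc, h1, h2, h3⟩ := hred c hlt
    have hrc : rc ≠ r := by
      rintro rfl
      exact h1 (hr3 c hlt)
    have hcc : ¬ c₀ < c := by
      rw [Fin.lt_def]
      simp only [hc₀]
      omega
    have hcne : c₀ ≠ c := by
      intro h
      rw [← h] at hlt
      simp [hc₀] at hlt
    have hold : ∀ a, M₂ a c = M a c := by
      intro a
      rw [hM₂a, if_neg hcc, sub_zero, hM₁old a c hlt]
    refine ⟨rc, ?_, ?_, ?_⟩
    · rw [hold]
      exact h1
    · intro a ha
      rw [hold]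
      exact h2 a ha
    · intro j hj
      rw [hM₂ne rc j hrc, hM₁a]
      have : t rc = 0 := by
        rw [ht]
        simp only
        rw [h3 c₀ hcne, zero_div]
      rw [this, zero_mul, ite_self, sub_zero]
      exact h3 j hj
  · -- the new column
    have hcc : c = c₀ := Fin.ext heq
    subst hcc
    refine ⟨r, ?_, ?_, hM₂r⟩
    · rw [hM₂rc]
      exact hr1
    · intro a ha
      rw [hM₂ne a c₀ ha]
      exact hM₁c a ha

theorem exists_red (M : Matrix (Fin n) (Fin n) F) (hM : M.det ≠ 0) (k : ℕ) (hk : k ≤ n) :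
    ∃ M', BRel M M' ∧ Red M' k := by
  induction k with
  | zero =>
    exact ⟨M, BRel.refl M, fun c hc => absurd hc (Nat.not_lt_zero _)⟩
  | succ k ih =>
    obtain ⟨M', h1, h2⟩ := ih (by omega)
    obtain ⟨M'', h3, h4⟩ := red_step M' (h1.det_ne_zero hM) k (by omega) h2
    exact ⟨M'', h1.trans h3, h4⟩

end

end Cfsg.Agent.Lib.Helper47
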