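import Mathlib
import Cfsg.Prelude.Def_LinearParabolics

set_option autoImplicit false

/-!
# Combinatorics of the block labelling of a composition
-/

namespace Cfsg.Agent.Lib.Helper47

open Finset

/-- a product over a finite set of a linear order of a function of the number of bigger elements -/
theorem prod_card_filter_lt {α M : Type*} [LinearOrder α] [CommMonoid M] (S : Finset α)
    (f : ℕ → M) :
    ∏ j ∈ S, f (S.filter fun i => j < i).card = ∏ r ∈ range S.card, f r := by
  classical
  refine Finset.induction_on_min S ?_ ?_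
  · simp
  · intro a s ha ih
    have hnot : a ∉ s := fun h => lt_irrefl a (ha a h)
    rw [prod_insert hnot, card_insert_of_notMem hnot, prod_range_succ, mul_comm]
    congr 1
    · rw [← ih]
      apply prod_congr rfl
      intro j hj
      congr 2
      rw [filter_insert, if_neg (not_lt.mpr (ha j hj).le)]
    · congr 2
      rw [filter_insert, if_neg (lt_irrefl a)]
      exact filter_true_of_mem ha

theorem card_filter_le_of_monotone {n : ℕ} (b : Fin n → ℕ) (hb : Monotone b) (j : Fin n) :
    (univ.filter fun i => b i ≤ b j).card =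
      (j : ℕ) + 1 + (univ.filter fun i => j < i ∧ b i = b j).card := by
  rw [← Fin.card_Iic, ← card_union_of_disjoint]
  · congr 1
    ext i
    simp only [mem_filter, mem_univ, true_and, mem_union, mem_Iic]
    constructor
    · intro h
      rcases le_or_gt i j with hij | hij
      · exact Or.inl hij
      · exact Or.inr ⟨hij, le_antisymm h (hb hij.le)⟩
    · rintro (h | ⟨_, h⟩)
      · exact hb h
      · exact h.le
  · rw [disjoint_left]
    intro i hi hi'
    rw [mem_Iic] at hi
    rw [mem_filter] at hi'
    exact absurd hi'.2.1 (not_lt.mpr hi)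

theorem prod_fiber_count {n : ℕ} {M : Type*} [CommMonoid M] (b : Fin n → ℕ) (N : ℕ)
    (hN : ∀ i, b i < N) (f : ℕ → M) :
    ∏ j : Fin n, f (univ.filter fun i => j < i ∧ b i = b j).card =
      ∏ k ∈ range N, ∏ r ∈ range (univ.filter fun i => b i = k).card, f r := by
  rw [← prod_fiberwise_of_maps_to (g := b) (t := range N) (fun i _ => mem_range.mpr (hN i))]
  apply prod_congr rfl
  intro k _
  rw [← prod_card_filter_lt]
  apply prod_congr rfl
  intro j hj
  rw [mem_filter] at hj
  congr 2
  ext i
  simp only [mem_filter, mem_univ, true_and, hj.2]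
  tauto

section
variable {n : ℕ} (μ : Fin n → ℕ)

/-- partial sums of a composition -/
def psum (m : ℕ) : ℕ := ∑ k : Fin n with k.val < m, μ k

theorem psum_zero : psum μ 0 = 0 := by
  unfold psum
  apply sum_eq_zero
  intro k hk
  rw [mem_filter] at hk
  exact absurd hk.2 (Nat.not_lt_zero _)

theorem psum_succ (k : Fin n) : psum μ (k + 1) = psum μ k + μ k := by
  unfold psum
  have h : (univ.filter fun j : Fin n => j.val < (k : ℕ) + 1) =
      insert k (univ.filter fun j : Fin n => j.val < (k : ℕ)) := by
    ext j
    simp only [mem_filter, mem_univ, true_and, mem_insert]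
    rw [Nat.lt_succ_iff_lt_or_eq, Fin.ext_iff]
    tauto
  rw [h, sum_insert, add_comm]
  simp

theorem psum_mono : Monotone (psum μ) := by
  intro a b hab
  unfold psum
  apply sum_le_sum_of_subset
  intro j hj
  rw [mem_filter] at hj ⊢
  exact ⟨hj.1, lt_of_lt_of_le hj.2 hab⟩

theorem psum_le_sum (m : ℕ) : psum μ m ≤ ∑ i, μ i := by
  unfold psum
  exact sum_le_sum_of_subset (filter_subset _ _)

theorem psum_eq (k : Fin n) : ∑ j ∈ univ.filter (fun j : Fin n => j ≤ k), μ j = psum μ (k + 1) := by
  unfold psum
  congr 1
  ext j
  simp only [mem_filter, mem_univ, true_and]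
  rw [Nat.lt_succ_iff, Fin.le_def]

theorem lowerSet_mem_iff (T : Finset (Fin n)) (hT : ∀ a b, a ≤ b → b ∈ T → a ∈ T)
    (k : Fin n) : k ∈ T ↔ k.val < T.card := by
  constructor
  · intro hk
    have h1 : Iic k ⊆ T := fun a ha => hT a k (mem_Iic.mp ha) hk
    have h2 := card_le_card h1
    rw [Fin.card_Iic] at h2
    omega
  · intro hk
    by_contra hnot
    have h1 : T ⊆ Iio k := by
      intro a ha
      rw [mem_Iio]
      by_contra hle
      exact hnot (hT k a (not_lt.mp hle) ha)
    have h2 := card_le_card h1
    rw [Fin.card_Iio] at h2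
    omega

theorem compLabel_le_iff (i k : Fin n) :
    Cfsg.compLabel μ i ≤ k ↔ i.val < psum μ (k + 1) := by
  unfold Cfsg.compLabel
  have h := lowerSet_mem_iff
    (univ.filter fun j : Fin n => (∑ k ∈ univ.filter (fun k : Fin n => k ≤ j), μ k) ≤ i.val)
    (by
      intro a b hab hb
      rw [mem_filter] at hb ⊢
      refine ⟨mem_univ _, le_trans ?_ hb.2⟩
      rw [psum_eq, psum_eq]
      exact psum_mono μ (by rw [Fin.le_def] at hab; omega)) k
  rw [mem_filter, psum_eq] at h
  simp only [mem_univ, true_and] at h
  rw [← not_lt, ← h, not_le]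

theorem compLabel_monotone : Monotone (Cfsg.compLabel μ) := by
  intro i i' hii'
  unfold Cfsg.compLabel
  apply card_le_card
  intro j hj
  rw [mem_filter] at hj ⊢
  exact ⟨hj.1, le_trans hj.2 (by rw [Fin.le_def] at hii'; exact hii')⟩

theorem compLabel_lt (hμ : ∑ i, μ i = n) (i : Fin n) : Cfsg.compLabel μ i < n := by
  have hn : 0 < n := i.pos
  have h := (compLabel_le_iff μ i ⟨n - 1, by omega⟩).mpr (by
    have h1 : psum μ (n - 1 + 1) = ∑ i, μ i := by
      unfold psum
      congr 1
      ext j
      simp only [mem_filter, mem_univ, true_and, iff_true]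
      omega
    simp only
    rw [h1, hμ]
    exact i.isLt)
  simp only at h
  omega

theorem card_compLabel_lt (hμ : ∑ i, μ i = n) (m : ℕ) (hm : m ≤ n) :
    (univ.filter fun i : Fin n => Cfsg.compLabel μ i < m).card = psum μ m := by
  rcases Nat.eq_zero_or_pos m with rfl | hpos
  · rw [psum_zero]
    simp
  · have hk : m - 1 < n := by omega
    have h1 : (univ.filter fun i : Fin n => Cfsg.compLabel μ i < m) =
        univ.filter fun i : Fin n => i.val < psum μ m := by
      ext i
      simp only [mem_filter, mem_univ, true_and]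
      have h := compLabel_le_iff μ i ⟨m - 1, hk⟩
      simp only at h
      rw [show m - 1 + 1 = m by omega] at h
      rw [← h]
      omega
    rw [h1, Fin.card_filter_val_lt]
    have := psum_le_sum μ m
    omega

theorem card_compLabel_eq (hμ : ∑ i, μ i = n) (k : Fin n) :
    (univ.filter fun i : Fin n => Cfsg.compLabel μ i = k).card = μ k := by
  have h1 := card_compLabel_lt μ hμ (k + 1) (by omega)
  have h2 := card_compLabel_lt μ hμ k (by omega)
  have h3 : (univ.filter fun i : Fin n => Cfsg.compLabel μ i < (k : ℕ) + 1) =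
      (univ.filter fun i : Fin n => Cfsg.compLabel μ i < (k : ℕ)) ∪
        (univ.filter fun i : Fin n => Cfsg.compLabel μ i = k) := by
    ext i
    simp only [mem_filter, mem_univ, true_and, mem_union]
    omega
  have h4 : Disjoint (univ.filter fun i : Fin n => Cfsg.compLabel μ i < (k : ℕ))
      (univ.filter fun i : Fin n => Cfsg.compLabel μ i = k) := by
    rw [disjoint_left]
    intro i hi hi'
    rw [mem_filter] at hi hi'
    omega
  rw [h3, card_union_of_disjoint h4, h2, psum_succ] at h1
  omega

end

end Cfsg.Agent.Lib.Helper47
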