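import Mathlib
import Cfsg.Prelude.Def_LinearParabolics

set_option autoImplicit false

/-!
# Tables of a permutation with respect to two labellings, and Young double cosets
-/

namespace Cfsg.Agent.Lib.Helper47

open Finset

/-- two functions with equinumerous fibres differ by a permutation of the source -/
theorem exists_perm_comp_eq {X K : Type*} [Fintype X] [DecidableEq K] (f f' : X → K)
    (h : ∀ k, (univ.filter fun x => f x = k).card = (univ.filter fun x => f' x = k).card) :
    ∃ β : Equiv.Perm X, ∀ x, f (β x) = f' x := by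
  classical
  have hc : ∀ k, Fintype.card {x // f' x = k} = Fintype.card {x // f x = k} := by
    intro k
    rw [Fintype.card_subtype, Fintype.card_subtype, h k]
  let e : ∀ k, {x // f' x = k} ≃ {x // f x = k} := fun k => Fintype.equivOfCardEq (hc k)
  refine ⟨(Equiv.sigmaFiberEquiv f').symm.trans ((Equiv.sigmaCongrRight e).trans
    (Equiv.sigmaFiberEquiv f)), ?_⟩
  intro x
  simp only [Equiv.trans_apply, Equiv.sigmaFiberEquiv, Equiv.coe_fn_symm_mk, Equiv.coe_fn_mk,
    Equiv.sigmaCongrRight_apply]
  exact (e (f' x) ⟨x, rfl⟩).2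

theorem perm_apply_inv {X : Type*} (β : Equiv.Perm X) (c : X) : β (β⁻¹ c) = c :=
  β.apply_symm_apply c

theorem perm_inv_apply {X : Type*} (β : Equiv.Perm X) (c : X) : β⁻¹ (β c) = c :=
  β.symm_apply_apply c

section
variable {n : ℕ}

/-- the table of a permutation with respect to a row labelling `b` and a column labelling `b'` -/
def permTable (b b' : Fin n → ℕ) (σ : Equiv.Perm (Fin n)) : ℕ × ℕ → ℕ :=
  fun ij => (univ.filter fun c : Fin n => b (σ c) = ij.1 ∧ b' c = ij.2).card

theorem permTable_mul (b b' : Fin n → ℕ) (α σ β : Equiv.Perm (Fin n))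
    (hα : ∀ x, b (α x) = b x) (hβ : ∀ x, b' (β x) = b' x) :
    permTable b b' (α * σ * β) = permTable b b' σ := by
  funext ij
  unfold permTable
  apply card_bij (fun c _ => β c)
  · intro c hc
    rw [mem_filter] at hc ⊢
    refine ⟨mem_univ _, ?_, ?_⟩
    · rw [← hc.2.1]
      simp only [Equiv.Perm.coe_mul, Function.comp_apply]
      exact (hα _).symm
    · rw [hβ]
      exact hc.2.2
  · intro c _ c' _ h
    exact β.injective h
  · intro c hc
    rw [mem_filter] at hc
    refine ⟨β⁻¹ c, ?_, perm_apply_inv β c⟩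
    rw [mem_filter]
    refine ⟨mem_univ _, ?_, ?_⟩
    · simp only [Equiv.Perm.coe_mul, Function.comp_apply]
      rw [hα, perm_apply_inv]
      exact hc.2.1
    · have := hβ (β⁻¹ c)
      rw [perm_apply_inv] at this
      rw [← this]
      exact hc.2.2

theorem exists_of_permTable_eq (b b' : Fin n → ℕ) (σ τ : Equiv.Perm (Fin n))
    (h : permTable b b' σ = permTable b b' τ) :
    ∃ α β : Equiv.Perm (Fin n), (∀ x, b (α x) = b x) ∧ (∀ x, b' (β x) = b' x) ∧
      τ = α * σ * β := by
  classical
  obtain ⟨β, hβ⟩ := exists_perm_comp_eq (fun c : Fin n => (b (σ c), b' c))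
    (fun c : Fin n => (b (τ c), b' c)) (by
      intro k
      have := congrFun h k
      unfold permTable at this
      simp only [Prod.ext_iff]
      exact this)
  simp only [Prod.mk.injEq] at hβ
  refine ⟨τ * β⁻¹ * σ⁻¹, β, ?_, fun x => (hβ x).2, ?_⟩
  · intro x
    have h1 := (hβ (β⁻¹ (σ⁻¹ x))).1
    rw [perm_apply_inv, perm_apply_inv] at h1
    simp only [Equiv.Perm.coe_mul, Function.comp_apply]
    rw [← h1]
  · group

end

end Cfsg.Agent.Lib.Helper47
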