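import Mathlib
import Cfsg.Prelude.Def_LinearParabolics
import Cfsg.Agent.Lib.Helper47.YoungTable
import Cfsg.Agent.Lib.Helper47.PermCharInner
import Cfsg.Agent.Lib.Helper47.CompLabel

set_option autoImplicit false

/-!
# Permutation matrices in `GL_n` and the invariants of parabolic double cosets
-/

namespace Cfsg.Agent.Lib.Helper47

open Finset
open scoped MatrixGroups

section cumulative

/-- cumulative counts determine exact counts -/
theorem card_filter_eq_of_le {α : Type*} [DecidableEq α] (S S' : Finset α) (Z Z' : α → ℕ)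
    (h : ∀ t, (S.filter fun c => Z c ≤ t).card = (S'.filter fun c => Z' c ≤ t).card) (j : ℕ) :
    (S.filter fun c => Z c = j).card = (S'.filter fun c => Z' c = j).card := by
  have hsplit : ∀ (S : Finset α) (Z : α → ℕ) (j : ℕ),
      (S.filter fun c => Z c ≤ j + 1).card =
        (S.filter fun c => Z c ≤ j).card + (S.filter fun c => Z c = j + 1).card := by
    intro S Z j
    rw [← card_union_of_disjoint]
    · congr 1
      ext c
      simp only [mem_filter, mem_union]
      constructor
      · rintro ⟨hc, hle⟩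
        rcases Nat.lt_or_ge (Z c) (j + 1) with h1 | h1
        · exact Or.inl ⟨hc, by omega⟩
        · exact Or.inr ⟨hc, by omega⟩
      · rintro (⟨hc, hle⟩ | ⟨hc, hle⟩)
        · exact ⟨hc, by omega⟩
        · exact ⟨hc, by omega⟩
    · rw [disjoint_left]
      intro c hc hc'
      rw [mem_filter] at hc hc'
      omega
  rcases j with _ | j
  · have h0 := h 0
    simp only [Nat.le_zero] at h0
    exact h0
  · have h1 := hsplit S Z j
    have h2 := hsplit S' Z' j
    have h3 := h j
    have h4 := h (j + 1)
    omega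

end cumulative

section perm
variable {n : ℕ} (F : Type*) [Field F]

/-- the permutation matrix sending the basis vector `e_c` to `e_{σ c}` -/
def permMat (σ : Equiv.Perm (Fin n)) : Matrix (Fin n) (Fin n) F :=
  fun r c => if r = σ c then 1 else 0

theorem permMat_apply (σ : Equiv.Perm (Fin n)) (r c : Fin n) :
    permMat F σ r c = if r = σ c then 1 else 0 := rfl

theorem permMat_mul (σ τ : Equiv.Perm (Fin n)) :
    permMat F (σ * τ) = permMat F σ * permMat F τ := by
  ext r c
  rw [Matrix.mul_apply, permMat_apply]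
  simp only [permMat_apply]
  rw [Finset.sum_eq_single (τ c)]
  · rw [if_pos rfl, mul_one]
    rfl
  · intro k _ hk
    rw [if_neg hk, mul_zero]
  · intro h
    exact absurd (mem_univ _) h

theorem permMat_one : permMat F (1 : Equiv.Perm (Fin n)) = 1 := by
  ext r c
  rw [permMat_apply, Matrix.one_apply]
  rfl

theorem permMat_mulVec (σ : Equiv.Perm (Fin n)) (v : Fin n → F) (r : Fin n) :
    (permMat F σ).mulVec v r = v (σ⁻¹ r) := by
  rw [Matrix.mulVec, dotProduct]
  simp only [permMat_apply]
  rw [Finset.sum_eq_single (σ⁻¹ r)]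
  · rw [perm_apply_inv, if_pos rfl, one_mul]
  · intro k _ hk
    rw [if_neg, zero_mul]
    intro h
    apply hk
    rw [h, perm_inv_apply]
  · intro h
    exact absurd (mem_univ _) h

/-- permutation matrices as a homomorphism into `GL_n` -/
def permGL : Equiv.Perm (Fin n) →* GL (Fin n) F where
  toFun σ := ⟨permMat F σ, permMat F σ⁻¹, by rw [← permMat_mul, mul_inv_cancel, permMat_one],
    by rw [← permMat_mul, inv_mul_cancel, permMat_one]⟩
  map_one' := by
    apply Units.ext
    exact permMat_one F
  map_mul' σ τ := by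
    apply Units.ext
    exact permMat_mul F σ τ

theorem permGL_coe (σ : Equiv.Perm (Fin n)) :
    ((permGL F σ : GL (Fin n) F) : Matrix (Fin n) (Fin n) F) = permMat F σ := rfl

theorem permGL_mem_parabolic (μ : Fin n → ℕ) (σ : Equiv.Perm (Fin n))
    (hσ : σ ∈ Cfsg.youngSubgroup μ) : permGL F σ ∈ Cfsg.parabolicGL n F μ := by
  change (permMat F σ).BlockTriangular (Cfsg.compLabel μ)
  intro r c hrc
  rw [permMat_apply, if_neg]
  rintro rfl
  have := hσ c
  omega

theorem upperTriangular_le_parabolic (μ : Fin n → ℕ) :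
    Cfsg.upperTriangularGL n F ≤ Cfsg.parabolicGL n F μ := by
  intro g hg
  change (g : Matrix (Fin n) (Fin n) F).BlockTriangular (Cfsg.compLabel μ)
  change (g : Matrix (Fin n) (Fin n) F).BlockTriangular id at hg
  intro r c hrc
  apply hg
  change c < r
  by_contra hle
  have := compLabel_monotone μ (not_lt.mp hle)
  omega

end perm

section invariant
variable {n : ℕ} {F : Type*} [Field F]

/-- the set whose cardinality is the invariant of a double coset -/
def invSet (b b' : Fin n → ℕ) (M : Matrix (Fin n) (Fin n) F) (s t : ℕ) : Set (Fin n → F) :=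
  {v | (∀ c, t < b' c → v c = 0) ∧ (∀ r, s < b r → M.mulVec v r = 0)}

theorem blockTriangular_preserve (b : Fin n → ℕ) {p : Matrix (Fin n) (Fin n) F}
    (hp : p.BlockTriangular b) (s : ℕ) (u : Fin n → F) (hu : ∀ r, s < b r → u r = 0) :
    ∀ r, s < b r → p.mulVec u r = 0 := by
  intro r hr
  rw [Matrix.mulVec, dotProduct]
  apply Finset.sum_eq_zero
  intro c _
  by_cases hc : b c < b r
  · rw [hp hc, zero_mul]
  · rw [hu c (by omega), mul_zero]

theorem card_invSet_mul (b b' : Fin n → ℕ) (g p p' : GL (Fin n) F)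
    (hp : (p : Matrix (Fin n) (Fin n) F).BlockTriangular b)
    (hpi : ((p⁻¹ : GL (Fin n) F) : Matrix (Fin n) (Fin n) F).BlockTriangular b)
    (hp' : (p' : Matrix (Fin n) (Fin n) F).BlockTriangular b')
    (hpi' : ((p'⁻¹ : GL (Fin n) F) : Matrix (Fin n) (Fin n) F).BlockTriangular b') (s t : ℕ) :
    Nat.card (invSet b b' ((p * g * p' : GL (Fin n) F) : Matrix (Fin n) (Fin n) F) s t) =
      Nat.card (invSet b b' (g : Matrix (Fin n) (Fin n) F) s t) := by
  apply Nat.card_congr
  refine
    { toFun := fun v => ⟨(p' : Matrix (Fin n) (Fin n) F).mulVec v.1, ?_⟩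
      invFun := fun w => ⟨((p'⁻¹ : GL (Fin n) F) : Matrix (Fin n) (Fin n) F).mulVec w.1, ?_⟩
      left_inv := ?_
      right_inv := ?_ }
  · obtain ⟨v, hv1, hv2⟩ := v
    refine ⟨blockTriangular_preserve b' hp' t v hv1, ?_⟩
    have h1 : (g : Matrix (Fin n) (Fin n) F).mulVec ((p' : Matrix (Fin n) (Fin n) F).mulVec v) =
        ((p⁻¹ : GL (Fin n) F) : Matrix (Fin n) (Fin n) F).mulVec
          (((p * g * p' : GL (Fin n) F) : Matrix (Fin n) (Fin n) F).mulVec v) := by
      simp only [Matrix.mulVec_mulVec, ← Units.val_mul]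
      congr 2
      group
    rw [h1]
    exact blockTriangular_preserve b hpi s _ hv2
  · obtain ⟨w, hw1, hw2⟩ := w
    refine ⟨blockTriangular_preserve b' hpi' t w hw1, ?_⟩
    have h1 : ((p * g * p' : GL (Fin n) F) : Matrix (Fin n) (Fin n) F).mulVec
        (((p'⁻¹ : GL (Fin n) F) : Matrix (Fin n) (Fin n) F).mulVec w) =
        (p : Matrix (Fin n) (Fin n) F).mulVec ((g : Matrix (Fin n) (Fin n) F).mulVec w) := by
      simp only [Matrix.mulVec_mulVec, ← Units.val_mul]
      congr 2
      group
    rw [h1]
    exact blockTriangular_preserve b hp s _ hw2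
  · intro v
    apply Subtype.ext
    simp only [Matrix.mulVec_mulVec, ← Units.val_mul, inv_mul_cancel, Units.val_one,
      Matrix.one_mulVec]
  · intro w
    apply Subtype.ext
    simp only [Matrix.mulVec_mulVec, ← Units.val_mul, mul_inv_cancel, Units.val_one,
      Matrix.one_mulVec]

/-- vectors supported on a set of coordinates -/
def coordEquiv (S : Fin n → Prop) [DecidablePred S] :
    {v : Fin n → F // ∀ c, ¬ S c → v c = 0} ≃ ({c : Fin n // S c} → F) where
  toFun v c := v.1 c.1
  invFun f := ⟨fun c => if h : S c then f ⟨c, h⟩ else 0, fun c hc => dif_neg hc⟩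
  left_inv v := by
    apply Subtype.ext
    funext c
    by_cases h : S c
    · simp only [dif_pos h]
    · simp only [dif_neg h]
      exact (v.2 c h).symm
  right_inv f := by
    funext c
    obtain ⟨c, hc⟩ := c
    simp only [dif_pos hc]

theorem card_coordSet [Fintype F] (S : Fin n → Prop) [DecidablePred S] :
    Nat.card {v : Fin n → F // ∀ c, ¬ S c → v c = 0} =
      Fintype.card F ^ (univ.filter S).card := by
  rw [Nat.card_congr (coordEquiv S), Nat.card_fun, Nat.card_eq_fintype_card,
    Nat.card_eq_fintype_card, Fintype.card_subtype]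

theorem invSet_permMat (b b' : Fin n → ℕ) (σ : Equiv.Perm (Fin n)) (s t : ℕ) :
    invSet b b' (permMat F σ) s t = {v | ∀ c, ¬ (b' c ≤ t ∧ b (σ c) ≤ s) → v c = 0} := by
  ext v
  constructor
  · rintro ⟨h1, h2⟩ c hc
    by_cases ht : t < b' c
    · exact h1 c ht
    · have hs : s < b (σ c) := by
        by_contra hle
        exact hc ⟨by omega, by omega⟩
      have := h2 (σ c) hs
      rw [permMat_mulVec, perm_inv_apply] at this
      exact this
  · intro h
    refine ⟨fun c hc => h c (fun hcc => by omega), fun r hr => ?_⟩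
    rw [permMat_mulVec]
    apply h
    rw [perm_apply_inv]
    intro hcc
    omega

theorem card_invSet_permMat [Fintype F] (b b' : Fin n → ℕ) (σ : Equiv.Perm (Fin n)) (s t : ℕ) :
    Nat.card (invSet b b' (permMat F σ) s t) =
      Fintype.card F ^ (univ.filter fun c : Fin n => b' c ≤ t ∧ b (σ c) ≤ s).card := by
  rw [invSet_permMat]
  exact card_coordSet (fun c : Fin n => b' c ≤ t ∧ b (σ c) ≤ s)

theorem permTable_eq_of_dcRel [Fintype F] (μ μ' : Fin n → ℕ) (σ τ : Equiv.Perm (Fin n))
    (h : dcRel (Cfsg.parabolicGL n F μ) (Cfsg.parabolicGL n F μ') (permGL F σ) (permGL F τ)) :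
    permTable (Cfsg.compLabel μ) (Cfsg.compLabel μ') σ =
      permTable (Cfsg.compLabel μ) (Cfsg.compLabel μ') τ := by
  classical
  obtain ⟨p, hp, p', hp', hτ⟩ := h
  have hq : 1 < Fintype.card F := Fintype.one_lt_card
  have hD : ∀ s t : ℕ,
      (univ.filter fun c : Fin n => Cfsg.compLabel μ' c ≤ t ∧ Cfsg.compLabel μ (σ c) ≤ s).card =
      (univ.filter fun c : Fin n => Cfsg.compLabel μ' c ≤ t ∧ Cfsg.compLabel μ (τ c) ≤ s).card := by
    intro s t
    have h1 := card_invSet_mul (Cfsg.compLabel μ) (Cfsg.compLabel μ') (permGL F σ) p p' hp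
      ((Cfsg.parabolicGL n F μ).inv_mem hp) hp' ((Cfsg.parabolicGL n F μ').inv_mem hp') s t
    rw [← hτ, permGL_coe, permGL_coe, card_invSet_permMat, card_invSet_permMat] at h1
    exact (Nat.pow_right_injective hq h1).symm
  funext ij
  obtain ⟨i, j⟩ := ij
  unfold permTable
  simp only
  -- first in the column-label direction
  have hE : ∀ s : ℕ,
      (univ.filter fun c : Fin n => Cfsg.compLabel μ (σ c) ≤ s ∧ Cfsg.compLabel μ' c = j).card =
      (univ.filter fun c : Fin n => Cfsg.compLabel μ (τ c) ≤ s ∧ Cfsg.compLabel μ' c = j).card := by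
    intro s
    have := card_filter_eq_of_le (univ.filter fun c : Fin n => Cfsg.compLabel μ (σ c) ≤ s)
      (univ.filter fun c : Fin n => Cfsg.compLabel μ (τ c) ≤ s) (Cfsg.compLabel μ')
      (Cfsg.compLabel μ') (by
        intro t
        rw [filter_filter, filter_filter]
        have := hD s t
        simp only [and_comm] at this ⊢
        exact this) j
    rw [filter_filter, filter_filter] at this
    exact this
  have := card_filter_eq_of_le (univ.filter fun c : Fin n => Cfsg.compLabel μ' c = j)
    (univ.filter fun c : Fin n => Cfsg.compLabel μ' c = j) (fun c => Cfsg.compLabel μ (σ c))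
    (fun c => Cfsg.compLabel μ (τ c)) (by
      intro s
      rw [filter_filter, filter_filter]
      have := hE s
      simp only [and_comm] at this ⊢
      exact this) i
  rw [filter_filter, filter_filter] at this
  simp only [and_comm] at this ⊢
  exact this

end invariant

end Cfsg.Agent.Lib.Helper47
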