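import Mathlib
import Cfsg.Agent.Lib.Helper47.BruhatExists
import Cfsg.Agent.Lib.Helper47.ParabolicInvariant

set_option autoImplicit false

/-!
# Existence in the Bruhat decomposition of `GL_n`: every element lies in some `B w B`
-/

namespace Cfsg.Agent.Lib.Helper47

open Finset
open scoped MatrixGroups

section
variable {n : ℕ} {F : Type*} [Field F]

theorem exists_perm_of_red (M : Matrix (Fin n) (Fin n) F) (hred : Red M n) :
    ∃ σ : Equiv.Perm (Fin n), ∃ d : Fin n → F, (∀ c, d c ≠ 0) ∧
      ∀ r c, M r c = if r = σ c then d c else 0 := by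
  classical
  choose ρ h1 h2 h3 using fun c : Fin n => hred c c.isLt
  have hinj : Function.Injective ρ := by
    intro c c' hcc
    by_contra hne
    apply h1 c'
    rw [← hcc]
    exact h3 c c' (Ne.symm hne)
  refine ⟨Equiv.ofBijective ρ (Finite.injective_iff_bijective.mp hinj), fun c => M (ρ c) c,
    h1, ?_⟩
  intro r c
  rw [Equiv.ofBijective_apply]
  by_cases hr : r = ρ c
  · rw [if_pos hr, hr]
  · rw [if_neg hr]
    exact h2 c r hr

theorem bruhat_exists (g : GL (Fin n) F) :
    ∃ σ : Equiv.Perm (Fin n),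
      dcRel (Cfsg.upperTriangularGL n F) (Cfsg.upperTriangularGL n F) (permGL F σ) g := by
  classical
  have hg : (g : Matrix (Fin n) (Fin n) F).det ≠ 0 := by
    have := (Matrix.isUnit_iff_isUnit_det _).mp g.isUnit
    exact this.ne_zero
  obtain ⟨M', ⟨u, u', hu, hu', hd, hd', hM'⟩, hred⟩ := exists_red (g : Matrix (Fin n) (Fin n) F) hg n le_rfl
  obtain ⟨σ, d, hd0, hσ⟩ := exists_perm_of_red M' hred
  have hdd : (Matrix.diagonal d).det ≠ 0 := by
    rw [Matrix.det_diagonal]
    exact Finset.prod_ne_zero_iff.mpr (fun c _ => hd0 c)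
  set U : GL (Fin n) F := Matrix.GeneralLinearGroup.mkOfDetNeZero u hd with hU
  set U' : GL (Fin n) F := Matrix.GeneralLinearGroup.mkOfDetNeZero u' hd' with hU'
  set D : GL (Fin n) F := Matrix.GeneralLinearGroup.mkOfDetNeZero (Matrix.diagonal d) hdd with hD
  have hUc : (U : Matrix (Fin n) (Fin n) F) = u := rfl
  have hUc' : (U' : Matrix (Fin n) (Fin n) F) = u' := rfl
  have hDc : (D : Matrix (Fin n) (Fin n) F) = Matrix.diagonal d := rfl
  have hUB : U ∈ Cfsg.upperTriangularGL n F := hu
  have hUB' : U' ∈ Cfsg.upperTriangularGL n F := hu'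
  have hDB : D ∈ Cfsg.upperTriangularGL n F := by
    change (Matrix.diagonal d).BlockTriangular id
    exact Matrix.blockTriangular_diagonal d
  have hkey : U * g * U' = permGL F σ * D := by
    apply Units.ext
    rw [Units.val_mul, Units.val_mul, Units.val_mul, hUc, hUc', hDc, permGL_coe, ← hM']
    ext r c
    rw [hσ, Matrix.mul_diagonal, permMat_apply]
    split_ifs <;> simp
  refine ⟨σ, U⁻¹, (Cfsg.upperTriangularGL n F).inv_mem hUB, D * U'⁻¹,
    (Cfsg.upperTriangularGL n F).mul_mem hDB ((Cfsg.upperTriangularGL n F).inv_mem hUB'), ?_⟩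
  have : g = U⁻¹ * (U * g * U') * U'⁻¹ := by group
  rw [this, hkey]
  group

/-- every element of `GL_n` lies in a double coset `P_μ w P_μ'` of a permutation matrix -/
theorem parabolic_dc_exists (μ μ' : Fin n → ℕ) (g : GL (Fin n) F) :
    ∃ σ : Equiv.Perm (Fin n),
      dcRel (Cfsg.parabolicGL n F μ) (Cfsg.parabolicGL n F μ') (permGL F σ) g := by
  obtain ⟨σ, p, hp, p', hp', h⟩ := bruhat_exists g
  exact ⟨σ, p, upperTriangular_le_parabolic F μ hp, p', upperTriangular_le_parabolic F μ' hp', h⟩

end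

end Cfsg.Agent.Lib.Helper47
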