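import Mathlib

set_option autoImplicit false

/-!
# Products of two conjugates in `SL₃`: basic block calculus

`blk a b c D` is the `3 × 3` matrix with `(1 + 2)`-block decomposition `[[a, b], [c, D]]`.
-/

namespace Cfsg.Agent.Lib.Helper47.ClassSq

open Matrix

variable {F : Type*} [Field F]

/-- A square matrix which is not a scalar multiple of the identity. -/
def NonScalar {n : Type*} [Fintype n] [DecidableEq n] (N : Matrix n n F) : Prop :=
  ∀ c : F, N ≠ c • (1 : Matrix n n F)

theorem exists_indep {n : Type*} [Fintype n] [DecidableEq n] {N : Matrix n n F}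
    (hN : NonScalar N) : ∃ v : n → F, LinearIndependent F ![v, N *ᵥ v] := by
  by_contra hcon
  push_neg at hcon
  obtain ⟨a, ha⟩ := LinearMap.exists_eq_smul_id_of_forall_notLinearIndependent
    (f := Matrix.toLin' N) (by intro v; simpa using hcon v)
  apply hN a
  have h2 := congrArg LinearMap.toMatrix' ha
  simpa using h2

theorem NonScalar.conj {n : Type*} [Fintype n] [DecidableEq n] {N Q Q' : Matrix n n F}
    (hN : NonScalar N) (h1 : Q * Q' = 1) : NonScalar (Q' * N * Q) := by
  intro c hc
  have h2 : Q' * Q = 1 := mul_eq_one_comm.mp h1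
  apply hN c
  calc N = (Q * Q') * N * (Q * Q') := by rw [h1]; simp
    _ = Q * (Q' * N * Q) * Q' := by simp only [Matrix.mul_assoc]
    _ = c • (1 : Matrix n n F) := by
      rw [hc]
      simp [h1]

/-- The `3 × 3` block matrix `[[a, b], [c, D]]`. -/
def blk (a : F) (b c : Fin 2 → F) (D : Matrix (Fin 2) (Fin 2) F) : Matrix (Fin 3) (Fin 3) F :=
  !![a, b 0, b 1; c 0, D 0 0, D 0 1; c 1, D 1 0, D 1 1]

theorem blk_mul (a a' : F) (b b' c c' : Fin 2 → F) (D D' : Matrix (Fin 2) (Fin 2) F) :
    blk a b c D * blk a' b' c' D' =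
      blk (a * a' + b ⬝ᵥ c') (a • b' + b ᵥ* D') (a' • c + D *ᵥ c') (vecMulVec c b' + D * D') := by
  ext i j
  fin_cases i <;> fin_cases j <;>
    simp [blk, Matrix.mul_apply, Fin.sum_univ_three, Fin.sum_univ_two, dotProduct, vecMul,
      mulVec, vecMulVec_apply] <;> ring

theorem det_blk (a : F) (b c : Fin 2 → F) (D : Matrix (Fin 2) (Fin 2) F) :
    (blk a b c D).det = a * D.det - (b ⬝ᵥ (D.adjugate *ᵥ c)) := by
  simp [blk, Matrix.det_fin_three, Matrix.det_fin_two, dotProduct, mulVec, Fin.sum_univ_two,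
    Matrix.adjugate_fin_two]
  ring

theorem det_blk_zero_left (a : F) (b : Fin 2 → F) (D : Matrix (Fin 2) (Fin 2) F) :
    (blk a b 0 D).det = a * D.det := by
  simp [blk, Matrix.det_fin_three, Matrix.det_fin_two]
  ring

theorem det_blk_zero_right (a : F) (c : Fin 2 → F) (D : Matrix (Fin 2) (Fin 2) F) :
    (blk a 0 c D).det = a * D.det := by
  simp [blk, Matrix.det_fin_three, Matrix.det_fin_two]
  ring

theorem blk_one : blk (1 : F) 0 0 1 = 1 := by
  ext i j
  fin_cases i <;> fin_cases j <;> simp [blk]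

theorem eq_blk (M : Matrix (Fin 3) (Fin 3) F) :
    M = blk (M 0 0) ![M 0 1, M 0 2] ![M 1 0, M 2 0] !![M 1 1, M 1 2; M 2 1, M 2 2] := by
  ext i j
  fin_cases i <;> fin_cases j <;> simp [blk]

/-- Schur complement determinant, special case of top-left entry `1`. -/
theorem det_blk_one (b c : Fin 2 → F) (D : Matrix (Fin 2) (Fin 2) F) :
    (blk 1 b c D).det = (D - vecMulVec c b).det := by
  simp [blk, Matrix.det_fin_three, Matrix.det_fin_two, vecMulVec_apply]
  ring

end Cfsg.Agent.Lib.Helper47.ClassSq
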