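import Mathlib
import Cfsg.Agent.Lib.Helper47.ClassSqBasic

set_option autoImplicit false

/-!
# `2 × 2` lemmas for products of two conjugates
-/

namespace Cfsg.Agent.Lib.Helper47.ClassSq

open Matrix

variable {F : Type*} [Field F]

theorem indep_sub_smul {V : Type*} [AddCommGroup V] [Module F V] {v w : V} (h : F)
    (hvw : LinearIndependent F ![v, w]) : LinearIndependent F ![v, w - h • v] := by
  rw [LinearIndependent.pair_iff] at hvw ⊢
  intro s t hst
  have h3 := hvw (s - t * h) t (by rw [← hst]; simp only [sub_smul, smul_sub, mul_smul]; abel)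
  obtain ⟨h1, h2⟩ := h3
  subst h2
  simp only [zero_mul, sub_zero] at h1
  exact ⟨h1, rfl⟩

/-- A nonscalar `2 × 2` matrix is conjugate to a matrix with first column `(h, 1)`. -/
theorem exists_conj_first_col {N : Matrix (Fin 2) (Fin 2) F} (hN : NonScalar N) (h : F) :
    ∃ Q Q' : Matrix (Fin 2) (Fin 2) F, Q * Q' = 1 ∧ ∃ y z : F, Q' * N * Q = !![h, y; 1, z] := by
  obtain ⟨v, hv⟩ := exists_indep hN
  have hvu := indep_sub_smul h hv
  set u := N *ᵥ v - h • v with hu
  let Q : Matrix (Fin 2) (Fin 2) F := (Matrix.of ![v, u])ᵀ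
  have hQ : IsUnit Q := by
    rw [Matrix.isUnit_transpose, ← Matrix.linearIndependent_rows_iff_isUnit]
    exact hvu
  have hdet : IsUnit Q.det := (Matrix.isUnit_iff_isUnit_det Q).mp hQ
  have h1 : Q * Q⁻¹ = 1 := Matrix.mul_nonsing_inv Q hdet
  refine ⟨Q, Q⁻¹, h1, ?_⟩
  set M := Q⁻¹ * N * Q with hM
  have hQM : Q * M = N * Q := by
    rw [hM]
    simp only [← Matrix.mul_assoc]
    rw [h1]
    simp
  have hQvec : ∀ x y : F, Q *ᵥ ![x, y] = x • v + y • u := by
    intro x y
    ext i
    simp [Q, mulVec, dotProduct, Fin.sum_univ_two]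
    ring
  have hcol : M *ᵥ ![1, 0] = ![h, 1] := by
    apply (Matrix.mulVec_injective_iff_isUnit.mpr hQ)
    show Q *ᵥ (M *ᵥ ![1, 0]) = Q *ᵥ ![h, 1]
    rw [Matrix.mulVec_mulVec, hQM, ← Matrix.mulVec_mulVec, hQvec, hQvec, hu]
    simp
  have h00 : M 0 0 = h := by
    have := congrFun hcol 0
    simpa [mulVec, dotProduct, Fin.sum_univ_two] using this
  have h10 : M 1 0 = 1 := by
    have := congrFun hcol 1
    simpa [mulVec, dotProduct, Fin.sum_univ_two] using this
  refine ⟨M 0 1, M 1 1, ?_⟩
  rw [← h00, ← h10]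
  exact Matrix.eta_fin_two M

/-- Two nonscalar `2 × 2` matrices with the same trace and determinant are conjugate. -/
theorem exists_conj_of_trace_det {B M0 : Matrix (Fin 2) (Fin 2) F} (hB : NonScalar B)
    (hM : NonScalar M0) (htr : B.trace = M0.trace) (hdet : B.det = M0.det) :
    ∃ Q Q' : Matrix (Fin 2) (Fin 2) F, Q * Q' = 1 ∧ B = Q * M0 * Q' := by
  obtain ⟨Q1, Q1', h1, y1, z1, e1⟩ := exists_conj_first_col hB 0
  obtain ⟨Q2, Q2', h2, y2, z2, e2⟩ := exists_conj_first_col hM 0
  have h1' : Q1' * Q1 = 1 := mul_eq_one_comm.mp h1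
  have h2' : Q2' * Q2 = 1 := mul_eq_one_comm.mp h2
  have t1 : (Q1' * B * Q1).trace = B.trace := by
    rw [Matrix.trace_mul_comm, ← Matrix.mul_assoc, h1, Matrix.one_mul]
  have t2 : (Q2' * M0 * Q2).trace = M0.trace := by
    rw [Matrix.trace_mul_comm, ← Matrix.mul_assoc, h2, Matrix.one_mul]
  have d1 : (Q1' * B * Q1).det = B.det := by
    rw [Matrix.det_mul, Matrix.det_mul, mul_comm, ← mul_assoc, ← Matrix.det_mul, h1]
    simp
  have d2 : (Q2' * M0 * Q2).det = M0.det := by
    rw [Matrix.det_mul, Matrix.det_mul, mul_comm, ← mul_assoc, ← Matrix.det_mul, h2]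
    simp
  rw [e1] at t1 d1
  rw [e2] at t2 d2
  rw [Matrix.trace_fin_two_of] at t1 t2
  rw [Matrix.det_fin_two_of] at d1 d2
  have hz : z1 = z2 := by
    have : (0 : F) + z1 = 0 + z2 := by rw [t1, t2, htr]
    simpa using this
  have hy : y1 = y2 := by
    have : (0 : F) * z1 - y1 * 1 = 0 * z2 - y2 * 1 := by rw [d1, d2, hdet]
    simpa using this
  have e12 : Q1' * B * Q1 = Q2' * M0 * Q2 := by rw [e1, e2, hz, hy]
  refine ⟨Q1 * Q2', Q2 * Q1', ?_, ?_⟩
  · calc Q1 * Q2' * (Q2 * Q1') = Q1 * (Q2' * Q2) * Q1' := by simp only [Matrix.mul_assoc]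
      _ = 1 := by rw [h2', Matrix.mul_one, h1]
  · calc B = (Q1 * Q1') * B * (Q1 * Q1') := by rw [h1]; simp
      _ = Q1 * (Q1' * B * Q1) * Q1' := by simp only [Matrix.mul_assoc]
      _ = Q1 * (Q2' * M0 * Q2) * Q1' := by rw [e12]
      _ = Q1 * Q2' * M0 * (Q2 * Q1') := by simp only [Matrix.mul_assoc]

theorem nonScalar_of_trace_det {B : Matrix (Fin 2) (Fin 2) F} (h : B.trace ^ 2 ≠ 4 * B.det) :
    NonScalar B := by
  intro c hc
  apply h
  rw [hc]
  rw [Matrix.trace_fin_two, Matrix.det_fin_two]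
  simp
  ring

/-- Split case: a nonscalar matrix of determinant one is a product of two matrices of
determinant one and trace `α + α⁻¹`. -/
theorem exists_factor_split {N : Matrix (Fin 2) (Fin 2) F} (hN : NonScalar N) (hdet : N.det = 1)
    {α : F} (hα : α ≠ 0) :
    ∃ B C : Matrix (Fin 2) (Fin 2) F, B * C = N ∧ B.trace = α + α⁻¹ ∧ C.trace = α + α⁻¹ ∧
      B.det = 1 ∧ C.det = 1 := by
  obtain ⟨Q, Q', h1, y, z, e⟩ := exists_conj_first_col hN (α ^ 2)
  have h1' : Q' * Q = 1 := mul_eq_one_comm.mp h1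
  have hd : Q.det * Q'.det = 1 := by rw [← Matrix.det_mul, h1, Matrix.det_one]
  have d1 : (Q' * N * Q).det = 1 := by
    rw [Matrix.det_mul, Matrix.det_mul, hdet, mul_one, mul_comm, hd]
  rw [e, Matrix.det_fin_two_of] at d1
  have hz : z = (1 + y) / α ^ 2 := by
    field_simp
    linear_combination d1
  set B0 : Matrix (Fin 2) (Fin 2) F := !![α, 0; α⁻¹, α⁻¹] with hB0
  set C0 : Matrix (Fin 2) (Fin 2) F := !![α, y / α; 0, α⁻¹] with hC0
  have hBC : B0 * C0 = Q' * N * Q := by
    rw [e, hz, hB0, hC0]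
    ext i j
    fin_cases i <;> fin_cases j <;> simp [Matrix.mul_apply, Fin.sum_univ_two] <;>
      (try field_simp) <;> (try ring)
  have hN' : N = Q * (Q' * N * Q) * Q' := by
    calc N = (Q * Q') * N * (Q * Q') := by rw [h1]; simp
      _ = Q * (Q' * N * Q) * Q' := by simp only [Matrix.mul_assoc]
  have trconj : ∀ X : Matrix (Fin 2) (Fin 2) F, (Q * X * Q').trace = X.trace := by
    intro X
    rw [Matrix.trace_mul_comm, ← Matrix.mul_assoc, h1', Matrix.one_mul]
  have detconj : ∀ X : Matrix (Fin 2) (Fin 2) F, (Q * X * Q').det = X.det := by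
    intro X
    rw [Matrix.det_mul, Matrix.det_mul, mul_comm, ← mul_assoc, mul_comm Q'.det, hd, one_mul]
  refine ⟨Q * B0 * Q', Q * C0 * Q', ?_, ?_, ?_, ?_, ?_⟩
  · calc Q * B0 * Q' * (Q * C0 * Q') = Q * B0 * (Q' * Q) * C0 * Q' := by
          simp only [Matrix.mul_assoc]
      _ = Q * (B0 * C0) * Q' := by rw [h1']; simp only [Matrix.mul_one, Matrix.mul_assoc]
      _ = N := by rw [hBC, ← hN']
  · rw [trconj, hB0, Matrix.trace_fin_two_of]
  · rw [trconj, hC0, Matrix.trace_fin_two_of]
  · rw [detconj, hB0, Matrix.det_fin_two_of]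
    field_simp
    ring
  · rw [detconj, hC0, Matrix.det_fin_two_of]
    field_simp
    ring

/-- The field with three elements: products of two elements of order four of `SL₂(3)`. -/
theorem exists_factor_three [Fintype F] (hF : Fintype.card F = 3)
    {N : Matrix (Fin 2) (Fin 2) F} (hdet : N.det = 1)
    (hN : N.trace = 0 ∨ N = 1 ∨ N = -1) :
    ∃ B C : Matrix (Fin 2) (Fin 2) F, B * C = N ∧ B.trace = 0 ∧ C.trace = 0 ∧
      B.det = 1 ∧ C.det = 1 := by
  have h3 : (3 : F) = 0 := by
    have := Nat.cast_card_eq_zero F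
    rw [hF] at this
    exact_mod_cast this
  have hsq : ∀ x : F, x ≠ 0 → x ^ 2 = 1 := by
    intro x hx
    have := FiniteField.pow_card_sub_one_eq_one x hx
    rwa [hF] at this
  have h2 : (2 : F) = -1 := by linear_combination h3
  rcases hN with htr | rfl | rfl
  · -- trace zero
    have hN' := Matrix.eta_fin_two N
    set a := N 0 0 with ha
    set b := N 0 1 with hb
    set c := N 1 0 with hc
    set d := N 1 1 with hd
    rw [hN', Matrix.trace_fin_two_of] at htr
    rw [hN', Matrix.det_fin_two_of] at hdet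
    have hda : d = -a := by linear_combination htr
    by_cases ha0 : a = 0
    · have hbc : b * c = -1 := by
        rw [hda, ha0] at hdet
        linear_combination -hdet
      have hb0 : b ≠ 0 := by
        rintro hb0
        rw [hb0, zero_mul] at hbc
        exact one_ne_zero (show (1 : F) = 0 by linear_combination hbc)
      have hb2 := hsq b hb0
      have hcb : c = -b := by
        have : c = b ^ 2 * c := by rw [hb2, one_mul]
        rw [this]
        linear_combination b * hbc
      refine ⟨!![1, 1; 1, -1], !![b, -b; -b, -b], ?_, ?_, ?_, ?_, ?_⟩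
      · rw [hN', hda, ha0, hcb]
        ext i j
        fin_cases i <;> fin_cases j <;> simp [Matrix.mul_apply, Fin.sum_univ_two]
        · linear_combination (-b) * h3
        · linear_combination b * h3
      · simp [Matrix.trace_fin_two_of]
      · simp [Matrix.trace_fin_two_of]
      · rw [Matrix.det_fin_two_of]
        linear_combination -h3
      · rw [Matrix.det_fin_two_of]
        linear_combination (-2 : F) * hb2 - h3
    · have ha2 := hsq a ha0
      have hbc : b * c = 1 := by
        rw [hda] at hdet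
        linear_combination -hdet - ha2 - h3
      have hb0 : b ≠ 0 := by
        rintro hb0
        rw [hb0, zero_mul] at hbc
        exact one_ne_zero hbc.symm
      have hb2 := hsq b hb0
      have hcb : c = b := by
        have : c = b ^ 2 * c := by rw [hb2, one_mul]
        rw [this]
        linear_combination b * hbc
      refine ⟨!![0, 1; -1, 0], !![-b, a; a, b], ?_, ?_, ?_, ?_, ?_⟩
      · rw [hN', hda, hcb]
        ext i j
        fin_cases i <;> fin_cases j <;> simp [Matrix.mul_apply, Fin.sum_univ_two]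
      · simp [Matrix.trace_fin_two_of]
      · simp [Matrix.trace_fin_two_of]
      · rw [Matrix.det_fin_two_of]
        ring
      · rw [Matrix.det_fin_two_of]
        linear_combination (-1 : F) * hb2 - ha2 - h3
  · refine ⟨!![0, 1; -1, 0], !![0, -1; 1, 0], ?_, ?_, ?_, ?_, ?_⟩
    · ext i j
      fin_cases i <;> fin_cases j <;> simp [Matrix.mul_apply, Fin.sum_univ_two]
    · simp [Matrix.trace_fin_two_of]
    · simp [Matrix.trace_fin_two_of]
    · rw [Matrix.det_fin_two_of]
      ring
    · rw [Matrix.det_fin_two_of]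
      ring
  · refine ⟨!![0, 1; -1, 0], !![0, 1; -1, 0], ?_, ?_, ?_, ?_, ?_⟩
    · ext i j
      fin_cases i <;> fin_cases j <;> simp [Matrix.mul_apply, Fin.sum_univ_two]
    · simp [Matrix.trace_fin_two_of]
    · simp [Matrix.trace_fin_two_of]
    · rw [Matrix.det_fin_two_of]
      ring
    · rw [Matrix.det_fin_two_of]
      ring

end Cfsg.Agent.Lib.Helper47.ClassSq
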