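import Mathlib
import Cfsg.Agent.Lib.Helper47.ClassSqBasic
import Cfsg.Agent.Lib.Helper47.ClassSqTwo

set_option autoImplicit false

/-!
# `3 × 3` normal form for nonscalar matrices and the reduction to `2 × 2`
-/

namespace Cfsg.Agent.Lib.Helper47.ClassSq

open Matrix

variable {F : Type*} [Field F]

/-- A nonscalar `3 × 3` matrix is conjugate to one with first column `(1, 1, 0)`. -/
theorem exists_conj_blk {A : Matrix (Fin 3) (Fin 3) F} (hA : NonScalar A) :
    ∃ P P' : Matrix (Fin 3) (Fin 3) F, P * P' = 1 ∧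
      ∃ (b : Fin 2 → F) (D : Matrix (Fin 2) (Fin 2) F), P' * A * P = blk 1 b ![1, 0] D := by
  obtain ⟨v, hv⟩ := exists_indep hA
  have hvu := indep_sub_smul (1 : F) hv
  set u := A *ᵥ v - (1 : F) • v with hu
  have hcross : crossProduct v u ≠ 0 := crossProduct_ne_zero_iff_linearIndependent.mpr hvu
  obtain ⟨k, hk⟩ : ∃ k, (crossProduct v u) k ≠ 0 := by
    by_contra hcon
    push_neg at hcon
    exact hcross (funext hcon)
  set w : Fin 3 → F := Pi.single k 1 with hw
  have hdet : Matrix.det ![v, u, w] ≠ 0 := by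
    rw [← triple_product_eq_det, triple_product_permutation, triple_product_permutation, hw,
      single_dotProduct, one_mul]
    exact hk
  let P : Matrix (Fin 3) (Fin 3) F := (Matrix.of ![v, u, w])ᵀ
  have hPdet : IsUnit P.det := by
    rw [Matrix.det_transpose]
    exact isUnit_iff_ne_zero.mpr hdet
  have hP : IsUnit P := (Matrix.isUnit_iff_isUnit_det P).mpr hPdet
  have h1 : P * P⁻¹ = 1 := Matrix.mul_nonsing_inv P hPdet
  refine ⟨P, P⁻¹, h1, ?_⟩
  set M := P⁻¹ * A * P with hM
  have hPM : P * M = A * P := by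
    rw [hM]
    simp only [← Matrix.mul_assoc]
    rw [h1]
    simp
  have hPvec : ∀ x y z : F, P *ᵥ ![x, y, z] = x • v + y • u + z • w := by
    intro x y z
    ext i
    simp [P, mulVec, dotProduct, Fin.sum_univ_three]
    ring
  have hcol : M *ᵥ ![1, 0, 0] = ![1, 1, 0] := by
    apply (Matrix.mulVec_injective_iff_isUnit.mpr hP)
    show P *ᵥ (M *ᵥ ![1, 0, 0]) = P *ᵥ ![1, 1, 0]
    rw [Matrix.mulVec_mulVec, hPM, ← Matrix.mulVec_mulVec, hPvec, hPvec, hu]
    simp
  have h00 : M 0 0 = 1 := by
    have := congrFun hcol 0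
    simpa [mulVec, dotProduct, Fin.sum_univ_three] using this
  have h10 : M 1 0 = 1 := by
    have := congrFun hcol 1
    simpa [mulVec, dotProduct, Fin.sum_univ_three] using this
  have h20 : M 2 0 = 0 := by
    have := congrFun hcol 2
    simpa [mulVec, dotProduct, Fin.sum_univ_three] using this
  refine ⟨![M 0 1, M 0 2], !![M 1 1, M 1 2; M 2 1, M 2 2], ?_⟩
  have h := eq_blk M
  rw [h00, h10, h20] at h
  exact h

/-- Shear conjugation (replacing the third basis vector `e₃` by `e₃ + s e₁`). -/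
theorem shear_conj (s b0 b1 d00 d01 d10 d11 : F) :
    blk 1 ![0, -s] 0 1 * blk 1 ![b0, b1] ![1, 0] !![d00, d01; d10, d11] * blk 1 ![0, s] 0 1 =
      blk 1 ![b0 - s * d10, b1 + s - s * d11] ![1, 0] !![d00, d01 + s; d10, d11] := by
  ext i j
  fin_cases i <;> fin_cases j <;>
    simp [blk, Matrix.mul_apply, Fin.sum_univ_three] <;> ring

theorem shear_mul_inv (s : F) : blk 1 ![0, s] 0 1 * blk 1 ![0, -s] 0 1 = 1 := by
  ext i j
  fin_cases i <;> fin_cases j <;>
    simp [blk, Matrix.mul_apply, Fin.sum_univ_three]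

theorem schur_entries (b0 b1 d00 d01 d10 d11 : F) :
    !![d00, d01; d10, d11] - vecMulVec ![1, 0] ![b0, b1] = !![d00 - b0, d01 - b1; d10, d11] := by
  ext i j
  fin_cases i <;> fin_cases j <;> simp [vecMulVec_apply]

theorem vec2_eta (b : Fin 2 → F) : b = ![b 0, b 1] := by
  ext i
  fin_cases i <;> rfl

/-- Normal form with nonscalar Schur complement. -/
theorem exists_conj_blk_nonScalar {A : Matrix (Fin 3) (Fin 3) F} (hA : NonScalar A)
    (hdet : A.det = 1) :
    ∃ P P' : Matrix (Fin 3) (Fin 3) F, P * P' = 1 ∧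
      ∃ (b : Fin 2 → F) (D : Matrix (Fin 2) (Fin 2) F), P' * A * P = blk 1 b ![1, 0] D ∧
        NonScalar (D - vecMulVec ![1, 0] b) ∧ (D - vecMulVec ![1, 0] b).det = 1 := by
  obtain ⟨P, P', h1, b, D, e⟩ := exists_conj_blk hA
  have h1' : P' * P = 1 := mul_eq_one_comm.mp h1
  have hd : P.det * P'.det = 1 := by rw [← Matrix.det_mul, h1, Matrix.det_one]
  have hdetN : (D - vecMulVec ![1, 0] b).det = 1 := by
    rw [← det_blk_one, ← e, Matrix.det_mul, Matrix.det_mul, hdet, mul_one, mul_comm, hd]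
  by_cases hN : NonScalar (D - vecMulVec ![1, 0] b)
  · exact ⟨P, P', h1, b, D, e, hN, hdetN⟩
  · unfold NonScalar at hN
    push_neg at hN
    obtain ⟨μ, hμ⟩ := hN
    have hb := vec2_eta b
    have hD := Matrix.eta_fin_two D
    set b0 := b 0
    set b1 := b 1
    set d00 := D 0 0
    set d01 := D 0 1
    set d10 := D 1 0
    set d11 := D 1 1
    rw [hb, hD, schur_entries] at hμ hdetN
    have e00 : d00 - b0 = μ := by
      have := congrFun (congrFun hμ 0) 0
      simpa using this
    have e01 : d01 - b1 = 0 := by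
      have := congrFun (congrFun hμ 0) 1
      simpa using this
    have e10 : d10 = 0 := by
      have := congrFun (congrFun hμ 1) 0
      simpa using this
    have e11 : d11 = μ := by
      have := congrFun (congrFun hμ 1) 1
      simpa using this
    rw [Matrix.det_fin_two_of, e00, e01, e10, e11] at hdetN
    have hμ0 : μ ≠ 0 := by
      rintro rfl
      simp at hdetN
    refine ⟨P * blk 1 ![0, 1] 0 1, blk 1 ![0, -1] 0 1 * P', ?_, ![b0 - 1 * d10, b1 + 1 - 1 * d11],
      !![d00, d01 + 1; d10, d11], ?_, ?_, ?_⟩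
    · calc P * blk 1 ![0, 1] 0 1 * (blk 1 ![0, -1] 0 1 * P')
          = P * (blk 1 ![0, 1] 0 1 * blk 1 ![0, -1] 0 1) * P' := by simp only [Matrix.mul_assoc]
        _ = 1 := by rw [shear_mul_inv, Matrix.mul_one, h1]
    · calc blk 1 ![0, -1] 0 1 * P' * A * (P * blk 1 ![0, 1] 0 1)
          = blk 1 ![0, -1] 0 1 * (P' * A * P) * blk 1 ![0, 1] 0 1 := by
            simp only [Matrix.mul_assoc]
        _ = _ := by rw [e, hb, hD, shear_conj]
    · rw [schur_entries]
      intro c hc
      have := congrFun (congrFun hc 0) 1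
      simp at this
      apply hμ0
      rw [← e11]
      linear_combination this - e01
    · rw [schur_entries, Matrix.det_fin_two_of]
      rw [e10, e11]
      linear_combination hdetN + μ * e00

end Cfsg.Agent.Lib.Helper47.ClassSq
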