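import Mathlib
import Cfsg.Agent.Lib.Helper47.ClassSqBasic
import Cfsg.Agent.Lib.Helper47.ClassSqTwo
import Cfsg.Agent.Lib.Helper47.ClassSqThree

set_option autoImplicit false

/-!
# Reduction of the `3 × 3` factorisation problem to the `2 × 2` one
-/

namespace Cfsg.Agent.Lib.Helper47.ClassSq

open Matrix

variable {F : Type*} [Field F]

theorem det_one_sub_fin_two (B : Matrix (Fin 2) (Fin 2) F) :
    (1 - B).det = 1 - B.trace + B.det := by
  rw [Matrix.det_fin_two, Matrix.det_fin_two, Matrix.trace_fin_two]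
  simp
  ring

theorem det_sub_one_fin_two (B : Matrix (Fin 2) (Fin 2) F) :
    (B - 1).det = 1 - B.trace + B.det := by
  rw [Matrix.det_fin_two, Matrix.det_fin_two, Matrix.trace_fin_two]
  simp
  ring

theorem isUnit_of_mul_eq_one' {n : Type*} [Fintype n] [DecidableEq n] {Q Q' : Matrix n n F}
    (h : Q * Q' = 1) : IsUnit Q.det := by
  have hd : Q.det * Q'.det = 1 := by rw [← Matrix.det_mul, h, Matrix.det_one]
  exact IsUnit.of_mul_eq_one _ hd

/-- Block lower triangular to block diagonal. -/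
theorem lower_conj {B M0 Q Q' : Matrix (Fin 2) (Fin 2) F} (c : Fin 2 → F) (hQ : Q * Q' = 1)
    (hB : B = Q * M0 * Q') (htr : B.trace ≠ 2) (hdet : B.det = 1) :
    ∃ S S' : Matrix (Fin 3) (Fin 3) F, S * S' = 1 ∧ blk 1 0 c B = S * blk 1 0 0 M0 * S' := by
  have hQ' : Q' * Q = 1 := mul_eq_one_comm.mp hQ
  have hτ : (2 - B.trace) ≠ 0 := fun h => htr (by linear_combination -h)
  set u : Fin 2 → F := (2 - B.trace)⁻¹ • ((1 - B).adjugate *ᵥ c) with hu
  have hu1 : (1 - B) *ᵥ u = c := by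
    rw [hu, Matrix.mulVec_smul, Matrix.mulVec_mulVec, Matrix.mul_adjugate, det_one_sub_fin_two,
      hdet, Matrix.smul_mulVec, Matrix.one_mulVec, smul_smul]
    have : (2 - B.trace)⁻¹ * (1 - B.trace + 1) = 1 := by
      field_simp
      ring
    rw [this, one_smul]
  have hu2 : c + B *ᵥ u = u := by
    rw [Matrix.sub_mulVec, Matrix.one_mulVec] at hu1
    rw [← hu1]
    abel
  have hBQ : B * Q = Q * M0 := by
    rw [hB, Matrix.mul_assoc, hQ', Matrix.mul_one]
  set S := blk 1 0 u Q with hS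
  have hSdet : IsUnit S.det := by
    rw [hS, det_blk_zero_right, one_mul]
    exact isUnit_of_mul_eq_one' hQ
  have h1 : S * S⁻¹ = 1 := Matrix.mul_nonsing_inv S hSdet
  refine ⟨S, S⁻¹, h1, ?_⟩
  have hcomm : blk 1 0 c B * S = S * blk 1 0 0 M0 := by
    rw [hS, blk_mul, blk_mul]
    simp only [mul_one, dotProduct_zero, zero_dotProduct, add_zero, smul_zero, zero_vecMul,
      one_smul, vecMulVec_zero, zero_add, mulVec_zero]
    rw [hu2, hBQ]
  calc blk 1 0 c B = blk 1 0 c B * (S * S⁻¹) := by rw [h1, Matrix.mul_one]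
    _ = (blk 1 0 c B * S) * S⁻¹ := by rw [Matrix.mul_assoc]
    _ = S * blk 1 0 0 M0 * S⁻¹ := by rw [hcomm]

/-- Block upper triangular to block diagonal. -/
theorem upper_conj {C M0 Q Q' : Matrix (Fin 2) (Fin 2) F} (b : Fin 2 → F) (hQ : Q * Q' = 1)
    (hC : C = Q * M0 * Q') (htr : M0.trace ≠ 2) (hdet : M0.det = 1) :
    ∃ S S' : Matrix (Fin 3) (Fin 3) F, S * S' = 1 ∧ blk 1 b 0 C = S * blk 1 0 0 M0 * S' := by
  have hQ' : Q' * Q = 1 := mul_eq_one_comm.mp hQ
  have hτ : (2 - M0.trace) ≠ 0 := fun h => htr (by linear_combination -h)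
  set w : Fin 2 → F := (2 - M0.trace)⁻¹ • ((b ᵥ* Q) ᵥ* (M0 - 1).adjugate) with hw
  have hw1 : w ᵥ* (M0 - 1) = b ᵥ* Q := by
    rw [hw, Matrix.smul_vecMul, Matrix.vecMul_vecMul, Matrix.adjugate_mul, det_sub_one_fin_two,
      hdet, Matrix.vecMul_smul, Matrix.vecMul_one, smul_smul]
    have : (2 - M0.trace)⁻¹ * (1 - M0.trace + 1) = 1 := by
      field_simp
      ring
    rw [this, one_smul]
  have hw2 : w + b ᵥ* Q = w ᵥ* M0 := by
    rw [Matrix.vecMul_sub, Matrix.vecMul_one] at hw1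
    rw [← hw1]
    abel
  have hCQ : C * Q = Q * M0 := by
    rw [hC, Matrix.mul_assoc, hQ', Matrix.mul_one]
  set S := blk 1 w 0 Q with hS
  have hSdet : IsUnit S.det := by
    rw [hS, det_blk_zero_left, one_mul]
    exact isUnit_of_mul_eq_one' hQ
  have h1 : S * S⁻¹ = 1 := Matrix.mul_nonsing_inv S hSdet
  refine ⟨S, S⁻¹, h1, ?_⟩
  have hcomm : blk 1 b 0 C * S = S * blk 1 0 0 M0 := by
    rw [hS, blk_mul, blk_mul]
    simp only [mul_one, dotProduct_zero, zero_dotProduct, add_zero, smul_zero, zero_vecMul,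
      one_smul, vecMulVec_zero, zero_vecMulVec, zero_add, mulVec_zero]
    rw [hw2, hCQ]
  calc blk 1 b 0 C = blk 1 b 0 C * (S * S⁻¹) := by rw [h1, Matrix.mul_one]
    _ = (blk 1 b 0 C * S) * S⁻¹ := by rw [Matrix.mul_assoc]
    _ = S * blk 1 0 0 M0 * S⁻¹ := by rw [hcomm]

/-- Correcting the determinant of a conjugating matrix. -/
theorem exists_det_one_conj {S S' : Matrix (Fin 3) (Fin 3) F} (h : S * S' = 1)
    (M0 : Matrix (Fin 2) (Fin 2) F) :
    ∃ U U' : Matrix (Fin 3) (Fin 3) F, U * U' = 1 ∧ U.det = 1 ∧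
      S * blk 1 0 0 M0 * S' = U * blk 1 0 0 M0 * U' := by
  have hδ : S.det ≠ 0 := (isUnit_of_mul_eq_one' h).ne_zero
  set T := blk (S.det)⁻¹ 0 0 (1 : Matrix (Fin 2) (Fin 2) F) with hT
  set T' := blk (S.det) 0 0 (1 : Matrix (Fin 2) (Fin 2) F) with hT'
  have hTT' : T * T' = 1 := by
    rw [hT, hT', blk_mul]
    simp only [dotProduct_zero, add_zero, smul_zero, zero_vecMul, mulVec_zero, vecMulVec_zero,
      zero_add, Matrix.mul_one]
    rw [inv_mul_cancel₀ hδ, blk_one]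
  have hcomm : T * blk 1 0 0 M0 = blk 1 0 0 M0 * T := by
    rw [hT, blk_mul, blk_mul]
    simp only [mul_one, one_mul, dotProduct_zero, add_zero, smul_zero, zero_vecMul, mulVec_zero,
      vecMulVec_zero, zero_add, Matrix.mul_one, Matrix.one_mul]
  refine ⟨S * T, T' * S', ?_, ?_, ?_⟩
  · calc S * T * (T' * S') = S * (T * T') * S' := by simp only [Matrix.mul_assoc]
      _ = 1 := by rw [hTT', Matrix.mul_one, h]
  · rw [Matrix.det_mul, hT, det_blk_zero_left, Matrix.det_one, mul_one, mul_inv_cancel₀ hδ]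
  · calc S * blk 1 0 0 M0 * S' = S * (blk 1 0 0 M0 * (T * T')) * S' := by
          rw [hTT', Matrix.mul_one]
      _ = S * ((blk 1 0 0 M0 * T) * T') * S' := by rw [Matrix.mul_assoc (blk 1 0 0 M0)]
      _ = S * ((T * blk 1 0 0 M0) * T') * S' := by rw [hcomm]
      _ = S * T * blk 1 0 0 M0 * (T' * S') := by simp only [Matrix.mul_assoc]

/-- The reduction: if the Schur complement of a conjugate of `A` is a product of two matrices of
the same trace and determinant as `M0`, then `A` is a product of two `SL₃`-conjugates of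
`diag(1, M0)`. -/
theorem exists_conj_pair {A P P' : Matrix (Fin 3) (Fin 3) F} (hP : P * P' = 1)
    {b c : Fin 2 → F} {D B C M0 : Matrix (Fin 2) (Fin 2) F}
    (e : P' * A * P = blk 1 b c D) (hBC : B * C = D - vecMulVec c b)
    (hM0det : M0.det = 1) (h4 : M0.trace ^ 2 ≠ 4)
    (hBtr : B.trace = M0.trace) (hCtr : C.trace = M0.trace) (hBdet : B.det = 1)
    (hCdet : C.det = 1) :
    ∃ U U' V V' : Matrix (Fin 3) (Fin 3) F, U * U' = 1 ∧ V * V' = 1 ∧ U.det = 1 ∧ V.det = 1 ∧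
      A = U * blk 1 0 0 M0 * U' * (V * blk 1 0 0 M0 * V') := by
  have hP' : P' * P = 1 := mul_eq_one_comm.mp hP
  have hM0ns : NonScalar M0 := nonScalar_of_trace_det (by rw [hM0det, mul_one]; exact h4)
  have hBns : NonScalar B := nonScalar_of_trace_det (by rw [hBtr, hBdet, mul_one]; exact h4)
  have hCns : NonScalar C := nonScalar_of_trace_det (by rw [hCtr, hCdet, mul_one]; exact h4)
  have hτ2 : M0.trace ≠ 2 := by
    intro h
    apply h4
    rw [h]
    norm_num
  obtain ⟨Q1, Q1', hQ1, hBQ⟩ := exists_conj_of_trace_det hBns hM0ns hBtr (hBdet.trans hM0det.symm)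
  obtain ⟨Q2, Q2', hQ2, hCQ⟩ := exists_conj_of_trace_det hCns hM0ns hCtr (hCdet.trans hM0det.symm)
  obtain ⟨S1, S1', hS1, e1⟩ := lower_conj c hQ1 hBQ (by rw [hBtr]; exact hτ2) hBdet
  obtain ⟨S2, S2', hS2, e2⟩ := upper_conj b hQ2 hCQ hτ2 hM0det
  have key : blk 1 b c D = blk 1 0 c B * blk 1 b 0 C := by
    rw [blk_mul, hBC]
    simp only [mul_one, dotProduct_zero, zero_dotProduct, add_zero, smul_zero, zero_vecMul,
      one_smul, zero_add, mulVec_zero]
    congr 1
    abel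
  have hA : A = P * (blk 1 b c D) * P' := by
    rw [← e]
    calc A = (P * P') * A * (P * P') := by rw [hP]; simp
      _ = P * (P' * A * P) * P' := by simp only [Matrix.mul_assoc]
  have h1 : (P * S1) * (S1' * P') = 1 := by
    calc P * S1 * (S1' * P') = P * (S1 * S1') * P' := by simp only [Matrix.mul_assoc]
      _ = 1 := by rw [hS1, Matrix.mul_one, hP]
  have h2 : (P * S2) * (S2' * P') = 1 := by
    calc P * S2 * (S2' * P') = P * (S2 * S2') * P' := by simp only [Matrix.mul_assoc]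
      _ = 1 := by rw [hS2, Matrix.mul_one, hP]
  obtain ⟨U, U', hU, hUdet, eU⟩ := exists_det_one_conj h1 M0
  obtain ⟨V, V', hV, hVdet, eV⟩ := exists_det_one_conj h2 M0
  refine ⟨U, U', V, V', hU, hV, hUdet, hVdet, ?_⟩
  rw [← eU, ← eV, hA, key, e1, e2]
  calc P * (S1 * blk 1 0 0 M0 * S1' * (S2 * blk 1 0 0 M0 * S2')) * P'
      = P * (S1 * blk 1 0 0 M0 * S1' * 1 * (S2 * blk 1 0 0 M0 * S2')) * P' := by
        rw [Matrix.mul_one]
    _ = P * (S1 * blk 1 0 0 M0 * S1' * (P' * P) * (S2 * blk 1 0 0 M0 * S2')) * P' := by rw [hP']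
    _ = P * S1 * blk 1 0 0 M0 * (S1' * P') * (P * S2 * blk 1 0 0 M0 * (S2' * P')) := by
        simp only [Matrix.mul_assoc]

end Cfsg.Agent.Lib.Helper47.ClassSq
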