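import Mathlib
import Cfsg.Agent.Lib.Helper47.ClassSqBasic
import Cfsg.Agent.Lib.Helper47.ClassSqTwo
import Cfsg.Agent.Lib.Helper47.ClassSqThree
import Cfsg.Agent.Lib.Helper47.ClassSqReduce

set_option autoImplicit false

/-!
# A semisimple class of `SL₃(q)`, `q ≥ 3`, whose square covers all noncentral elements
-/

namespace Cfsg.Agent.Lib.Helper47.ClassSq

open Matrix

variable {F : Type*} [Field F]

/-- General shear step. -/
theorem shear_step {A P P' : Matrix (Fin 3) (Fin 3) F} (h1 : P * P' = 1)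
    {b0 b1 d00 d01 d10 d11 : F}
    (e : P' * A * P = blk 1 ![b0, b1] ![1, 0] !![d00, d01; d10, d11]) (s : F) :
    ∃ P2 P2' : Matrix (Fin 3) (Fin 3) F, P2 * P2' = 1 ∧
      P2' * A * P2 = blk 1 ![b0 - s * d10, b1 + s - s * d11] ![1, 0] !![d00, d01 + s; d10, d11] := by
  refine ⟨P * blk 1 ![0, s] 0 1, blk 1 ![0, -s] 0 1 * P', ?_, ?_⟩
  · calc P * blk 1 ![0, s] 0 1 * (blk 1 ![0, -s] 0 1 * P')
        = P * (blk 1 ![0, s] 0 1 * blk 1 ![0, -s] 0 1) * P' := by simp only [Matrix.mul_assoc]
      _ = 1 := by rw [shear_mul_inv, Matrix.mul_one, h1]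
  · calc blk 1 ![0, -s] 0 1 * P' * A * (P * blk 1 ![0, s] 0 1)
        = blk 1 ![0, -s] 0 1 * (P' * A * P) * blk 1 ![0, s] 0 1 := by
          simp only [Matrix.mul_assoc]
      _ = _ := by rw [e, shear_conj]

/-- Normal form over the field with three elements. -/
theorem exists_conj_blk_three [Fintype F] (hF : Fintype.card F = 3)
    {A : Matrix (Fin 3) (Fin 3) F} (hA : NonScalar A) (hdet : A.det = 1) :
    ∃ P P' : Matrix (Fin 3) (Fin 3) F, P * P' = 1 ∧
      ∃ (b : Fin 2 → F) (D : Matrix (Fin 2) (Fin 2) F), P' * A * P = blk 1 b ![1, 0] D ∧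
        (D - vecMulVec ![1, 0] b).det = 1 ∧
        ((D - vecMulVec ![1, 0] b).trace = 0 ∨ D - vecMulVec ![1, 0] b = 1 ∨
          D - vecMulVec ![1, 0] b = -1) := by
  have hsq : ∀ x : F, x ≠ 0 → x ^ 2 = 1 := by
    intro x hx
    have := FiniteField.pow_card_sub_one_eq_one x hx
    rwa [hF] at this
  obtain ⟨P, P', h1, b, D, e⟩ := exists_conj_blk hA
  have hd : P.det * P'.det = 1 := by rw [← Matrix.det_mul, h1, Matrix.det_one]
  have hdetN : (D - vecMulVec ![1, 0] b).det = 1 := by
    rw [← det_blk_one, ← e, Matrix.det_mul, Matrix.det_mul, hdet, mul_one, mul_comm, hd]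
  have hb := vec2_eta b
  have hD := Matrix.eta_fin_two D
  set b0 := b 0
  set b1 := b 1
  set d00 := D 0 0
  set d01 := D 0 1
  set d10 := D 1 0
  set d11 := D 1 1
  rw [hb, hD] at e
  rw [hb, hD, schur_entries, Matrix.det_fin_two_of] at hdetN
  by_cases h10 : d10 = 0
  · rw [h10, mul_zero, sub_zero] at hdetN
    have h11 : d11 ≠ 0 := by
      rintro h
      rw [h, mul_zero] at hdetN
      exact zero_ne_one hdetN
    have h11sq := hsq d11 h11
    have h00 : d00 - b0 = d11 := by
      have : d00 - b0 = (d00 - b0) * d11 ^ 2 := by rw [h11sq, mul_one]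
      rw [this]
      linear_combination d11 * hdetN
    obtain ⟨P2, P2', h2, e2⟩ := shear_step h1 e (-(d11 * (d01 - b1)))
    refine ⟨P2, P2', h2, _, _, e2, ?_, ?_⟩
    · rw [schur_entries, Matrix.det_fin_two_of, h10]
      linear_combination hdetN
    · right
      have hN : !![d00, d01 + -(d11 * (d01 - b1)); d10, d11] -
          vecMulVec ![1, 0] ![b0 - -(d11 * (d01 - b1)) * d10,
            b1 + -(d11 * (d01 - b1)) - -(d11 * (d01 - b1)) * d11] = d11 • (1 : Matrix _ _ F) := by
        rw [schur_entries]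
        ext i j
        fin_cases i <;> fin_cases j <;> simp
        · rw [h10]
          linear_combination h00
        · linear_combination (-(d01 - b1)) * h11sq
        · exact h10
      rw [hN]
      have : (d11 - 1) * (d11 + 1) = 0 := by linear_combination h11sq
      rcases mul_eq_zero.mp this with h | h
      · left
        rw [sub_eq_zero.mp h, one_smul]
      · right
        rw [eq_neg_of_add_eq_zero_left h, neg_smul, one_smul]
  · obtain ⟨P2, P2', h2, e2⟩ := shear_step h1 e (-((d00 - b0 + d11) / d10))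
    refine ⟨P2, P2', h2, _, _, e2, ?_, ?_⟩
    · rw [schur_entries, Matrix.det_fin_two_of]
      linear_combination hdetN
    · left
      rw [schur_entries, Matrix.trace_fin_two_of]
      field_simp
      ring

theorem exists_ne_zero_sq_ne_one [Fintype F] (h4 : 4 ≤ Fintype.card F) :
    ∃ α : F, α ≠ 0 ∧ α ^ 2 ≠ 1 := by
  classical
  by_contra hcon
  push_neg at hcon
  have hsub : (Finset.univ : Finset F) ⊆ {0, 1, -1} := by
    intro x _
    by_cases hx : x = 0
    · simp [hx]
    · have h1 := hcon x hx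
      have : (x - 1) * (x + 1) = 0 := by linear_combination h1
      rcases mul_eq_zero.mp this with h | h
      · simp [sub_eq_zero.mp h]
      · simp [eq_neg_of_add_eq_zero_left h]
  have := Finset.card_le_card hsub
  have h3 : ({0, 1, -1} : Finset F).card ≤ 3 := Finset.card_le_three
  rw [Finset.card_univ] at this
  omega

/-- Matrix-level covering statement for a given `M0`. -/
theorem exists_pair_of_factor {M0 : Matrix (Fin 2) (Fin 2) F} (hM0det : M0.det = 1)
    (h4 : M0.trace ^ 2 ≠ 4) {A : Matrix (Fin 3) (Fin 3) F}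
    (hfac : ∃ P P' : Matrix (Fin 3) (Fin 3) F, P * P' = 1 ∧
      ∃ (b c : Fin 2 → F) (D B C : Matrix (Fin 2) (Fin 2) F), P' * A * P = blk 1 b c D ∧
        B * C = D - vecMulVec c b ∧ B.trace = M0.trace ∧ C.trace = M0.trace ∧ B.det = 1 ∧
        C.det = 1) :
    ∃ U U' V V' : Matrix (Fin 3) (Fin 3) F, U * U' = 1 ∧ V * V' = 1 ∧ U.det = 1 ∧ V.det = 1 ∧
      A = U * blk 1 0 0 M0 * U' * (V * blk 1 0 0 M0 * V') := by
  obtain ⟨P, P', hP, b, c, D, B, C, e, hBC, hBtr, hCtr, hBdet, hCdet⟩ := hfac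
  exact exists_conj_pair hP e hBC hM0det h4 hBtr hCtr hBdet hCdet

/-- From the matrix statement to `SL₃`. -/
theorem sl3_of_matrix {X A : SpecialLinearGroup (Fin 3) F}
    (h : ∃ U U' V V' : Matrix (Fin 3) (Fin 3) F, U * U' = 1 ∧ V * V' = 1 ∧ U.det = 1 ∧
      V.det = 1 ∧ A.1 = U * X.1 * U' * (V * X.1 * V')) :
    ∃ U V : SpecialLinearGroup (Fin 3) F, A = U * X * U⁻¹ * (V * X * V⁻¹) := by
  obtain ⟨U, U', V, V', hU, hV, hUd, hVd, e⟩ := h
  have hU'd : U'.det = 1 := by
    have : U.det * U'.det = 1 := by rw [← Matrix.det_mul, hU, Matrix.det_one]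
    rwa [hUd, one_mul] at this
  have hV'd : V'.det = 1 := by
    have : V.det * V'.det = 1 := by rw [← Matrix.det_mul, hV, Matrix.det_one]
    rwa [hVd, one_mul] at this
  set Us : SpecialLinearGroup (Fin 3) F := ⟨U, hUd⟩ with hUs
  set Us' : SpecialLinearGroup (Fin 3) F := ⟨U', hU'd⟩ with hUs'
  set Vs : SpecialLinearGroup (Fin 3) F := ⟨V, hVd⟩ with hVs
  set Vs' : SpecialLinearGroup (Fin 3) F := ⟨V', hV'd⟩ with hVs'
  have e1 : Us * Us' = 1 := by
    apply Matrix.SpecialLinearGroup.ext
    intro i j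
    rw [Matrix.SpecialLinearGroup.coe_mul, Matrix.SpecialLinearGroup.coe_one]
    exact congrFun (congrFun hU i) j
  have e2 : Vs * Vs' = 1 := by
    apply Matrix.SpecialLinearGroup.ext
    intro i j
    rw [Matrix.SpecialLinearGroup.coe_mul, Matrix.SpecialLinearGroup.coe_one]
    exact congrFun (congrFun hV i) j
  have e1' : Us' = Us⁻¹ := eq_inv_of_mul_eq_one_right e1
  have e2' : Vs' = Vs⁻¹ := eq_inv_of_mul_eq_one_right e2
  refine ⟨Us, Vs, ?_⟩
  rw [← e1', ← e2']
  apply Matrix.SpecialLinearGroup.ext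
  intro i j
  simp only [Matrix.SpecialLinearGroup.coe_mul]
  exact congrFun (congrFun e i) j

theorem three_eq_zero_of_card [Fintype F] (hF : Fintype.card F = 3) : (3 : F) = 0 := by
  have := Nat.cast_card_eq_zero F
  rw [hF] at this
  exact_mod_cast this

/-- The main theorem at the level of `SL₃(F)`. -/
theorem sl3_class_square [Fintype F] (p : ℕ) [Fact p.Prime] [CharP F p]
    (h3 : 3 ≤ Fintype.card F) :
    ∃ X : SpecialLinearGroup (Fin 3) F, (∃ m : ℕ, ¬ p ∣ m ∧ X ^ m = 1) ∧
      ∀ A : SpecialLinearGroup (Fin 3) F, NonScalar A.1 →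
        ∃ U V : SpecialLinearGroup (Fin 3) F, A = U * X * U⁻¹ * (V * X * V⁻¹) := by
  have hp : p.Prime := Fact.out
  have hpq : p ∣ Fintype.card F := by
    rw [← CharP.cast_eq_zero_iff F p]
    exact Nat.cast_card_eq_zero F
  by_cases hF : Fintype.card F = 3
  · -- the field with three elements
    have h30 := three_eq_zero_of_card hF
    have hp3 : p = 3 := by
      rw [hF] at hpq
      exact (Nat.prime_dvd_prime_iff_eq hp Nat.prime_three).mp hpq
    set M0 : Matrix (Fin 2) (Fin 2) F := !![0, 1; -1, 0] with hM0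
    have hM0det : M0.det = 1 := by
      rw [hM0, Matrix.det_fin_two_of]
      ring
    have hM0tr : M0.trace = 0 := by
      rw [hM0, Matrix.trace_fin_two_of]
      ring
    have h4 : M0.trace ^ 2 ≠ 4 := by
      rw [hM0tr]
      intro h
      have : (1 : F) = 0 := by linear_combination -h - h30
      exact one_ne_zero this
    have hXdet : (blk 1 0 0 M0).det = 1 := by rw [det_blk_zero_left, hM0det, mul_one]
    obtain ⟨X, hX⟩ : ∃ X : SpecialLinearGroup (Fin 3) F, X.1 = blk 1 0 0 M0 :=
      ⟨⟨_, hXdet⟩, rfl⟩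
    refine ⟨X, ⟨4, ?_, ?_⟩, ?_⟩
    · rw [hp3]
      norm_num
    · apply Matrix.SpecialLinearGroup.ext
      intro i j
      rw [Matrix.SpecialLinearGroup.coe_pow, Matrix.SpecialLinearGroup.coe_one]
      show (X.1 ^ 4) i j = (1 : Matrix (Fin 3) (Fin 3) F) i j
      rw [hX]
      have hsq : blk 1 0 0 M0 * blk 1 0 0 M0 = blk 1 0 0 (-1) := by
        rw [blk_mul]
        simp only [mul_one, dotProduct_zero, add_zero, smul_zero, zero_vecMul, mulVec_zero,
          vecMulVec_zero, zero_add]
        congr 1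
        rw [hM0]
        ext i j
        fin_cases i <;> fin_cases j <;> simp [Matrix.mul_apply, Fin.sum_univ_two]
      have hsq2 : blk (1 : F) 0 0 (-1) * blk 1 0 0 (-1) = 1 := by
        rw [blk_mul]
        simp only [mul_one, dotProduct_zero, add_zero, smul_zero, zero_vecMul, mulVec_zero,
          vecMulVec_zero, zero_add, mul_neg, neg_neg]
        exact blk_one
      rw [show (4 : ℕ) = 2 + 2 from rfl, pow_add, pow_two, hsq, hsq2]
    · intro A hA
      apply sl3_of_matrix
      rw [hX]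
      apply exists_pair_of_factor hM0det h4
      obtain ⟨P, P', hP, b, D, e, hdN, hN⟩ := exists_conj_blk_three hF hA A.2
      obtain ⟨B, C, hBC, hBtr, hCtr, hBdet, hCdet⟩ := exists_factor_three hF hdN hN
      exact ⟨P, P', hP, b, ![1, 0], D, B, C, e, hBC, by rw [hBtr, hM0tr], by rw [hCtr, hM0tr],
        hBdet, hCdet⟩
  · have h4' : 4 ≤ Fintype.card F := by omega
    obtain ⟨α, hα0, hα2⟩ := exists_ne_zero_sq_ne_one h4'
    set M0 : Matrix (Fin 2) (Fin 2) F := !![α, 0; 0, α⁻¹] with hM0
    have hM0det : M0.det = 1 := by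
      rw [hM0, Matrix.det_fin_two_of]
      field_simp
      ring
    have hM0tr : M0.trace = α + α⁻¹ := by
      rw [hM0, Matrix.trace_fin_two_of]
    have h4 : M0.trace ^ 2 ≠ 4 := by
      rw [hM0tr]
      intro h
      apply hα2
      have h5 : (α ^ 2 - 1) ^ 2 = 0 := by
        have : (α + α⁻¹) ^ 2 * α ^ 2 = 4 * α ^ 2 := by rw [h]
        field_simp at this
        linear_combination this
      have := pow_eq_zero_iff (two_ne_zero) |>.mp h5
      linear_combination this
    have hXdet : (blk 1 0 0 M0).det = 1 := by rw [det_blk_zero_left, hM0det, mul_one]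
    obtain ⟨X, hX⟩ : ∃ X : SpecialLinearGroup (Fin 3) F, X.1 = blk 1 0 0 M0 :=
      ⟨⟨_, hXdet⟩, rfl⟩
    refine ⟨X, ⟨Fintype.card F - 1, ?_, ?_⟩, ?_⟩
    · intro hdvd
      have : p ∣ 1 := by
        have h := Nat.dvd_sub hpq hdvd
        have : Fintype.card F - (Fintype.card F - 1) = 1 := by omega
        rwa [this] at h
      exact hp.one_lt.ne' (Nat.dvd_one.mp this)
    · apply Matrix.SpecialLinearGroup.ext
      intro i j
      rw [Matrix.SpecialLinearGroup.coe_pow, Matrix.SpecialLinearGroup.coe_one]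
      show (X.1 ^ (Fintype.card F - 1)) i j = (1 : Matrix (Fin 3) (Fin 3) F) i j
      rw [hX]
      have hdiag : blk 1 0 0 M0 = Matrix.diagonal ![1, α, α⁻¹] := by
        rw [hM0]
        ext i j
        fin_cases i <;> fin_cases j <;> simp [blk]
      rw [hdiag, Matrix.diagonal_pow]
      have : (![1, α, α⁻¹] : Fin 3 → F) ^ (Fintype.card F - 1) = 1 := by
        ext i
        fin_cases i
        · simp
        · simpa using FiniteField.pow_card_sub_one_eq_one α hα0
        · simpa using FiniteField.pow_card_sub_one_eq_one α⁻¹ (inv_ne_zero hα0)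
      rw [this]
      have h1 : (Matrix.diagonal (1 : Fin 3 → F)) = 1 := Matrix.diagonal_one
      rw [h1]
    · intro A hA
      apply sl3_of_matrix
      rw [hX]
      apply exists_pair_of_factor hM0det h4
      obtain ⟨P, P', hP, b, D, e, hNns, hdN⟩ := exists_conj_blk_nonScalar hA A.2
      obtain ⟨B, C, hBC, hBtr, hCtr, hBdet, hCdet⟩ := exists_factor_split hNns hdN hα0
      exact ⟨P, P', hP, b, ![1, 0], D, B, C, e, hBC, by rw [hBtr, hM0tr], by rw [hCtr, hM0tr],
        hBdet, hCdet⟩

end Cfsg.Agent.Lib.Helper47.ClassSq
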