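import Mathlib
import Cfsg.Agent.Lib.Helper47.BruhatGL

set_option autoImplicit false

/-!
# The inner product of two flag permutation characters of `GL_n(q)` is a number of
contingency matrices
-/

namespace Cfsg.Agent.Lib.Helper47

open Finset
open scoped MatrixGroups

section general

/-- a function on `Fin n` with prescribed fibre cardinalities -/
theorem exists_fun_card_fiber {n : ℕ} {K : Type*} [Fintype K] [DecidableEq K] (a : K → ℕ)
    (h : ∑ k, a k = n) : ∃ f : Fin n → K, ∀ k, (univ.filter fun c => f c = k).card = a k := by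
  classical
  have hc : Fintype.card (Σ k, Fin (a k)) = Fintype.card (Fin n) := by
    rw [Fintype.card_sigma, Fintype.card_fin]
    simp only [Fintype.card_fin]
    exact h
  let e : (Σ k, Fin (a k)) ≃ Fin n := Fintype.equivOfCardEq hc
  refine ⟨fun c => (e.symm c).1, ?_⟩
  intro k
  have h1 : (univ.filter fun c : Fin n => (e.symm c).1 = k).card =
      Fintype.card {s : Σ k, Fin (a k) // s.1 = k} := by
    rw [Fintype.card_subtype]
    apply card_bij (fun c _ => e.symm c)
    · intro c hc
      rw [mem_filter] at hc ⊢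
      exact ⟨mem_univ _, hc.2⟩
    · intro c _ c' _ hcc
      exact e.symm.injective hcc
    · intro s hs
      rw [mem_filter] at hs
      exact ⟨e s, mem_filter.mpr ⟨mem_univ _, by rw [Equiv.symm_apply_apply]; exact hs.2⟩,
        Equiv.symm_apply_apply e s⟩
  rw [h1, Fintype.card_congr (Equiv.sigmaSubtype k), Fintype.card_fin]

theorem sum_card_filter_and {n : ℕ} (f g : Fin n → ℕ) (hf : ∀ c, f c < n) (j : ℕ) :
    ∑ i : Fin n, (univ.filter fun c : Fin n => f c = i ∧ g c = j).card =
      (univ.filter fun c : Fin n => g c = j).card := by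
  classical
  rw [card_eq_sum_card_fiberwise (f := fun c => (⟨f c, hf c⟩ : Fin n))
    (s := univ.filter fun c : Fin n => g c = j) (t := univ) (fun c _ => mem_coe.mpr (mem_univ _))]
  apply sum_congr rfl
  intro i _
  congr 1
  ext c
  simp only [mem_filter, mem_univ, true_and, Fin.ext_iff]
  tauto

end general

section
variable {n : ℕ}

/-- the set of contingency matrices with row sums `α` and column sums `β`, as a finset -/
def contFinset (α β : Fin n → ℕ) : Finset (Fin n → Fin n → ℕ) :=
  (Fintype.piFinset fun i => piAntidiag univ (α i)).filter fun A => ∀ j, ∑ i, A i j = β j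

/-- the number of contingency matrices with row sums `α` and column sums `β` -/
def contCount (α β : Fin n → ℕ) : ℕ := (contFinset α β).card

theorem mem_contFinset (α β : Fin n → ℕ) (A : Fin n → Fin n → ℕ) :
    A ∈ contFinset α β ↔ (∀ i, ∑ j, A i j = α i) ∧ (∀ j, ∑ i, A i j = β j) := by
  unfold contFinset
  rw [mem_filter, Fintype.mem_piFinset]
  simp only [mem_piAntidiag, mem_univ, implies_true, and_true]

/-- a matrix of naturals as a function on pairs of naturals -/
def tableOf (A : Fin n → Fin n → ℕ) : ℕ × ℕ → ℕ :=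
  fun ij => if h : ij.1 < n ∧ ij.2 < n then A ⟨ij.1, h.1⟩ ⟨ij.2, h.2⟩ else 0

theorem tableOf_injective : Function.Injective (tableOf (n := n)) := by
  intro A A' h
  funext i j
  have := congrFun h (i.val, j.val)
  unfold tableOf at this
  simp only [i.isLt, j.isLt, and_self, dite_true] at this
  exact this

theorem permTable_eq_zero (b b' : Fin n → ℕ) (hb : ∀ c, b c < n) (hb' : ∀ c, b' c < n)
    (σ : Equiv.Perm (Fin n)) (ij : ℕ × ℕ) (h : ¬ (ij.1 < n ∧ ij.2 < n)) :
    permTable b b' σ ij = 0 := by
  unfold permTable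
  rw [card_eq_zero, filter_eq_empty_iff]
  intro c _ hc
  apply h
  rw [← hc.1, ← hc.2]
  exact ⟨hb _, hb' _⟩

theorem permTable_eq_tableOf (b b' : Fin n → ℕ) (hb : ∀ c, b c < n) (hb' : ∀ c, b' c < n)
    (σ : Equiv.Perm (Fin n)) :
    permTable b b' σ = tableOf (fun i j : Fin n => permTable b b' σ (i.val, j.val)) := by
  funext ij
  unfold tableOf
  by_cases h : ij.1 < n ∧ ij.2 < n
  · rw [dif_pos h]
  · rw [dif_neg h]
    exact permTable_eq_zero b b' hb hb' σ ij h

theorem permTable_mem_contFinset (b b' : Fin n → ℕ) (hb : ∀ c, b c < n) (hb' : ∀ c, b' c < n)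
    (α β : Fin n → ℕ) (hα : ∀ i : Fin n, (univ.filter fun c : Fin n => b c = i).card = α i)
    (hβ : ∀ j : Fin n, (univ.filter fun c : Fin n => b' c = j).card = β j)
    (σ : Equiv.Perm (Fin n)) :
    (fun i j : Fin n => permTable b b' σ (i.val, j.val)) ∈ contFinset α β := by
  classical
  rw [mem_contFinset]
  constructor
  · intro i
    unfold permTable
    have h1 := sum_card_filter_and (fun c => b' c) (fun c => b (σ c)) hb' i.val
    have h2 : ∑ j : Fin n, (univ.filter fun c : Fin n => b (σ c) = i.val ∧ b' c = j.val).card =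
        ∑ j : Fin n, (univ.filter fun c : Fin n => b' c = j.val ∧ b (σ c) = i.val).card := by
      apply sum_congr rfl
      intro j _
      congr 1
      ext c
      simp only [mem_filter, mem_univ, true_and, and_comm]
    rw [h2, h1, ← hα i]
    apply card_bij (fun c _ => σ c)
    · intro c hc
      rw [mem_filter] at hc ⊢
      exact ⟨mem_univ _, hc.2⟩
    · intro c _ c' _ h
      exact σ.injective h
    · intro r hr
      rw [mem_filter] at hr
      exact ⟨σ⁻¹ r, mem_filter.mpr ⟨mem_univ _, by rw [perm_apply_inv]; exact hr.2⟩,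
        perm_apply_inv σ r⟩
  · intro j
    unfold permTable
    have h1 := sum_card_filter_and (fun c => b (σ c)) (fun c => b' c) (fun c => hb _) j.val
    rw [h1, hβ j]

theorem card_filter_snd_eq {X : Type*} [Fintype X] [DecidableEq X] (f : X → Fin n × Fin n)
    (j : Fin n) :
    (univ.filter fun c : X => (f c).2 = j).card =
      ∑ i : Fin n, (univ.filter fun c : X => f c = (i, j)).card := by
  classical
  rw [card_eq_sum_card_fiberwise (f := fun c => (f c).1)
    (s := univ.filter fun c : X => (f c).2 = j) (t := univ) (fun c _ => mem_coe.mpr (mem_univ _))]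
  apply sum_congr rfl
  intro i _
  congr 1
  ext c
  simp only [mem_filter, mem_univ, true_and, Prod.ext_iff]
  tauto

theorem card_filter_fst_eq {X : Type*} [Fintype X] [DecidableEq X] (f : X → Fin n × Fin n)
    (i : Fin n) :
    (univ.filter fun c : X => (f c).1 = i).card =
      ∑ j : Fin n, (univ.filter fun c : X => f c = (i, j)).card := by
  classical
  rw [card_eq_sum_card_fiberwise (f := fun c => (f c).2)
    (s := univ.filter fun c : X => (f c).1 = i) (t := univ) (fun c _ => mem_coe.mpr (mem_univ _))]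
  apply sum_congr rfl
  intro j _
  congr 1
  ext c
  simp only [mem_filter, mem_univ, true_and, Prod.ext_iff]

/-- every contingency matrix with the right margins is the table of a permutation -/
theorem exists_perm_table (b b' : Fin n → ℕ) (hb : ∀ c, b c < n) (hb' : ∀ c, b' c < n)
    (α β : Fin n → ℕ) (hα : ∀ i : Fin n, (univ.filter fun c : Fin n => b c = i).card = α i)
    (hβ : ∀ j : Fin n, (univ.filter fun c : Fin n => b' c = j).card = β j)
    (hsum : ∑ i, α i = n) (A : Fin n → Fin n → ℕ) (hA : A ∈ contFinset α β) :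
    ∃ σ : Equiv.Perm (Fin n), permTable b b' σ = tableOf A := by
  classical
  rw [mem_contFinset] at hA
  obtain ⟨hA1, hA2⟩ := hA
  have hsumA : ∑ k : Fin n × Fin n, A k.1 k.2 = n := by
    rw [Fintype.sum_prod_type]
    simp only [hA1, hsum]
  obtain ⟨f₀, hf₀⟩ := exists_fun_card_fiber (fun k : Fin n × Fin n => A k.1 k.2) hsumA
  -- adjust the second component to be b'
  have hg : ∀ j : ℕ, (univ.filter fun c : Fin n => ((f₀ c).2 : ℕ) = j).card =
      (univ.filter fun c : Fin n => b' c = j).card := by
    intro j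
    by_cases hj : j < n
    · have h1 : (univ.filter fun c : Fin n => ((f₀ c).2 : ℕ) = j) =
          univ.filter fun c : Fin n => (f₀ c).2 = ⟨j, hj⟩ := by
        ext c
        simp only [mem_filter, mem_univ, true_and, Fin.ext_iff]
      rw [h1, card_filter_snd_eq]
      simp only [hf₀]
      rw [hA2, ← hβ]
    · rw [card_eq_zero.mpr, card_eq_zero.mpr]
      · rw [filter_eq_empty_iff]
        intro c _ hc
        exact hj (hc ▸ hb' c)
      · rw [filter_eq_empty_iff]
        intro c _ hc
        exact hj (hc ▸ (f₀ c).2.isLt)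
  obtain ⟨β₁, hβ₁⟩ := exists_perm_comp_eq (fun c : Fin n => ((f₀ c).2 : ℕ)) b' hg
  set f : Fin n → Fin n × Fin n := fun c => f₀ (β₁ c) with hf
  have hfc : ∀ k, (univ.filter fun c : Fin n => f c = k).card = A k.1 k.2 := by
    intro k
    rw [← hf₀ k]
    apply card_bij (fun c _ => β₁ c)
    · intro c hc
      rw [mem_filter] at hc ⊢
      exact ⟨mem_univ _, hc.2⟩
    · intro c _ c' _ h
      exact β₁.injective h
    · intro r hr
      rw [mem_filter] at hr
      exact ⟨β₁⁻¹ r, mem_filter.mpr ⟨mem_univ _, by rw [hf]; simp only; rw [perm_apply_inv]; exact hr.2⟩,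
        perm_apply_inv β₁ r⟩
  have hf2 : ∀ c, ((f c).2 : ℕ) = b' c := fun c => hβ₁ c
  have hh : ∀ i : ℕ, (univ.filter fun c : Fin n => b c = i).card =
      (univ.filter fun c : Fin n => ((f c).1 : ℕ) = i).card := by
    intro i
    by_cases hi : i < n
    · have h1 : (univ.filter fun c : Fin n => ((f c).1 : ℕ) = i) =
          univ.filter fun c : Fin n => (f c).1 = ⟨i, hi⟩ := by
        ext c
        simp only [mem_filter, mem_univ, true_and, Fin.ext_iff]
      rw [h1, card_filter_fst_eq]
      simp only [hfc]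
      rw [hA1, ← hα]
    · rw [card_eq_zero.mpr, card_eq_zero.mpr]
      · rw [filter_eq_empty_iff]
        intro c _ hc
        exact hi (hc ▸ (f c).1.isLt)
      · rw [filter_eq_empty_iff]
        intro c _ hc
        exact hi (hc ▸ hb c)
  obtain ⟨σ, hσ⟩ := exists_perm_comp_eq b (fun c : Fin n => ((f c).1 : ℕ)) hh
  refine ⟨σ, ?_⟩
  funext ij
  obtain ⟨i, j⟩ := ij
  unfold permTable tableOf
  simp only
  by_cases hij : i < n ∧ j < n
  · rw [dif_pos hij, ← hfc (⟨i, hij.1⟩, ⟨j, hij.2⟩)]
    congr 1
    ext c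
    simp only [mem_filter, mem_univ, true_and, Prod.ext_iff, Fin.ext_iff]
    rw [hσ c, ← hf2 c]
  · rw [dif_neg hij, card_eq_zero, filter_eq_empty_iff]
    intro c _ hc
    apply hij
    rw [← hc.1, ← hc.2]
    exact ⟨hb _, hb' _⟩

end

section
variable {n : ℕ} {F : Type*} [Field F] [Fintype F]

theorem range_permTable (μ μ' : Fin n → ℕ) (hμ : ∑ i, μ i = n) (hμ' : ∑ i, μ' i = n) :
    Set.range (permTable (Cfsg.compLabel μ) (Cfsg.compLabel μ')) =
      tableOf '' (contFinset μ μ' : Set (Fin n → Fin n → ℕ)) := by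
  have hb := compLabel_lt μ hμ
  have hb' := compLabel_lt μ' hμ'
  have hα := card_compLabel_eq μ hμ
  have hβ := card_compLabel_eq μ' hμ'
  ext T
  constructor
  · rintro ⟨σ, rfl⟩
    refine ⟨_, permTable_mem_contFinset _ _ hb hb' μ μ' hα hβ σ, ?_⟩
    exact (permTable_eq_tableOf _ _ hb hb' σ).symm
  · rintro ⟨A, hA, rfl⟩
    obtain ⟨σ, hσ⟩ := exists_perm_table _ _ hb hb' μ μ' hα hβ hμ A hA
    exact ⟨σ, hσ⟩

/-- the inner product of two flag characters of `GL_n(q)` is the number of contingency
matrices with the two compositions as margins -/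
theorem fpc_inner_parabolic [Fintype (GL (Fin n) F)] (μ μ' : Fin n → ℕ) (hμ : ∑ i, μ i = n)
    (hμ' : ∑ i, μ' i = n) :
    (Nat.card (GL (Fin n) F) : ℂ)⁻¹ * ∑ g : GL (Fin n) F,
        Cfsg.fixedPointCharacter (Cfsg.parabolicGL n F μ) g *
          Cfsg.fixedPointCharacter (Cfsg.parabolicGL n F μ') g =
      (contCount μ μ' : ℂ) := by
  classical
  have hG := fpc_inner_eq_card_range (Cfsg.parabolicGL n F μ) (Cfsg.parabolicGL n F μ')
    (permGL F (n := n)) (permTable (Cfsg.compLabel μ) (Cfsg.compLabel μ'))
    (fun g => parabolic_dc_exists μ μ' g)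
    (by
      intro σ τ
      constructor
      · exact permTable_eq_of_dcRel μ μ' σ τ
      · intro h
        obtain ⟨α, β, hα, hβ, rfl⟩ := exists_of_permTable_eq _ _ σ τ h
        refine ⟨permGL F α, permGL_mem_parabolic F μ α hα,
          permGL F β, permGL_mem_parabolic F μ' β hβ, ?_⟩
        rw [map_mul, map_mul])
  rw [hG, range_permTable μ μ' hμ hμ']
  congr 1
  rw [Nat.card_image_of_injective tableOf_injective]
  unfold contCount
  rw [Nat.card_coe_set_eq, Set.ncard_coe_finset]

end

end Cfsg.Agent.Lib.Helper47
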