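import Mathlib

set_option autoImplicit false

namespace Cfsg.Agent.Lib.Helper47

open Matrix

section
variable {ι : Type*} [Fintype ι] [DecidableEq ι] {F : Type*} [Field F]

theorem single_mul_single_ne {a b i j : ι} (hij : i ≠ j) (u v : F) :
    (single a i u : Matrix ι ι F) * single j b v = 0 :=
  Matrix.single_mul_single_of_ne (h := hij) ..

theorem mono_eq {i j : ι} (hij : i ≠ j) (c : F) (hc : c ≠ 0) :
    (1 + single i j c) * (1 + single j i (-c⁻¹)) * (1 + single i j c) =
      (1 : Matrix ι ι F) + single i j c + single j i (-c⁻¹) - single i i 1 - single j j 1 := by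
  have h1 : c * -c⁻¹ = -1 := by field_simp
  have h2 : -c⁻¹ * c = -1 := by field_simp
  simp only [mul_add, add_mul, mul_one, one_mul, Matrix.single_mul_single_same,
    single_mul_single_ne hij.symm, h1, h2, neg_one_mul]
  simp only [← Matrix.single_neg]
  abel

theorem diag_eq {i j : ι} (hij : i ≠ j) (c : F) :
    ((1 : Matrix ι ι F) + single i j c + single j i (-c⁻¹) - single i i 1 - single j j 1) *
    ((1 : Matrix ι ι F) + single i j (-1) + single j i (-(-1 : F)⁻¹) - single i i 1 - single j j 1) =
      diagonal (fun k ↦ if k = i then c else if k = j then c⁻¹ else 1) := by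
  have e1 : -c⁻¹ * -1 = c⁻¹ := by ring
  have e2 : c * -(-1 : F)⁻¹ = c := by rw [inv_neg, inv_one]; ring
  simp only [mul_add, add_mul, mul_sub, sub_mul, mul_one, one_mul, Matrix.single_mul_single_same,
    single_mul_single_ne hij, single_mul_single_ne hij.symm, e1, e2]
  ext k l
  simp only [Matrix.add_apply, Matrix.sub_apply, Matrix.one_apply, Matrix.single_apply,
    Matrix.diagonal_apply, Matrix.zero_apply]
  by_cases hki : k = i
  · subst hki
    by_cases hkl : k = l
    · subst hkl; simp [Ne.symm hij]
    · simp [hkl, Ne.symm hij]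
  · by_cases hkj : k = j
    · subst hkj
      by_cases hkl : k = l
      · subst hkl; simp [hij, hki]
      · simp [hij, hkl, hki]
    · by_cases hkl : k = l
      · subst hkl; simp [hki, hkj, Ne.symm hki, Ne.symm hkj]
      · simp [hki, hkj, hkl, Ne.symm hki, Ne.symm hkj]

/-- the diagonal element `diag2n` is a product of six transvections -/
theorem diag2n_decompose {i j : ι} (hij : i ≠ j) (c : F) (hc : c ≠ 0) :
    Matrix.SpecialLinearGroup.diag2n hij c hc =
      (Matrix.SpecialLinearGroup.transvection hij c *
      Matrix.SpecialLinearGroup.transvection hij.symm (-c⁻¹) *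
      Matrix.SpecialLinearGroup.transvection hij c) *
      (Matrix.SpecialLinearGroup.transvection hij (-1) *
      Matrix.SpecialLinearGroup.transvection hij.symm (-(-1 : F)⁻¹) *
      Matrix.SpecialLinearGroup.transvection hij (-1)) := by
  apply Matrix.SpecialLinearGroup.ext
  intro k l
  simp only [Matrix.SpecialLinearGroup.coe_mul, Matrix.SpecialLinearGroup.transvection_coe,
    Matrix.SpecialLinearGroup.diag2n_coe]
  rw [mono_eq hij c hc, mono_eq hij (-1) (by norm_num), diag_eq hij c]

theorem comm_eq {i j k : ι} (hij : i ≠ j) (hjk : j ≠ k) (hik : i ≠ k) (a b : F) :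
    (1 + single i j a) * (1 + single j k b) * (1 + single i j (-a)) * (1 + single j k (-b)) =
      (1 : Matrix ι ι F) + single i k (a * b) := by
  simp only [mul_add, add_mul, mul_one, one_mul, Matrix.single_mul_single_same,
    single_mul_single_ne hij.symm, single_mul_single_ne hjk.symm, single_mul_single_ne hik.symm,
    single_mul_single_ne hij, single_mul_single_ne hjk, single_mul_single_ne hik,
    mul_neg, neg_mul, mul_zero, zero_mul, add_zero, zero_add]
  simp only [← Matrix.single_neg]
  abel

/-- Chevalley commutator formula for elementary transvections -/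
theorem transvection_comm {i j k : ι} (hij : i ≠ j) (hjk : j ≠ k) (hik : i ≠ k) (a b : F) :
    Matrix.SpecialLinearGroup.transvection hij a * Matrix.SpecialLinearGroup.transvection hjk b *
    (Matrix.SpecialLinearGroup.transvection hij a)⁻¹ * (Matrix.SpecialLinearGroup.transvection hjk b)⁻¹ =
      Matrix.SpecialLinearGroup.transvection hik (a * b) := by
  rw [Matrix.SpecialLinearGroup.transvection_inv, Matrix.SpecialLinearGroup.transvection_inv]
  apply Matrix.SpecialLinearGroup.ext
  intro k l
  simp only [Matrix.SpecialLinearGroup.coe_mul, Matrix.SpecialLinearGroup.transvection_coe]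
  rw [comm_eq hij hjk hik]

theorem transvection_natCast {i j : ι} (hij : i ≠ j) (k : ℕ) :
    Matrix.SpecialLinearGroup.transvection hij (k : F) =
      (Matrix.SpecialLinearGroup.transvection hij (1 : F)) ^ k := by
  induction k with
  | zero => simp [Matrix.SpecialLinearGroup.transvection_coeff_zero]
  | succ m ih =>
    rw [Nat.cast_succ, Matrix.SpecialLinearGroup.transvection_add, ih, pow_succ]

/-- a subgroup of `SL` containing all elementary transvections is everything -/
theorem eq_top_of_transvection_mem [Nontrivial ι] (H : Subgroup (Matrix.SpecialLinearGroup ι F))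
    (h : ∀ (i j : ι) (hij : i ≠ j) (c : F), Matrix.SpecialLinearGroup.transvection hij c ∈ H) :
    H = ⊤ := by
  rw [eq_top_iff]
  intro M _
  refine Matrix.SpecialLinearGroup.diagonal_transvection_induction' (fun M => M ∈ H) M ?_ h
    (fun A B hA hB => mul_mem hA hB)
  intro i j hij c hc
  rw [diag2n_decompose hij c hc]
  exact mul_mem (mul_mem (mul_mem (h _ _ _ _) (h _ _ _ _)) (h _ _ _ _))
    (mul_mem (mul_mem (h _ _ _ _) (h _ _ _ _)) (h _ _ _ _))

end

/-- in a field with at most three elements every element is a natural number cast -/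
theorem exists_natCast_of_card_le_three {K : Type*} [Field K] [Fintype K] (hK : Fintype.card K ≤ 3)
    (c : K) : ∃ k : ℕ, c = (k : K) := by
  obtain ⟨p, hp⟩ := CharP.exists K
  have hprime : p.Prime := by
    rcases CharP.char_is_prime_or_zero K p with h | h
    · exact h
    · exfalso
      subst h
      haveI : CharZero K := CharP.charP_to_charZero K
      exact not_finite K
  haveI : Fact p.Prime := ⟨hprime⟩
  obtain ⟨m, hm⟩ := FiniteField.card K p
  have hm1 : (m : ℕ) = 1 := by
    by_contra hne
    have hm2 : 2 ≤ (m : ℕ) := by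
      have := m.pos
      omega
    have : p ^ 2 ≤ p ^ (m : ℕ) := Nat.pow_le_pow_right hprime.pos hm2
    have h2 : 2 ≤ p := hprime.two_le
    have : 4 ≤ p ^ 2 := by nlinarith
    omega
  have hcard : Fintype.card K = p := by rw [hm.2, hm1, pow_one]
  have hinj : Function.Injective (ZMod.castHom (dvd_refl p) K) := RingHom.injective _
  have hbij : Function.Bijective (ZMod.castHom (dvd_refl p) K) := by
    rw [Fintype.bijective_iff_injective_and_card]
    exact ⟨hinj, by rw [ZMod.card, hcard]⟩
  obtain ⟨z, hz⟩ := hbij.2 c
  refine ⟨z.val, ?_⟩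
  rw [← hz]
  simp

end Cfsg.Agent.Lib.Helper47
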