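import Mathlib
import Cfsg.Agent.Lib.Helper47.Transvection

set_option autoImplicit false

namespace Cfsg.Agent.Lib.Helper47

open Matrix

section
variable {K : Type*} [Field K] {n : ℕ}

/-- the sign attached to row `i` of the monomial matrix `w` -/
def eps (n : ℕ) (K : Type*) [Field K] (i : Fin (n + 1)) : K := if i.val = n then (-1) ^ n else 1

theorem eps_mul_self (i : Fin (n + 1)) : eps n K i * eps n K i = 1 := by
  unfold eps
  split_ifs
  · rw [← mul_pow]; simp
  · simp

/-- the monomial matrix, rewritten with cyclic addition in `Fin (n+1)` -/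
theorem w_entry (i j : Fin (n + 1)) :
    (if j.val = i.val + 1 then (1 : K) else if i.val = n ∧ j.val = 0 then (-1) ^ n else 0) =
      if j = i + 1 then eps n K i else 0 := by
  have hi := i.isLt
  have hj := j.isLt
  by_cases hin : i.val = n
  · have h1 : (i + 1).val = 0 := by
      rw [Fin.val_add, hin]
      simp
    have : ¬ j.val = i.val + 1 := by omega
    rw [if_neg this]
    by_cases hj0 : j.val = 0
    · have : j = i + 1 := Fin.ext (by rw [h1, hj0])
      rw [if_pos ⟨hin, hj0⟩, if_pos this, eps, if_pos hin]
    · have : ¬ j = i + 1 := fun h => hj0 (by rw [h, h1])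
      rw [if_neg (fun h => hj0 h.2), if_neg this]
  · have h1 : (i + 1).val = i.val + 1 := by
      rw [Fin.val_add]
      have : (1 : Fin (n + 1)).val = 1 % (n + 1) := rfl
      rw [this]
      rw [Nat.add_mod_mod]
      exact Nat.mod_eq_of_lt (by omega)
    by_cases hj1 : j.val = i.val + 1
    · have : j = i + 1 := Fin.ext (by rw [h1, hj1])
      rw [if_pos hj1, if_pos this, eps, if_neg hin]
    · have : ¬ j = i + 1 := fun h => hj1 (by rw [h, h1])
      rw [if_neg hj1, if_neg (fun h => hin h.1), if_neg this]

theorem shift_eq (W : Matrix (Fin (n + 1)) (Fin (n + 1)) K)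
    (hW : ∀ i j, W i j = if j = i + 1 then eps n K i else 0)
    (a b : Fin (n + 1)) (c : K) :
    (1 + single a b c) * W = W * (1 + single (a + 1) (b + 1) (c * eps n K a * eps n K b)) := by
  rw [add_mul, mul_add, one_mul, mul_one]
  congr 1
  ext i j
  by_cases hia : i = a
  · subst hia
    rw [Matrix.single_mul_apply_same]
    by_cases hjb : j = b + 1
    · subst hjb
      rw [Matrix.mul_single_apply_same, hW, hW, if_pos rfl, if_pos rfl]
      have := eps_mul_self (K := K) i
      linear_combination (-(c * eps n K b)) * this
    · rw [Matrix.mul_single_apply_of_ne (hbj := hjb), hW, if_neg hjb, mul_zero]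
  · rw [Matrix.single_mul_apply_of_ne (h := hia)]
    by_cases hjb : j = b + 1
    · subst hjb
      rw [Matrix.mul_single_apply_same, hW]
      have : ¬ a + 1 = i + 1 := fun h => hia (add_right_cancel h).symm
      rw [if_neg this, zero_mul]
    · rw [Matrix.mul_single_apply_of_ne (hbj := hjb)]

theorem transvection_congr {ι : Type*} [Fintype ι] [DecidableEq ι] {i j i' j' : ι} (hi : i = i') (hj : j = j')
    (h : i ≠ j) (h' : i' ≠ j') (c : K) :
    Matrix.SpecialLinearGroup.transvection h c = Matrix.SpecialLinearGroup.transvection h' c := by
  subst hi; subst hj; rfl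

end


/-- A subgroup of `SL_{n+1}(K)` containing the cyclic monomial matrix `w` and the whole root
subgroup `E₀₁(c)` is everything. -/
theorem eq_top_of_cycle {K : Type*} [Field K] (n : ℕ) (hn : 1 ≤ n)
    (H : Subgroup (Matrix.SpecialLinearGroup (Fin (n + 1)) K))
    (w : Matrix.SpecialLinearGroup (Fin (n + 1)) K) (hwH : w ∈ H)
    (hW : ∀ i j, (w : Matrix (Fin (n + 1)) (Fin (n + 1)) K) i j = if j = i + 1 then eps n K i else 0)
    (h01 : (0 : Fin (n + 1)) ≠ 1)
    (hbase : ∀ c : K, Matrix.SpecialLinearGroup.transvection h01 c ∈ H) : H = ⊤ := by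
  haveI : Nontrivial (Fin (n + 1)) := Fin.nontrivial_iff_two_le.mpr (by omega)
  apply eq_top_of_transvection_mem H
  -- shifting
  have hshift : ∀ (a b : Fin (n + 1)) (hab : a ≠ b) (hab' : a + 1 ≠ b + 1),
      (∀ c : K, Matrix.SpecialLinearGroup.transvection hab c ∈ H) →
      ∀ c : K, Matrix.SpecialLinearGroup.transvection hab' c ∈ H := by
    intro a b hab hab' h c
    have key : Matrix.SpecialLinearGroup.transvection hab (c * eps n K a * eps n K b) * w =
        w * Matrix.SpecialLinearGroup.transvection hab' c := by
      apply Matrix.SpecialLinearGroup.ext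
      intro i j
      rw [Matrix.SpecialLinearGroup.coe_mul, Matrix.SpecialLinearGroup.coe_mul,
        Matrix.SpecialLinearGroup.transvection_coe, Matrix.SpecialLinearGroup.transvection_coe,
        shift_eq _ hW]
      have e1 := eps_mul_self (K := K) a
      have e2 := eps_mul_self (K := K) b
      have : c * eps n K a * eps n K b * eps n K a * eps n K b = c := by
        linear_combination (c * eps n K b * eps n K b) * e1 + c * e2
      rw [this]
    have : Matrix.SpecialLinearGroup.transvection hab' c =
        w⁻¹ * (Matrix.SpecialLinearGroup.transvection hab (c * eps n K a * eps n K b) * w) := by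
      rw [key]; group
    rw [this]
    exact mul_mem (inv_mem hwH) (mul_mem (h _) hwH)
  -- consecutive
  have hne_succ : ∀ i : Fin (n + 1), i ≠ i + 1 := by
    intro i h
    have : (0 : Fin (n + 1)) = 1 := by
      have h' : i + 0 = i + 1 := by rwa [add_zero]
      exact add_left_cancel h'
    exact h01 this
  have hcons' : ∀ (i : Fin (n + 1)) (h : i ≠ i + 1) (c : K),
      Matrix.SpecialLinearGroup.transvection h c ∈ H := by
    intro i
    induction i using Fin.induction with
    | zero =>
      intro h c
      rw [transvection_congr rfl (zero_add 1) h h01 c]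
      exact hbase c
    | succ k ih =>
      intro h c
      have hk := hne_succ k.castSucc
      have := hshift _ _ hk (by
        intro h'; exact hk (add_right_cancel h')) (ih hk) c
      rw [transvection_congr (Fin.coeSucc_eq_succ (a := k)).symm
        (by rw [← Fin.coeSucc_eq_succ]) h _ c]
      exact this
  -- all pairs
  have hall : ∀ (i k : Fin (n + 1)), i + k = i ∨ ∀ (h : i ≠ i + k) (c : K),
      Matrix.SpecialLinearGroup.transvection h c ∈ H := by
    intro i k
    induction k using Fin.induction with
    | zero => left; simp
    | succ k ih =>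
      have hsucc : i + k.succ = (i + k.castSucc) + 1 := by
        rw [← Fin.coeSucc_eq_succ, add_assoc]
      by_cases hik : i + k.succ = i
      · left; exact hik
      · right
        intro h c
        by_cases h1 : i + k.castSucc = i
        · rw [transvection_congr rfl (by rw [hsucc, h1]) h (hne_succ i) c]
          exact hcons' i _ c
        · have ih' : ∀ (h : i ≠ i + k.castSucc) (c : K),
              Matrix.SpecialLinearGroup.transvection h c ∈ H := by
            rcases ih with ih | ih
            · exact absurd ih h1
            · exact ih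
          have h1' : i ≠ i + k.castSucc := fun e => h1 e.symm
          have h2 : i + k.castSucc ≠ i + k.castSucc + 1 := hne_succ _
          have h3 : i ≠ i + k.castSucc + 1 := by rw [← hsucc]; exact h
          have hc := transvection_comm h1' h2 h3 c (1 : K)
          rw [mul_one] at hc
          rw [transvection_congr rfl hsucc h h3 c, ← hc]
          exact mul_mem (mul_mem (mul_mem (ih' _ _) (hcons' _ _ _)) (inv_mem (ih' _ _)))
            (inv_mem (hcons' _ _ _))
  intro i j hij c
  have hj : i + (j - i) = j := by abel
  rcases hall i (j - i) with h | h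
  · exact absurd (hj.symm.trans h).symm hij
  · rw [transvection_congr rfl hj.symm hij (by rw [hj]; exact hij) c]
    exact h _ c


end Cfsg.Agent.Lib.Helper47
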