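import Mathlib
import Cfsg.Agent.Lib.Helper47.ContingencyCount

set_option autoImplicit false

/-!
# The Jacobi–Trudi / bialternant identity, and the orthogonality of the determinantal
combinations of contingency numbers
-/

namespace Cfsg.Agent.Lib.Helper47

open Finset

section
variable (n : ℕ)

/-- the geometric series `∑ (X_l t)^a` -/
noncomputable def geomPS (l : Fin n) : PowerSeries (MvPolynomial (Fin n) ℤ) :=
  PowerSeries.mk fun a => (MvPolynomial.X l) ^ a

theorem geomPS_mul (l : Fin n) :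
    geomPS n l * (1 - PowerSeries.C (MvPolynomial.X l) * PowerSeries.X) = 1 := by
  ext m
  rw [mul_sub, mul_one, map_sub, ← mul_assoc]
  rcases m with _ | m
  · rw [PowerSeries.coeff_zero_mul_X, sub_zero, geomPS, PowerSeries.coeff_mk, pow_zero,
      PowerSeries.coeff_zero_one]
  · rw [PowerSeries.coeff_succ_mul_X, PowerSeries.coeff_mul_C, geomPS, PowerSeries.coeff_mk,
      PowerSeries.coeff_mk, pow_succ, sub_self, PowerSeries.coeff_one, if_neg (Nat.succ_ne_zero m)]

/-- the generating series of the complete homogeneous symmetric polynomials -/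
noncomputable def HPS : PowerSeries (MvPolynomial (Fin n) ℤ) := ∏ l : Fin n, geomPS n l

/-- the complete homogeneous symmetric polynomial of degree `m` -/
noncomputable def hpoly (m : ℕ) : MvPolynomial (Fin n) ℤ := PowerSeries.coeff m (HPS n)

/-- `∏_{l ≠ k} (1 - X_l t)` as a polynomial in `t` -/
noncomputable def Epoly (k : Fin n) : Polynomial (MvPolynomial (Fin n) ℤ) :=
  ∏ l ∈ univ.erase k, (1 - Polynomial.C (MvPolynomial.X l) * Polynomial.X)

theorem Epoly_coe (k : Fin n) :
    ((Epoly n k : Polynomial (MvPolynomial (Fin n) ℤ)) : PowerSeries (MvPolynomial (Fin n) ℤ)) =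
      ∏ l ∈ univ.erase k, (1 - PowerSeries.C (MvPolynomial.X l) * PowerSeries.X) := by
  rw [← Polynomial.coeToPowerSeries.ringHom_apply, Epoly, map_prod]
  apply prod_congr rfl
  intro l _
  rw [Polynomial.coeToPowerSeries.ringHom_apply, Polynomial.coe_sub, Polynomial.coe_one,
    Polynomial.coe_mul, Polynomial.coe_C, Polynomial.coe_X]

theorem HPS_mul_Epoly (k : Fin n) :
    HPS n * ((Epoly n k : Polynomial (MvPolynomial (Fin n) ℤ)) :
      PowerSeries (MvPolynomial (Fin n) ℤ)) = geomPS n k := by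
  rw [Epoly_coe, HPS, ← mul_prod_erase univ (geomPS n) (mem_univ k), mul_assoc,
    ← prod_mul_distrib]
  rw [prod_eq_one, mul_one]
  intro l _
  exact geomPS_mul n l

theorem Epoly_coeff_eq_zero (k : Fin n) (r : ℕ) (hr : n ≤ r) : (Epoly n k).coeff r = 0 := by
  apply Polynomial.coeff_eq_zero_of_natDegree_lt
  have h1 : (Epoly n k).natDegree ≤ ∑ l ∈ univ.erase k, 1 := by
    unfold Epoly
    apply le_trans (Polynomial.natDegree_prod_le _ _)
    apply sum_le_sum
    intro l _
    compute_degree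
  rw [sum_const, card_erase_of_mem (mem_univ k), card_univ, Fintype.card_fin, smul_eq_mul,
    mul_one] at h1
  have := k.pos
  omega

theorem Epoly_hpoly (k : Fin n) (m : ℕ) :
    ∑ r ∈ range (m + 1), (Epoly n k).coeff r * hpoly n (m - r) = (MvPolynomial.X k) ^ m := by
  have h := congrArg (PowerSeries.coeff m) (HPS_mul_Epoly n k)
  rw [mul_comm, PowerSeries.coeff_mul, Finset.Nat.sum_antidiagonal_eq_sum_range_succ_mk] at h
  simp only [Polynomial.coeff_coe] at h
  rw [geomPS, PowerSeries.coeff_mk] at h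
  exact h

/-- the Jacobi–Trudi matrix `(h_{lam i - r})` -/
noncomputable def Hmat (lam : Fin n → ℕ) : Matrix (Fin n) (Fin n) (MvPolynomial (Fin n) ℤ) :=
  fun i r => if (r : ℕ) ≤ lam i then hpoly n (lam i - r) else 0

/-- the matrix of the coefficients of the `Epoly` -/
noncomputable def Emat : Matrix (Fin n) (Fin n) (MvPolynomial (Fin n) ℤ) :=
  fun r k => (Epoly n k).coeff r

/-- the alternant matrix `(X_k ^ lam i)` -/
noncomputable def Amat (lam : Fin n → ℕ) : Matrix (Fin n) (Fin n) (MvPolynomial (Fin n) ℤ) :=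
  fun i k => (MvPolynomial.X k) ^ lam i

theorem Hmat_mul_Emat (lam : Fin n → ℕ) : Hmat n lam * Emat n = Amat n lam := by
  apply Matrix.ext
  intro i k
  rw [Matrix.mul_apply]
  unfold Hmat Emat Amat
  rw [← Epoly_hpoly n k (lam i)]
  have h1 : ∑ r : Fin n, (if (r : ℕ) ≤ lam i then hpoly n (lam i - r) else 0) *
      (Epoly n k).coeff r =
      ∑ r ∈ range n, (if r ≤ lam i then (Epoly n k).coeff r * hpoly n (lam i - r) else 0) := by
    rw [← Fin.sum_univ_eq_sum_range (fun r => if r ≤ lam i then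
      (Epoly n k).coeff r * hpoly n (lam i - r) else 0) n]
    apply sum_congr rfl
    intro r _
    split_ifs
    · ring
    · ring
  rw [h1, ← sum_filter]
  have h2 : ∑ r ∈ range (lam i + 1), (Epoly n k).coeff r * hpoly n (lam i - r) =
      ∑ r ∈ (range (lam i + 1)).filter (fun r => r < n),
        (Epoly n k).coeff r * hpoly n (lam i - r) := by
    rw [sum_filter]
    apply sum_congr rfl
    intro r _
    split_ifs with h
    · rfl
    · rw [Epoly_coeff_eq_zero n k r (by omega), zero_mul]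
  rw [h2]
  apply sum_congr _ (fun _ _ => rfl)
  ext r
  simp only [mem_filter, mem_range]
  omega

theorem hpoly_zero : hpoly n 0 = 1 := by
  unfold hpoly HPS
  rw [PowerSeries.coeff_zero_eq_constantCoeff, map_prod]
  apply prod_eq_one
  intro l _
  rw [← PowerSeries.coeff_zero_eq_constantCoeff_apply, geomPS, PowerSeries.coeff_mk, pow_zero]

theorem det_Hmat_id : (Hmat n (fun i => (i : ℕ))).det = 1 := by
  rw [Matrix.det_of_isLowerTriangular]
  · apply prod_eq_one
    intro i _
    unfold Hmat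
    rw [if_pos le_rfl, Nat.sub_self, hpoly_zero]
  · intro i r hir
    unfold Hmat
    rw [if_neg]
    simp only [not_le]
    exact hir

theorem det_Hmat_mul (lam : Fin n → ℕ) :
    (Hmat n lam).det * (Amat n (fun i => (i : ℕ))).det = (Amat n lam).det := by
  have h1 := congrArg Matrix.det (Hmat_mul_Emat n lam)
  have h2 := congrArg Matrix.det (Hmat_mul_Emat n (fun i => (i : ℕ)))
  rw [Matrix.det_mul] at h1 h2
  rw [det_Hmat_id, one_mul] at h2
  rw [← h2, h1]

/-- a function on `Fin n` as a finitely supported function -/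
noncomputable def toFs (e : Fin n → ℕ) : Fin n →₀ ℕ := Finsupp.equivFunOnFinite.symm e

theorem toFs_apply (e : Fin n → ℕ) (j : Fin n) : toFs n e j = e j := rfl

theorem toFs_injective : Function.Injective (toFs n) := Finsupp.equivFunOnFinite.symm.injective

theorem prod_X_pow_eq (e : Fin n → ℕ) :
    ∏ j, (MvPolynomial.X j : MvPolynomial (Fin n) ℤ) ^ e j =
      MvPolynomial.monomial (toFs n e) 1 := by
  rw [MvPolynomial.monomial_eq, map_one, one_mul, Finsupp.prod_fintype]
  · rfl
  · intro i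
    rw [pow_zero]

theorem coeff_prod_X_pow (e β : Fin n → ℕ) :
    MvPolynomial.coeff (toFs n β) (∏ j, (MvPolynomial.X j : MvPolynomial (Fin n) ℤ) ^ e j) =
      if e = β then 1 else 0 := by
  classical
  rw [prod_X_pow_eq, MvPolynomial.coeff_monomial]
  by_cases h : e = β
  · rw [if_pos h, if_pos (by rw [h])]
  · rw [if_neg h, if_neg (fun h' => h (toFs_injective n h'))]

theorem hpoly_eq (m : ℕ) :
    hpoly n m = ∑ a ∈ piAntidiag univ m, ∏ j, (MvPolynomial.X j : MvPolynomial (Fin n) ℤ) ^ a j := by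
  classical
  unfold hpoly HPS
  rw [PowerSeries.coeff_prod]
  simp only [geomPS, PowerSeries.coeff_mk]
  apply sum_nbij' (fun l : Fin n →₀ ℕ => (⇑l : Fin n → ℕ)) (fun a : Fin n → ℕ => toFs n a)
  · intro l hl
    rw [mem_finsuppAntidiag] at hl
    rw [mem_piAntidiag]
    exact ⟨hl.1, fun i _ => mem_univ i⟩
  · intro a ha
    rw [mem_piAntidiag] at ha
    rw [mem_finsuppAntidiag]
    exact ⟨ha.1, subset_univ _⟩
  · intro l _
    ext i
    rfl
  · intro a _
    rfl
  · intro l _
    rfl

theorem coeff_prod_hpoly (α β : Fin n → ℕ) :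
    MvPolynomial.coeff (toFs n β) (∏ i, hpoly n (α i)) = (contCount α β : ℤ) := by
  classical
  simp only [hpoly_eq]
  rw [prod_univ_sum, MvPolynomial.coeff_sum]
  have h1 : ∀ A ∈ Fintype.piFinset (fun i : Fin n => piAntidiag (univ : Finset (Fin n)) (α i)),
      MvPolynomial.coeff (toFs n β)
        (∏ i, ∏ j, (MvPolynomial.X j : MvPolynomial (Fin n) ℤ) ^ A i j) =
      if (∀ j, ∑ i, A i j = β j) then 1 else 0 := by
    intro A _
    rw [prod_comm]
    simp only [prod_pow_eq_pow_sum]
    rw [coeff_prod_X_pow]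
    congr 1
    rw [funext_iff]
  rw [sum_congr rfl h1, sum_boole]
  rfl

theorem toFs_le (e f : Fin n → ℕ) : toFs n e ≤ toFs n f ↔ ∀ k, e k ≤ f k := by
  rw [Finsupp.le_def]
  rfl

theorem toFs_sub (e f : Fin n → ℕ) : toFs n f - toFs n e = toFs n (fun k => f k - e k) := by
  ext k
  rw [Finsupp.tsub_apply]
  rfl

variable {n} in
theorem perm_eq_one_of_strictMono (σ : Equiv.Perm (Fin n)) (h : StrictMono σ) : σ = 1 := by
  have h1 : ∀ i, i ≤ σ i := fun i => h.id_le i
  have hinv : StrictMono (σ⁻¹ : Equiv.Perm (Fin n)) := by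
    intro i j hij
    by_contra hle
    have := h.monotone (not_lt.mp hle)
    rw [perm_apply_inv, perm_apply_inv] at this
    exact absurd hij (not_lt.mpr this)
  have h2 : ∀ i, i ≤ (σ⁻¹ : Equiv.Perm (Fin n)) i := fun i => hinv.id_le i
  ext i
  have h3 := h2 (σ i)
  rw [perm_inv_apply] at h3
  have := le_antisymm h3 (h1 i)
  rw [this]
  rfl

theorem coeff_det_Amat (lam lam' : Fin n → ℕ) (h : StrictMono lam) (h' : StrictMono lam') :
    MvPolynomial.coeff (toFs n lam') (Amat n lam).det = if lam = lam' then 1 else 0 := by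
  classical
  rw [Matrix.det_apply', MvPolynomial.coeff_sum]
  have hterm : ∀ σ : Equiv.Perm (Fin n),
      MvPolynomial.coeff (toFs n lam')
        (((Equiv.Perm.sign σ : ℤˣ) : ℤ) * ∏ k, Amat n lam (σ k) k : MvPolynomial (Fin n) ℤ) =
      if σ = 1 ∧ lam = lam' then 1 else 0 := by
    intro σ
    have h1 : (((Equiv.Perm.sign σ : ℤˣ) : ℤ) : MvPolynomial (Fin n) ℤ) =
        MvPolynomial.C ((Equiv.Perm.sign σ : ℤˣ) : ℤ) := by
      rw [eq_intCast]
    rw [h1, MvPolynomial.coeff_C_mul]
    unfold Amat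
    rw [coeff_prod_X_pow]
    by_cases hc : (fun k => lam (σ k)) = lam'
    · have hσ : σ = 1 := by
        apply perm_eq_one_of_strictMono
        intro i j hij
        have := h' hij
        rw [← hc] at this
        exact h.lt_iff_lt.mp this
      subst hσ
      have hl : lam = lam' := by
        rw [← hc]
        rfl
      rw [if_pos hc, if_pos ⟨rfl, hl⟩, Equiv.Perm.sign_one]
      simp
    · rw [if_neg hc, mul_zero, if_neg]
      rintro ⟨rfl, rfl⟩
      exact hc rfl
  rw [sum_congr rfl (fun σ _ => hterm σ)]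
  by_cases hl : lam = lam'
  · rw [if_pos hl, sum_eq_single 1]
    · rw [if_pos ⟨rfl, hl⟩]
    · intro σ _ hσ
      rw [if_neg (fun hh => hσ hh.1)]
    · intro hh
      exact absurd (mem_univ _) hh
  · rw [if_neg hl]
    apply sum_eq_zero
    intro σ _
    rw [if_neg (fun hh => hl hh.2)]

/-- the orthogonality of the determinantal combinations of contingency numbers -/
theorem alt_sum_contCount (lam lam' : Fin n → ℕ) (h : StrictMono lam) (h' : StrictMono lam') :
    ∑ κ' : Equiv.Perm (Fin n), ∑ κ : Equiv.Perm (Fin n),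
      (if (∀ k, ((κ' k : Fin n) : ℕ) ≤ lam' k) then
        (if (∀ i, ((κ i : Fin n) : ℕ) ≤ lam i) then
          ((Equiv.Perm.sign κ' : ℤˣ) : ℤ) * ((Equiv.Perm.sign κ : ℤˣ) : ℤ) *
            (contCount (fun i => lam i - ((κ i : Fin n) : ℕ))
              (fun k => lam' k - ((κ' k : Fin n) : ℕ)) : ℤ)
          else 0) else 0) = if lam = lam' then 1 else 0 := by
  classical
  have hdet := det_Hmat_mul n lam
  have hc := coeff_det_Amat n lam lam' h h'
  rw [← hdet, mul_comm] at hc
  rw [← hc]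
  rw [Matrix.det_apply' (Amat n fun i => (i : ℕ)), ← Matrix.det_transpose (Hmat n lam),
    Matrix.det_apply' (Hmat n lam).transpose, Finset.sum_mul_sum, MvPolynomial.coeff_sum]
  apply sum_congr rfl
  intro κ' _
  rw [MvPolynomial.coeff_sum]
  apply sum_congr rfl
  intro κ _
  have h1 : ∀ σ : Equiv.Perm (Fin n), (((Equiv.Perm.sign σ : ℤˣ) : ℤ) : MvPolynomial (Fin n) ℤ) =
      MvPolynomial.C ((Equiv.Perm.sign σ : ℤˣ) : ℤ) := by
    intro σ
    rw [eq_intCast]
  have h2 : ∏ k, Amat n (fun i => (i : ℕ)) (κ' k) k =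
      MvPolynomial.monomial (toFs n fun k => ((κ' k : Fin n) : ℕ)) (1 : ℤ) := by
    unfold Amat
    exact prod_X_pow_eq n (fun k => ((κ' k : Fin n) : ℕ))
  have h3 : ∏ i, (Hmat n lam).transpose (κ i) i =
      if (∀ i, ((κ i : Fin n) : ℕ) ≤ lam i) then
        ∏ i, hpoly n (lam i - ((κ i : Fin n) : ℕ)) else 0 := by
    simp only [Matrix.transpose_apply]
    unfold Hmat
    rw [prod_ite_zero]
    simp only [mem_univ, true_implies]
  rw [h1, h1, h2, h3]
  have h4 : MvPolynomial.C ((Equiv.Perm.sign κ' : ℤˣ) : ℤ) *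
      MvPolynomial.monomial (toFs n fun k => ((κ' k : Fin n) : ℕ)) (1 : ℤ) *
      (MvPolynomial.C ((Equiv.Perm.sign κ : ℤˣ) : ℤ) *
        if (∀ i, ((κ i : Fin n) : ℕ) ≤ lam i) then
          ∏ i, hpoly n (lam i - ((κ i : Fin n) : ℕ)) else 0) =
      MvPolynomial.monomial (toFs n fun k => ((κ' k : Fin n) : ℕ)) (1 : ℤ) *
        (MvPolynomial.C (((Equiv.Perm.sign κ' : ℤˣ) : ℤ) * ((Equiv.Perm.sign κ : ℤˣ) : ℤ)) *
          if (∀ i, ((κ i : Fin n) : ℕ) ≤ lam i) then
            ∏ i, hpoly n (lam i - ((κ i : Fin n) : ℕ)) else 0) := by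
    rw [map_mul]
    ring
  rw [h4, MvPolynomial.coeff_monomial_mul']
  by_cases hk' : ∀ k, ((κ' k : Fin n) : ℕ) ≤ lam' k
  · rw [if_pos hk', if_pos ((toFs_le n _ _).mpr hk'), toFs_sub, one_mul,
      MvPolynomial.coeff_C_mul]
    by_cases hk : ∀ i, ((κ i : Fin n) : ℕ) ≤ lam i
    · rw [if_pos hk, if_pos hk, coeff_prod_hpoly]
    · rw [if_neg hk, if_neg hk, MvPolynomial.coeff_zero, mul_zero]
  · rw [if_neg hk', if_neg (fun hh => hk' ((toFs_le n _ _).mp hh))]

end

end Cfsg.Agent.Lib.Helper47
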