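import Mathlib
import Cfsg.Agent.S0157
import Cfsg.Agent.Lib.Helper34.GenChar
import Cfsg.Agent.Lib.Helper47.JacobiTrudi

set_option autoImplicit false

/-!
# The partition-indexed (unipotent) characters of `GL_n(q)`: orthonormality
-/

namespace Cfsg.Agent.Lib.Helper47

open Finset
open scoped MatrixGroups ComplexConjugate

section
variable {n : ℕ}

theorem sum_lam_sub (ν : Fin n → ℕ) (hsum : ∑ i, ν i = n) (κ : Equiv.Perm (Fin n))
    (hc : ∀ i : Fin n, (κ i).val ≤ ν i + i.val) :
    ∑ i : Fin n, (ν i + i.val - (κ i).val) = n := by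
  have h1 : ∑ i : Fin n, (ν i + i.val - (κ i).val) + ∑ i : Fin n, (κ i).val =
      ∑ i : Fin n, (ν i + i.val) := by
    rw [← Finset.sum_add_distrib]
    apply Finset.sum_congr rfl
    intro i _
    exact Nat.sub_add_cancel (hc i)
  have h2 : ∑ i : Fin n, ((κ i : Fin n) : ℕ) = ∑ i : Fin n, (i : ℕ) :=
    Equiv.sum_comp κ (fun i : Fin n => (i : ℕ))
  rw [Finset.sum_add_distrib, hsum, h2] at h1
  omega

theorem strictMono_lam (ν : Fin n → ℕ) (hmono : Monotone ν) :
    StrictMono (fun i : Fin n => ν i + i.val) := by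
  intro i j hij
  have := hmono hij.le
  have h2 : i.val < j.val := hij
  simp only
  omega

theorem lam_injective (ν ν' : Fin n → ℕ)
    (h : (fun i : Fin n => ν i + i.val) = fun i : Fin n => ν' i + i.val) : ν = ν' := by
  funext i
  have h1 : ν i + i.val = ν' i + i.val := congrFun h i
  omega

end

section
variable {n : ℕ} {F : Type*} [Field F] [Fintype F]

theorem fpc_isCharacter {G : Type*} [Group G] [Fintype G] (H : Subgroup G) :
    Cfsg.IsCharacter G (Cfsg.fixedPointCharacter H) :=
  Cfsg.Agent.S0157.isCharacter_permChar (G := G) (G ⧸ H)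

theorem conj_fpc {G : Type*} [Group G] (H : Subgroup G) (g : G) :
    conj (Cfsg.fixedPointCharacter H g) = Cfsg.fixedPointCharacter H g :=
  Complex.conj_natCast _

omit [Fintype F] in
theorem unipotent_isGeneralizedCharacter [Fintype (GL (Fin n) F)] (ν : Fin n → ℕ) :
    Cfsg.IsGeneralizedCharacter (GL (Fin n) F) (Cfsg.unipotentCharacterGL n F ν) := by
  classical
  have h : Cfsg.unipotentCharacterGL n F ν = ∑ κ : Equiv.Perm (Fin n),
      (fun g => if ∀ i : Fin n, (κ i).val ≤ ν i + i.val then
        ((Equiv.Perm.sign κ : ℤ) : ℂ) *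
          Cfsg.fixedPointCharacter (Cfsg.parabolicGL n F fun i => ν i + i.val - (κ i).val) g
        else 0) := by
    funext g
    rw [Finset.sum_apply]
    rfl
  rw [h]
  apply Helper34.isGeneralizedCharacter_sum
  intro κ _
  by_cases hc : ∀ i : Fin n, (κ i).val ≤ ν i + i.val
  · simp only [if_pos hc]
    exact Helper34.isGeneralizedCharacter_intCast_smul _
      (Helper34.IsCharacter.isGeneralizedCharacter (fpc_isCharacter _))
  · simp only [if_neg hc]
    exact Helper34.isGeneralizedCharacter_zero

omit [Fintype F] in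
theorem conj_unipotent (ν : Fin n → ℕ) (g : GL (Fin n) F) :
    conj (Cfsg.unipotentCharacterGL n F ν g) = Cfsg.unipotentCharacterGL n F ν g := by
  unfold Cfsg.unipotentCharacterGL
  rw [map_sum]
  apply sum_congr rfl
  intro κ _
  split_ifs
  · rw [map_mul, conj_fpc, map_intCast]
  · rw [map_zero]

/-- orthonormality of the partition-indexed characters -/
theorem classInner_unipotent [Fintype (GL (Fin n) F)] (ν ν' : Fin n → ℕ) (hmono : Monotone ν)
    (hsum : ∑ i, ν i = n) (hmono' : Monotone ν') (hsum' : ∑ i, ν' i = n) :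
    Cfsg.classInner (Cfsg.unipotentCharacterGL n F ν) (Cfsg.unipotentCharacterGL n F ν') =
      if ν = ν' then 1 else 0 := by
  classical
  unfold Cfsg.classInner
  simp only [conj_unipotent]
  unfold Cfsg.unipotentCharacterGL
  simp only [Finset.sum_mul_sum]
  rw [Finset.sum_comm, Finset.mul_sum]
  have hterm : ∀ κ : Equiv.Perm (Fin n),
      (Nat.card (GL (Fin n) F) : ℂ)⁻¹ * ∑ g : GL (Fin n) F, ∑ κ' : Equiv.Perm (Fin n),
        (if ∀ i : Fin n, (κ i).val ≤ ν i + i.val then
          ((Equiv.Perm.sign κ : ℤ) : ℂ) *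
            Cfsg.fixedPointCharacter (Cfsg.parabolicGL n F fun i => ν i + i.val - (κ i).val) g
          else 0) *
        (if ∀ i : Fin n, (κ' i).val ≤ ν' i + i.val then
          ((Equiv.Perm.sign κ' : ℤ) : ℂ) *
            Cfsg.fixedPointCharacter (Cfsg.parabolicGL n F fun i => ν' i + i.val - (κ' i).val) g
          else 0) =
      ∑ κ' : Equiv.Perm (Fin n),
        (((if (∀ k : Fin n, (κ' k).val ≤ ν' k + k.val) then
          (if (∀ i : Fin n, (κ i).val ≤ ν i + i.val) then
            ((Equiv.Perm.sign κ' : ℤˣ) : ℤ) * ((Equiv.Perm.sign κ : ℤˣ) : ℤ) *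
              (contCount (fun i : Fin n => ν i + i.val - (κ i).val)
                (fun k : Fin n => ν' k + k.val - (κ' k).val) : ℤ)
            else 0) else 0 : ℤ)) : ℂ) := by
    intro κ
    rw [Finset.sum_comm, Finset.mul_sum]
    apply sum_congr rfl
    intro κ' _
    by_cases hc : ∀ i : Fin n, (κ i).val ≤ ν i + i.val
    · by_cases hc' : ∀ i : Fin n, (κ' i).val ≤ ν' i + i.val
      · simp only [if_pos hc, if_pos hc']
        have h1 := fpc_inner_parabolic (F := F) (fun i : Fin n => ν i + i.val - (κ i).val)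
          (fun i : Fin n => ν' i + i.val - (κ' i).val) (sum_lam_sub ν hsum κ hc)
          (sum_lam_sub ν' hsum' κ' hc')
        have h2 : ∀ g : GL (Fin n) F,
            ((Equiv.Perm.sign κ : ℤ) : ℂ) *
              Cfsg.fixedPointCharacter (Cfsg.parabolicGL n F fun i => ν i + i.val - (κ i).val) g *
            (((Equiv.Perm.sign κ' : ℤ) : ℂ) *
              Cfsg.fixedPointCharacter
                (Cfsg.parabolicGL n F fun i => ν' i + i.val - (κ' i).val) g) =
            (((Equiv.Perm.sign κ' : ℤ) : ℂ) * ((Equiv.Perm.sign κ : ℤ) : ℂ)) *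
              (Cfsg.fixedPointCharacter (Cfsg.parabolicGL n F fun i => ν i + i.val - (κ i).val) g *
                Cfsg.fixedPointCharacter
                  (Cfsg.parabolicGL n F fun i => ν' i + i.val - (κ' i).val) g) := by
          intro g
          ring
        simp only [h2]
        rw [← Finset.mul_sum, mul_left_comm, h1]
        push_cast
        ring
      · simp only [if_neg hc', mul_zero, Finset.sum_const_zero, Int.cast_zero]
    · simp only [if_neg hc, zero_mul, Finset.sum_const_zero, mul_zero, ite_self, Int.cast_zero]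
  rw [sum_congr rfl (fun κ _ => hterm κ), Finset.sum_comm]
  simp only [← Int.cast_sum]
  have hkey := alt_sum_contCount n (fun i : Fin n => ν i + i.val) (fun i : Fin n => ν' i + i.val)
    (strictMono_lam ν hmono) (strictMono_lam ν' hmono')
  rw [hkey]
  by_cases hνν : ν = ν'
  · subst hνν
    simp
  · rw [if_neg hνν, if_neg (fun h => hνν (lam_injective ν ν' h))]
    simp

end

end Cfsg.Agent.Lib.Helper47
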