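import Mathlib
import Cfsg.Agent.Lib.Helper47.UnipotentGL

set_option autoImplicit false

/-!
# Orthonormality of the unipotent characters of `GL_n(q)` restricted to `SL_n(q)`
-/

namespace Cfsg.Agent.Lib.Helper47

open Finset MulAction
open scoped MatrixGroups ComplexConjugate

section
variable {n : ℕ} {F : Type*} [Field F] [Fintype F]

omit [Fintype F] in
/-- orthonormality of the partition-indexed characters, averaged over any finite family of
elements of `GL_n` over which the flag characters have the same inner products -/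
theorem inner_unipotent_gen {S : Type*} [Fintype S] (ι : S → GL (Fin n) F)
    (hι : ∀ μ μ' : Fin n → ℕ, ∑ i, μ i = n → ∑ i, μ' i = n →
      (Nat.card S : ℂ)⁻¹ * ∑ s : S, Cfsg.fixedPointCharacter (Cfsg.parabolicGL n F μ) (ι s) *
        Cfsg.fixedPointCharacter (Cfsg.parabolicGL n F μ') (ι s) = (contCount μ μ' : ℂ))
    (ν ν' : Fin n → ℕ) (hmono : Monotone ν)
    (hsum : ∑ i, ν i = n) (hmono' : Monotone ν') (hsum' : ∑ i, ν' i = n) :
    (Nat.card S : ℂ)⁻¹ * ∑ s : S, Cfsg.unipotentCharacterGL n F ν (ι s) *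
      conj (Cfsg.unipotentCharacterGL n F ν' (ι s)) =
      if ν = ν' then 1 else 0 := by
  classical
  simp only [conj_unipotent]
  unfold Cfsg.unipotentCharacterGL
  simp only [Finset.sum_mul_sum]
  rw [Finset.sum_comm, Finset.mul_sum]
  have hterm : ∀ κ : Equiv.Perm (Fin n),
      (Nat.card S : ℂ)⁻¹ * ∑ g : S, ∑ κ' : Equiv.Perm (Fin n),
        (if ∀ i : Fin n, (κ i).val ≤ ν i + i.val then
          ((Equiv.Perm.sign κ : ℤ) : ℂ) *
            Cfsg.fixedPointCharacter (Cfsg.parabolicGL n F fun i => ν i + i.val - (κ i).val) (ι g)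
          else 0) *
        (if ∀ i : Fin n, (κ' i).val ≤ ν' i + i.val then
          ((Equiv.Perm.sign κ' : ℤ) : ℂ) *
            Cfsg.fixedPointCharacter (Cfsg.parabolicGL n F fun i => ν' i + i.val - (κ' i).val) (ι g)
          else 0) =
      ∑ κ' : Equiv.Perm (Fin n),
        (((if (∀ k : Fin n, (κ' k).val ≤ ν' k + k.val) then
          (if (∀ i : Fin n, (κ i).val ≤ ν i + i.val) then
            ((Equiv.Perm.sign κ' : ℤˣ) : ℤ) * ((Equiv.Perm.sign κ : ℤˣ) : ℤ) *
              (contCount (fun i : Fin n => ν i + i.val - (κ i).val)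
                (fun k : Fin n => ν' k + k.val - (κ' k).val) : ℤ)
            else 0) else 0 : ℤ)) : ℂ) := by
    intro κ
    rw [Finset.sum_comm, Finset.mul_sum]
    apply sum_congr rfl
    intro κ' _
    by_cases hc : ∀ i : Fin n, (κ i).val ≤ ν i + i.val
    · by_cases hc' : ∀ i : Fin n, (κ' i).val ≤ ν' i + i.val
      · simp only [if_pos hc, if_pos hc']
        have h1 := hι (fun i : Fin n => ν i + i.val - (κ i).val)
          (fun i : Fin n => ν' i + i.val - (κ' i).val) (sum_lam_sub ν hsum κ hc)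
          (sum_lam_sub ν' hsum' κ' hc')
        have h2 : ∀ g : S,
            ((Equiv.Perm.sign κ : ℤ) : ℂ) *
              Cfsg.fixedPointCharacter (Cfsg.parabolicGL n F fun i => ν i + i.val - (κ i).val) (ι g) *
            (((Equiv.Perm.sign κ' : ℤ) : ℂ) *
              Cfsg.fixedPointCharacter
                (Cfsg.parabolicGL n F fun i => ν' i + i.val - (κ' i).val) (ι g)) =
            (((Equiv.Perm.sign κ' : ℤ) : ℂ) * ((Equiv.Perm.sign κ : ℤ) : ℂ)) *
              (Cfsg.fixedPointCharacter (Cfsg.parabolicGL n F fun i => ν i + i.val - (κ i).val) (ι g) *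
                Cfsg.fixedPointCharacter
                  (Cfsg.parabolicGL n F fun i => ν' i + i.val - (κ' i).val) (ι g)) := by
          intro g
          ring
        simp only [h2]
        rw [← Finset.mul_sum, mul_left_comm, h1]
        push_cast
        ring
      · simp only [if_neg hc', mul_zero, Finset.sum_const_zero, Int.cast_zero]
    · simp only [if_neg hc, zero_mul, Finset.sum_const_zero, mul_zero, ite_self, Int.cast_zero]
  rw [sum_congr rfl (fun κ _ => hterm κ), Finset.sum_comm]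
  simp only [← Int.cast_sum]
  have hkey := alt_sum_contCount n (fun i : Fin n => ν i + i.val) (fun i : Fin n => ν' i + i.val)
    (strictMono_lam ν hmono) (strictMono_lam ν' hmono')
  rw [hkey]
  by_cases hνν : ν = ν'
  · subst hνν
    simp
  · rw [if_neg hνν, if_neg (fun h => hνν (lam_injective ν ν' h))]
    simp

end

section
variable {G S : Type*} [Group G] [Fintype G] [Group S] [Fintype S]

/-- if the image of `S` has the same orbits as `G` on pairs of cosets, the averaged products of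
permutation characters over `S` and over `G` agree -/
theorem fpc_inner_sub (ι : S →* G) (H K : Subgroup G)
    (h : ∀ (x : (G ⧸ H) × (G ⧸ K)) (g : G), ∃ s : S, ι s • x = g • x) :
    (Nat.card S : ℂ)⁻¹ * ∑ s : S,
        Cfsg.fixedPointCharacter H (ι s) * Cfsg.fixedPointCharacter K (ι s) =
      (Nat.card G : ℂ)⁻¹ * ∑ g : G,
        Cfsg.fixedPointCharacter H g * Cfsg.fixedPointCharacter K g := by
  classical
  let _ : MulAction S ((G ⧸ H) × (G ⧸ K)) := MulAction.compHom ((G ⧸ H) × (G ⧸ K)) ι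
  have hsmul : ∀ (s : S) (x : (G ⧸ H) × (G ⧸ K)), s • x = ι s • x := fun s x => rfl
  have hS := sum_card_fixedBy_eq_card_orbits_mul_card_group S ((G ⧸ H) × (G ⧸ K))
  have hG := sum_card_fixedBy_eq_card_orbits_mul_card_group G ((G ⧸ H) × (G ⧸ K))
  have hq : Fintype.card (Quotient (orbitRel S ((G ⧸ H) × (G ⧸ K)))) =
      Fintype.card (Quotient (orbitRel G ((G ⧸ H) × (G ⧸ K)))) := by
    apply Fintype.card_congr
    apply Quotient.congrRight
    intro x y
    rw [orbitRel_apply, orbitRel_apply, mem_orbit_iff, mem_orbit_iff]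
    constructor
    · rintro ⟨s, hs⟩
      exact ⟨ι s, hs⟩
    · rintro ⟨g, hg⟩
      obtain ⟨s, hs⟩ := h y g
      exact ⟨s, by rw [hsmul, hs, hg]⟩
  have hfix : ∀ s : S, Fintype.card (fixedBy ((G ⧸ H) × (G ⧸ K)) s) =
      Nat.card (fixedBy ((G ⧸ H) × (G ⧸ K)) (ι s)) := by
    intro s
    rw [← Nat.card_eq_fintype_card]
    rfl
  simp_rw [fpc_mul_fpc]
  rw [← Nat.cast_sum, ← Nat.cast_sum]
  simp_rw [← hfix]
  rw [hS]
  simp_rw [Nat.card_eq_fintype_card]
  rw [hG, hq]
  have hG0 : (Fintype.card G : ℂ) ≠ 0 := by exact_mod_cast Fintype.card_ne_zero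
  have hS0 : (Fintype.card S : ℂ) ≠ 0 := by exact_mod_cast Fintype.card_ne_zero
  push_cast
  field_simp

end

section
variable {n : ℕ} {F : Type*} [Field F]

/-- diagonal elements of `GL_n` -/
def diagGL (d : Fin n → Fˣ) : GL (Fin n) F :=
  ⟨Matrix.diagonal (fun i => (d i : F)), Matrix.diagonal (fun i => ((d i)⁻¹ : Fˣ)),
    by rw [Matrix.diagonal_mul_diagonal, ← Matrix.diagonal_one]; congr 1; funext i; simp,
    by rw [Matrix.diagonal_mul_diagonal, ← Matrix.diagonal_one]; congr 1; funext i; simp⟩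

theorem diagGL_coe (d : Fin n → Fˣ) :
    ((diagGL d : GL (Fin n) F) : Matrix (Fin n) (Fin n) F) =
      Matrix.diagonal (fun i => (d i : F)) := rfl

theorem diagGL_mem_parabolic (μ : Fin n → ℕ) (d : Fin n → Fˣ) :
    diagGL d ∈ Cfsg.parabolicGL n F μ := by
  apply upperTriangular_le_parabolic F μ
  change (Matrix.diagonal (fun i => (d i : F))).BlockTriangular id
  exact Matrix.blockTriangular_diagonal _

theorem diagGL_mul_permGL (d : Fin n → Fˣ) (σ : Equiv.Perm (Fin n)) :
    diagGL d * permGL F σ = permGL F σ * diagGL (fun i => d (σ i)) := by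
  apply Units.ext
  rw [Units.val_mul, Units.val_mul, diagGL_coe, diagGL_coe, permGL_coe]
  ext r c
  rw [Matrix.diagonal_mul, Matrix.mul_diagonal, permMat_apply]
  split_ifs with h
  · rw [h]; ring
  · ring

theorem det_diagGL (d : Fin n → Fˣ) :
    (diagGL d : Matrix (Fin n) (Fin n) F).det = ∏ i, (d i : F) := by
  rw [diagGL_coe, Matrix.det_diagonal]

/-- `SL_n` has the same orbits as `GL_n` on pairs of cosets of standard parabolic subgroups -/
theorem sl_orbit_parabolic (hn : 0 < n) (μ μ' : Fin n → ℕ)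
    (x : (GL (Fin n) F ⧸ Cfsg.parabolicGL n F μ) × (GL (Fin n) F ⧸ Cfsg.parabolicGL n F μ'))
    (g : GL (Fin n) F) :
    ∃ s : Matrix.SpecialLinearGroup (Fin n) F,
      Matrix.SpecialLinearGroup.toGL s • x = g • x := by
  classical
  obtain ⟨qa, qb⟩ := x
  obtain ⟨a, rfl⟩ := QuotientGroup.mk_surjective qa
  obtain ⟨b, rfl⟩ := QuotientGroup.mk_surjective qb
  obtain ⟨σ, p, hp, p', hp', hab⟩ := parabolic_dc_exists (F := F) μ μ' (a⁻¹ * b)
  -- the determinant of g as a unit
  have hdet : IsUnit (g : Matrix (Fin n) (Fin n) F).det :=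
    (Matrix.isUnit_iff_isUnit_det _).mp g.isUnit
  set u : Fˣ := hdet.unit with hu
  have huv : (u : F) = (g : Matrix (Fin n) (Fin n) F).det := rfl
  set d : Fin n → Fˣ := Function.update (fun _ => 1) (⟨0, hn⟩ : Fin n) u⁻¹ with hd
  set t : GL (Fin n) F := diagGL d with ht
  have hdett : (t : Matrix (Fin n) (Fin n) F).det = ((u⁻¹ : Fˣ) : F) := by
    rw [ht, det_diagGL]
    rw [Finset.prod_eq_single (⟨0, hn⟩ : Fin n)]
    · rw [hd, Function.update_self]
    · intro i _ hi
      rw [hd, Function.update_of_ne hi]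
      rfl
    · intro h
      exact absurd (mem_univ _) h
  set y : GL (Fin n) F := a * p with hy
  set s0 : GL (Fin n) F := g * y * t * y⁻¹ with hs0
  have hdets : (s0 : Matrix (Fin n) (Fin n) F).det = 1 := by
    have h1 : ((y : Matrix (Fin n) (Fin n) F) * ((y⁻¹ : GL (Fin n) F) : Matrix (Fin n) (Fin n) F)) = 1 := by
      rw [← Units.val_mul, mul_inv_cancel]
      rfl
    have h2 : (y : Matrix (Fin n) (Fin n) F).det *
        ((y⁻¹ : GL (Fin n) F) : Matrix (Fin n) (Fin n) F).det = 1 := by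
      rw [← Matrix.det_mul, h1, Matrix.det_one]
    rw [hs0, Units.val_mul, Units.val_mul, Units.val_mul, Matrix.det_mul, Matrix.det_mul,
      Matrix.det_mul, hdett, ← huv]
    have h3 : (u : F) * ((u⁻¹ : Fˣ) : F) = 1 := by
      rw [← Units.val_mul, mul_inv_cancel]
      rfl
    calc (u : F) * (y : Matrix (Fin n) (Fin n) F).det * ((u⁻¹ : Fˣ) : F) *
          ((y⁻¹ : GL (Fin n) F) : Matrix (Fin n) (Fin n) F).det
        = ((u : F) * ((u⁻¹ : Fˣ) : F)) * ((y : Matrix (Fin n) (Fin n) F).det *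
          ((y⁻¹ : GL (Fin n) F) : Matrix (Fin n) (Fin n) F).det) := by ring
      _ = 1 := by rw [h3, h2, one_mul]
  refine ⟨⟨(s0 : Matrix (Fin n) (Fin n) F), hdets⟩, ?_⟩
  have hs : Matrix.SpecialLinearGroup.toGL
      (⟨(s0 : Matrix (Fin n) (Fin n) F), hdets⟩ : Matrix.SpecialLinearGroup (Fin n) F) = s0 := by
    apply Units.ext
    rfl
  rw [hs]
  apply Prod.ext
  · change ((s0 * a : GL (Fin n) F) : GL (Fin n) F ⧸ Cfsg.parabolicGL n F μ) = ((g * a : GL (Fin n) F) : _)
    rw [QuotientGroup.eq]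
    have : (s0 * a)⁻¹ * (g * a) = p * t⁻¹ * p⁻¹ := by
      rw [hs0, hy]
      group
    rw [this]
    exact (Cfsg.parabolicGL n F μ).mul_mem ((Cfsg.parabolicGL n F μ).mul_mem hp
      ((Cfsg.parabolicGL n F μ).inv_mem (diagGL_mem_parabolic μ d)))
      ((Cfsg.parabolicGL n F μ).inv_mem hp)
  · change ((s0 * b : GL (Fin n) F) : GL (Fin n) F ⧸ Cfsg.parabolicGL n F μ') = ((g * b : GL (Fin n) F) : _)
    rw [QuotientGroup.eq]
    have hb : b = a * (p * permGL F σ * p') := by
      rw [← hab]
      group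
    have hcomm : t * permGL F σ = permGL F σ * diagGL (fun i => d (σ i)) :=
      diagGL_mul_permGL d σ
    have : (s0 * b)⁻¹ * (g * b) = p'⁻¹ * (diagGL (fun i => d (σ i)))⁻¹ * p' := by
      have h1 : s0 * b = g * a * p * (t * permGL F σ) * p' := by
        rw [hs0, hy, hb]
        group
      rw [h1, hcomm, hb]
      group
    rw [this]
    exact (Cfsg.parabolicGL n F μ').mul_mem ((Cfsg.parabolicGL n F μ').mul_mem
      ((Cfsg.parabolicGL n F μ').inv_mem hp')
      ((Cfsg.parabolicGL n F μ').inv_mem (diagGL_mem_parabolic μ' _))) hp'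

end

end Cfsg.Agent.Lib.Helper47
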