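import Mathlib

set_option autoImplicit false

/-!
# q-integers, q-factorials and a Vandermonde-type determinant
-/

namespace Cfsg.Agent.Lib.Helper47

open Finset

/-- q-integer `1 + q + ⋯ + q^(r-1)` -/
def qInt (q r : ℕ) : ℕ := ∑ l ∈ range r, q ^ l

/-- q-factorial -/
def qFact (q r : ℕ) : ℕ := ∏ j ∈ range r, qInt q (j + 1)

/-- falling q-factorial `Q(lam) Q(lam-1) ⋯ Q(lam-k+1)` -/
def qFall (q lam k : ℕ) : ℕ := ∏ s ∈ range k, qInt q (lam - s)

theorem qInt_zero (q : ℕ) : qInt q 0 = 0 := by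
  simp [qInt]

theorem qInt_add (q s m : ℕ) : qInt q (s + m) = qInt q s + q ^ s * qInt q m := by
  unfold qInt
  rw [sum_range_add, mul_sum]
  congr 1
  apply sum_congr rfl
  intro l _
  rw [pow_add]

theorem qFall_succ (q lam k : ℕ) : qFall q lam (k + 1) = qFall q lam k * qInt q (lam - k) := by
  unfold qFall
  rw [prod_range_succ]

theorem qFact_succ (q r : ℕ) : qFact q (r + 1) = qFact q r * qInt q (r + 1) := by
  unfold qFact
  rw [prod_range_succ]

theorem qFact_eq (q lam k : ℕ) (h : k ≤ lam) :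
    qFact q lam = qFact q (lam - k) * qFall q lam k := by
  induction k with
  | zero => simp [qFall]
  | succ k ih =>
    rw [ih (by omega), qFall_succ]
    have h1 : lam - k = (lam - (k + 1)) + 1 := by omega
    rw [h1, qFact_succ, ← h1]
    ring

theorem qFall_eq_zero (q lam k : ℕ) (h : lam < k) : qFall q lam k = 0 := by
  unfold qFall
  apply prod_eq_zero (mem_range.mpr h)
  rw [Nat.sub_self, qInt_zero]

theorem sum_range_choose_two (n : ℕ) : ∑ j ∈ range n, j.choose 2 = n.choose 3 := by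
  induction n with
  | zero => simp
  | succ n ih =>
    rw [sum_range_succ, ih, Nat.choose_succ_succ' n 2, add_comm]

theorem sum_range_triangle (n : ℕ) :
    ∑ j ∈ range n, (j * (j - 1) / 2) = n * (n - 1) * (n - 2) / 6 := by
  have h : ∀ j, j * (j - 1) / 2 = j.choose 2 := fun j => (Nat.choose_two_right j).symm
  simp only [h]
  rw [sum_range_choose_two, Nat.choose_eq_descFactorial_div_factorial]
  congr 1
  simp only [Nat.descFactorial_succ, Nat.descFactorial_zero, Nat.sub_zero]
  ring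

theorem qInt_cast_sub (q lam s : ℕ) (h : s ≤ lam) :
    (q : ℂ) ^ s * (qInt q (lam - s) : ℂ) = (qInt q lam : ℂ) - (qInt q s : ℂ) := by
  have h1 := qInt_add q s (lam - s)
  rw [Nat.add_sub_cancel' h] at h1
  rw [h1]
  push_cast
  ring

theorem qFall_cast (q lam j : ℕ) :
    (q : ℂ) ^ (j * (j - 1) / 2) * (qFall q lam j : ℂ) =
      ∏ s ∈ range j, ((qInt q lam : ℂ) - (qInt q s : ℂ)) := by
  rw [← Finset.sum_range_id, ← prod_pow_eq_pow_sum]
  unfold qFall
  push_cast
  rw [← prod_mul_distrib]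
  by_cases h : j ≤ lam + 1
  · apply prod_congr rfl
    intro s hs
    rw [mem_range] at hs
    exact qInt_cast_sub q lam s (by omega)
  · rw [prod_eq_zero (i := lam) (mem_range.mpr (by omega)) (by simp [qInt_zero]),
      prod_eq_zero (i := lam) (mem_range.mpr (by omega)) (by simp)]

open Polynomial in
theorem det_qFall (q n : ℕ) (lam : Fin n → ℕ) :
    (q : ℂ) ^ (n * (n - 1) * (n - 2) / 6) *
        (Matrix.of fun i j : Fin n => (qFall q (lam i) j : ℂ)).det =
      ∏ i : Fin n, ∏ j ∈ Ioi i, ((qInt q (lam j) : ℂ) - (qInt q (lam i) : ℂ)) := by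
  have hmonic : ∀ j : Fin n, (∏ s ∈ range j, (X - C (qInt q s : ℂ))).Monic := fun j =>
    monic_prod_of_monic _ _ (fun s _ => monic_X_sub_C _)
  have hdeg : ∀ j : Fin n, (∏ s ∈ range j, (X - C (qInt q s : ℂ))).natDegree = (j : ℕ) := by
    intro j
    rw [natDegree_prod_of_monic _ _ (fun s _ => monic_X_sub_C _)]
    simp only [natDegree_X_sub_C, sum_const, card_range, smul_eq_mul, mul_one]
  rw [← Matrix.det_vandermonde, Matrix.det_eval_matrixOfPolynomials_eq_det_vandermonde
    (fun i => (qInt q (lam i) : ℂ)) (fun j : Fin n => ∏ s ∈ range j, (X - C (qInt q s : ℂ)))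
    hdeg hmonic]
  rw [← sum_range_triangle, ← prod_pow_eq_pow_sum,
    ← Fin.prod_univ_eq_prod_range (fun j => (q : ℂ) ^ (j * (j - 1) / 2)) n, ← Matrix.det_mul_row]
  congr 1
  ext i j
  simp only [Matrix.of_apply, eval_prod, eval_sub, eval_X, eval_C]
  exact qFall_cast q (lam i) j

end Cfsg.Agent.Lib.Helper47
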