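import Mathlib

set_option autoImplicit false

/-!
# Counting linearly independent families adapted to a flag

For a monotone family of subspaces `W 0 ≤ W 1 ≤ … ≤ W (k-1)` of a finite vector space over a field
with `q` elements, the number of linearly independent families `s` with `s j ∈ W j` is
`∏ j, (|W j| - q ^ j)`.
-/

namespace Cfsg.Agent.Lib.Helper47

open Module

section
variable {K V : Type*} [Field K] [AddCommGroup V] [Module K V]

theorem sigma_subtype_ext {α β : Type*} {p : α → Prop} {q : α → β → Prop}
    (x y : Σ a : {a // p a}, {b // q a.1 b}) (h1 : x.1.1 = y.1.1) (h2 : x.2.1 = y.2.1) : x = y := by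
  obtain ⟨⟨a, ha⟩, ⟨b, hb⟩⟩ := x
  obtain ⟨⟨a', ha'⟩, ⟨b', hb'⟩⟩ := y
  simp only at h1 h2
  subst h1 h2
  rfl

/-- peeling off the last vector -/
def flagEquiv (k : ℕ) (W : Fin (k + 1) → Submodule K V) :
    {s : Fin (k + 1) → V // LinearIndependent K s ∧ ∀ j, s j ∈ W j} ≃
      Σ s' : {s' : Fin k → V // LinearIndependent K s' ∧ ∀ j : Fin k, s' j ∈ W j.castSucc},
        {v : V // v ∈ W (Fin.last k) ∧ v ∉ Submodule.span K (Set.range (s' : Fin k → V))} where
  toFun s := ⟨⟨Fin.init s.1, (linearIndependent_finSucc'.mp s.2.1).1, fun j => s.2.2 j.castSucc⟩,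
    ⟨s.1 (Fin.last k), s.2.2 (Fin.last k), (linearIndependent_finSucc'.mp s.2.1).2⟩⟩
  invFun p := ⟨Fin.snoc p.1.1 p.2.1, linearIndependent_finSnoc.mpr ⟨p.1.2.1, p.2.2.2⟩, by
    intro j
    refine Fin.lastCases ?_ (fun i => ?_) j
    · rw [Fin.snoc_last]; exact p.2.2.1
    · rw [Fin.snoc_castSucc]; exact p.1.2.2 i⟩
  left_inv s := by
    apply Subtype.ext
    exact Fin.snoc_init_self s.1
  right_inv p := by
    apply sigma_subtype_ext (p := fun s' : Fin k → V =>
      LinearIndependent K s' ∧ ∀ j : Fin k, s' j ∈ W j.castSucc)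
      (q := fun s' v => v ∈ W (Fin.last k) ∧ v ∉ Submodule.span K (Set.range s'))
    · exact Fin.init_snoc (α := fun _ => V) p.2.1 p.1.1
    · exact Fin.snoc_last (α := fun _ => V) p.2.1 p.1.1

end

section finite
variable {K V : Type*} [Field K] [AddCommGroup V] [Module K V] [Fintype K] [Finite V]

theorem card_mem_not_mem_span {k : ℕ} (W : Submodule K V) (s : Fin k → V)
    (hs : LinearIndependent K s) (hsW : ∀ j, s j ∈ W) :
    Nat.card {v : V // v ∈ W ∧ v ∉ Submodule.span K (Set.range s)} =
      Nat.card W - Fintype.card K ^ k := by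
  classical
  have hle : Submodule.span K (Set.range s) ≤ W := by
    rw [Submodule.span_le]
    rintro _ ⟨j, rfl⟩
    exact hsW j
  have h1 : Nat.card {v : V // v ∈ W ∧ v ∉ Submodule.span K (Set.range s)} =
      Set.ncard ((W : Set V) \ (Submodule.span K (Set.range s) : Set V)) := by
    rw [← Nat.card_coe_set_eq]
    rfl
  have h2 : Set.ncard ((W : Set V) \ (Submodule.span K (Set.range s) : Set V)) =
      Set.ncard (W : Set V) - Set.ncard (Submodule.span K (Set.range s) : Set V) :=
    Set.ncard_sdiff (fun x hx => hle hx) (Set.toFinite _)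
  have h3 : Set.ncard (Submodule.span K (Set.range s) : Set V) = Fintype.card K ^ k := by
    rw [← Nat.card_coe_set_eq]
    change Nat.card (Submodule.span K (Set.range s)) = _
    rw [Module.natCard_eq_pow_finrank (K := K), finrank_span_eq_card hs, Fintype.card_fin,
      Nat.card_eq_fintype_card]
  have h4 : Set.ncard (W : Set V) = Nat.card W := by
    rw [← Nat.card_coe_set_eq]
    rfl
  rw [h1, h2, h3, h4]

/-- the number of linearly independent families adapted to a flag -/
theorem card_flag_linearIndependent (k : ℕ) (W : Fin k → Submodule K V) (hW : Monotone W) :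
    Nat.card {s : Fin k → V // LinearIndependent K s ∧ ∀ j, s j ∈ W j} =
      ∏ j : Fin k, (Nat.card (W j) - Fintype.card K ^ (j : ℕ)) := by
  induction k with
  | zero =>
    have : Unique {s : Fin 0 → V // LinearIndependent K s ∧ ∀ j, s j ∈ W j} :=
      { default := ⟨fun j => j.elim0, linearIndependent_empty_type, fun j => j.elim0⟩
        uniq := fun s => Subtype.ext (funext fun j => j.elim0) }
    rw [Nat.card_unique]
    simp
  | succ k ih =>
    have : Finite (Fin k → V) := inferInstance
    have : Fintype {s' : Fin k → V //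
        LinearIndependent K s' ∧ ∀ j : Fin k, s' j ∈ W j.castSucc} := Fintype.ofFinite _
    rw [Nat.card_congr (flagEquiv k W), Nat.card_sigma]
    have hfib : ∀ s' : {s' : Fin k → V //
        LinearIndependent K s' ∧ ∀ j : Fin k, s' j ∈ W j.castSucc},
        Nat.card {v : V // v ∈ W (Fin.last k) ∧
          v ∉ Submodule.span K (Set.range (s' : Fin k → V))} =
        Nat.card (W (Fin.last k)) - Fintype.card K ^ k := by
      intro s'
      apply card_mem_not_mem_span (W (Fin.last k)) s'.1 s'.2.1
      intro j
      exact hW (Fin.le_last j.castSucc) (s'.2.2 j)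
    simp_rw [hfib]
    rw [Finset.sum_const, Finset.card_univ, smul_eq_mul, ← Nat.card_eq_fintype_card,
      ih (fun j => W j.castSucc) (fun a b hab => hW (Fin.castSucc_le_castSucc_iff.mpr hab)),
      Fin.prod_univ_castSucc]
    simp

end finite

end Cfsg.Agent.Lib.Helper47
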