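import Cfsg.Prelude.Def_LinearParabolics
import Cfsg.Agent.Lib.Helper47.FlagCount

set_option autoImplicit false

/-!
# The order of a standard parabolic subgroup of `GL_n(q)`
-/

namespace Cfsg.Agent.Lib.Helper47

open scoped MatrixGroups

section
variable {n : ℕ} (F : Type*) [Field F]

/-- vectors vanishing at positions of block label bigger than that of `j` -/
def blockSub (b : Fin n → ℕ) (j : Fin n) : Submodule F (Fin n → F) where
  carrier := {v | ∀ i, b j < b i → v i = 0}
  add_mem' := fun {v w} hv hw i hi => by
    rw [Pi.add_apply, hv i hi, hw i hi, add_zero]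
  zero_mem' := fun i _ => rfl
  smul_mem' := fun c v hv i hi => by
    rw [Pi.smul_apply, hv i hi, smul_zero]

theorem mem_blockSub (b : Fin n → ℕ) (j : Fin n) (v : Fin n → F) :
    v ∈ blockSub F b j ↔ ∀ i, b j < b i → v i = 0 := Iff.rfl

theorem blockSub_monotone (b : Fin n → ℕ) (hb : Monotone b) : Monotone (blockSub F b) := by
  intro j j' hjj' v hv i hi
  exact hv i (lt_of_le_of_lt (hb hjj') hi)

/-- `blockSub` is coordinates on the positions of label at most that of `j` -/
def blockSubEquiv (b : Fin n → ℕ) (j : Fin n) :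
    blockSub F b j ≃ ({i : Fin n // b i ≤ b j} → F) where
  toFun v i := v.1 i.1
  invFun f := ⟨fun i => if h : b i ≤ b j then f ⟨i, h⟩ else 0,
    fun i hi => dif_neg (not_le.mpr hi)⟩
  left_inv v := by
    apply Subtype.ext
    funext i
    by_cases h : b i ≤ b j
    · simp only [dif_pos h]
    · simp only [dif_neg h]
      exact (v.2 i (not_le.mp h)).symm
  right_inv f := by
    funext i
    obtain ⟨i, hi⟩ := i
    simp only [dif_pos hi]

theorem card_blockSub [Fintype F] (b : Fin n → ℕ) (j : Fin n) :
    Nat.card (blockSub F b j) =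
      Fintype.card F ^ (Finset.univ.filter fun i : Fin n => b i ≤ b j).card := by
  rw [Nat.card_congr (blockSubEquiv F b j), Nat.card_fun, Nat.card_eq_fintype_card,
    Nat.card_eq_fintype_card, Fintype.card_subtype]

end

section
variable {n : ℕ} (F : Type*) [Field F] [Fintype F]

/-- a parabolic subgroup as the set of linearly independent families adapted to a flag -/
noncomputable def parabolicEquiv (μ : Fin n → ℕ) :
    Cfsg.parabolicGL n F μ ≃ {s : Fin n → (Fin n → F) //
      LinearIndependent F s ∧ ∀ j, s j ∈ blockSub F (Cfsg.compLabel μ) j} :=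
  (Equiv.subtypeEquiv (q := fun s : {s : Fin n → Fin n → F // LinearIndependent F s} =>
      ∀ j, s.1 j ∈ blockSub F (Cfsg.compLabel μ) j)
    (Matrix.equiv_GL_linearindependent n) (fun g => by
      change (g : Matrix (Fin n) (Fin n) F).BlockTriangular (Cfsg.compLabel μ) ↔
        ∀ j, (g : Matrix (Fin n) (Fin n) F).col j ∈ blockSub F (Cfsg.compLabel μ) j
      constructor
      · intro h j i hi
        exact h hi
      · intro h i j hij
        exact h j i hij)).trans
    (Equiv.subtypeSubtypeEquivSubtypeInter (fun s : Fin n → Fin n → F => LinearIndependent F s)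
      (fun s : Fin n → Fin n → F => ∀ j, s j ∈ blockSub F (Cfsg.compLabel μ) j))

theorem card_parabolicGL (μ : Fin n → ℕ) (hb : Monotone (Cfsg.compLabel μ)) :
    Nat.card (Cfsg.parabolicGL n F μ) = ∏ j : Fin n,
      (Fintype.card F ^ (Finset.univ.filter fun i : Fin n =>
        Cfsg.compLabel μ i ≤ Cfsg.compLabel μ j).card - Fintype.card F ^ (j : ℕ)) := by
  rw [Nat.card_congr (parabolicEquiv F μ),
    card_flag_linearIndependent n (blockSub F (Cfsg.compLabel μ)) (blockSub_monotone F _ hb)]
  apply Finset.prod_congr rfl
  intro j _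
  rw [card_blockSub]

end

end Cfsg.Agent.Lib.Helper47
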