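import Mathlib
import Cfsg.Agent.Lib.Helper47.QFactorial
import Cfsg.Agent.S2424

set_option autoImplicit false

namespace Cfsg.Agent.Lib.Helper47

open Finset
open scoped MatrixGroups ComplexConjugate

theorem triangle_eq_choose_three (n : ℕ) : n * (n - 1) * (n - 2) / 6 = n.choose 3 := by
  rw [← sum_range_triangle, ← sum_range_choose_two]
  apply sum_congr rfl
  intro j _
  exact (Nat.choose_two_right j).symm

theorem qInt_pos (q r : ℕ) : 0 < qInt q (r + 1) := by
  unfold qInt
  rw [sum_range_succ']
  simp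

theorem qFact_pos (q r : ℕ) : 0 < qFact q r := by
  unfold qFact
  exact prod_pos (fun j _ => qInt_pos q j)

theorem prod_pow_succ (q n : ℕ) : ∏ i ∈ range n, q ^ (1 + i) = q ^ ((n + 1).choose 2) := by
  induction n with
  | zero => simp
  | succ n ih =>
    rw [prod_range_succ, ih, ← pow_add]
    congr 1
    rw [Nat.choose_succ_succ' (n + 1) 1, Nat.choose_one_right]
    ring

/-- the left side product for the Steinberg degree -/
def stL (q n : ℕ) : ℕ := ∏ i ∈ range n, qFact q (1 + i)

/-- the right side product for the Steinberg degree -/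
def stR (q n : ℕ) : ℕ :=
  ∏ i ∈ range n, ∏ j ∈ range n, if i < j then q ^ (1 + i) * qInt q ((1 + j) - (1 + i)) else 1

theorem stR_succ (q n : ℕ) :
    stR q (n + 1) = stR q n * (q ^ ((n + 1).choose 2) * qFact q n) := by
  unfold stR
  rw [prod_range_succ]
  have h1 : ∏ j ∈ range (n + 1), (if n < j then q ^ (1 + n) * qInt q ((1 + j) - (1 + n)) else 1)
      = 1 := by
    apply prod_eq_one
    intro j hj
    rw [mem_range] at hj
    rw [if_neg (by omega)]
  rw [h1, mul_one]
  have h2 : ∀ i ∈ range n, ∏ j ∈ range (n + 1),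
      (if i < j then q ^ (1 + i) * qInt q ((1 + j) - (1 + i)) else 1) =
      (∏ j ∈ range n, (if i < j then q ^ (1 + i) * qInt q ((1 + j) - (1 + i)) else 1)) *
        (q ^ (1 + i) * qInt q (n - i)) := by
    intro i hi
    rw [mem_range] at hi
    rw [prod_range_succ, if_pos hi]
    congr 2
    congr 1
    omega
  rw [prod_congr rfl h2, prod_mul_distrib, prod_mul_distrib, prod_pow_succ]
  congr 2
  unfold qFact
  rw [← prod_range_reflect]
  apply prod_congr rfl
  intro i hi
  rw [mem_range] at hi
  congr 1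
  omega

theorem steinberg_nat (q n : ℕ) :
    q ^ (n.choose 2) * (q ^ (n.choose 3) * stL q n) = qFact q n * stR q n := by
  induction n with
  | zero => simp [stL, stR, qFact]
  | succ n ih =>
    rw [stR_succ]
    have hL : stL q (n + 1) = stL q n * qFact q (n + 1) := by
      unfold stL
      rw [prod_range_succ, add_comm 1 n]
    rw [hL, Nat.choose_succ_succ' n 2, pow_add]
    calc q ^ (n + 1).choose 2 * (q ^ n.choose 2 * q ^ n.choose 3 * (stL q n * qFact q (n + 1)))
        = q ^ (n + 1).choose 2 * qFact q (n + 1) * (q ^ n.choose 2 * (q ^ n.choose 3 * stL q n)) := by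
          ring
      _ = q ^ (n + 1).choose 2 * qFact q (n + 1) * (qFact q n * stR q n) := by rw [ih]
      _ = qFact q (n + 1) * (stR q n * (q ^ (n + 1).choose 2 * qFact q n)) := by ring

theorem stL_pos (q n : ℕ) : 0 < stL q n := by
  unfold stL
  exact prod_pos (fun i _ => qFact_pos q _)

section
variable {n : ℕ} {F : Type*} [Field F] [Fintype F]

/-- the degree of the Steinberg character of `GL_n(q)` -/
theorem steinberg_degree_GL :
    Cfsg.unipotentCharacterGL n F (fun _ => 1) 1 = ((Fintype.card F) ^ (n.choose 2) : ℕ) := by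
  classical
  set q := Fintype.card F with hq
  have hq1 : 1 ≤ q := Fintype.card_pos
  have h24 := Cfsg.Agent.S2424.result (F := F) (q := q) rfl (fun _ : Fin n => 1)
    (fun _ _ _ => le_rfl) (by simp)
  rw [triangle_eq_choose_three] at h24
  have hA : ∏ i : Fin n, ∏ j ∈ Finset.range (1 + i.val),
      ((∑ l ∈ Finset.range (j + 1), q ^ l : ℕ) : ℂ) = (stL q n : ℂ) := by
    unfold stL
    rw [← Fin.prod_univ_eq_prod_range (fun i => qFact q (1 + i)) n, Nat.cast_prod]
    apply prod_congr rfl
    intro i _
    unfold qFact qInt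
    rw [Nat.cast_prod]
  have hB1 : ∏ j ∈ Finset.range n, ((∑ l ∈ Finset.range (j + 1), q ^ l : ℕ) : ℂ) =
      (qFact q n : ℂ) := by
    unfold qFact qInt
    rw [Nat.cast_prod]
  have hB2 : ∏ i : Fin n, ∏ j ∈ Finset.univ.filter (fun j : Fin n => i < j),
      (((∑ l ∈ Finset.range (1 + j.val), q ^ l : ℕ) : ℂ) -
        ((∑ l ∈ Finset.range (1 + i.val), q ^ l : ℕ) : ℂ)) = (stR q n : ℂ) := by
    unfold stR
    rw [← Fin.prod_univ_eq_prod_range (fun i => ∏ j ∈ range n,
      if i < j then q ^ (1 + i) * qInt q ((1 + j) - (1 + i)) else 1) n, Nat.cast_prod]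
    apply prod_congr rfl
    intro i _
    rw [← Fin.prod_univ_eq_prod_range (fun j =>
      if i.val < j then q ^ (1 + i.val) * qInt q ((1 + j) - (1 + i.val)) else 1) n, Nat.cast_prod,
      prod_filter]
    apply prod_congr rfl
    intro j _
    by_cases hij : i < j
    · have hij' : i.val < j.val := hij
      rw [if_pos hij, if_pos hij']
      have := qInt_cast_sub q (1 + j.val) (1 + i.val) (by omega)
      rw [Nat.cast_mul, Nat.cast_pow, this]
      rfl
    · have hij' : ¬ i.val < j.val := hij
      rw [if_neg hij, if_neg hij', Nat.cast_one]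
  rw [hA, hB1, hB2] at h24
  have hnat := steinberg_nat q n
  have hnatC : ((q ^ (n.choose 2) : ℕ) : ℂ) * ((q : ℂ) ^ (n.choose 3) * (stL q n : ℂ)) =
      (qFact q n : ℂ) * (stR q n : ℂ) := by
    exact_mod_cast hnat
  have hne : (q : ℂ) ^ (n.choose 3) * (stL q n : ℂ) ≠ 0 := by
    apply mul_ne_zero
    · apply pow_ne_zero
      exact_mod_cast (by omega : q ≠ 0)
    · exact_mod_cast (stL_pos q n).ne'
  rw [mul_assoc, ← hnatC] at h24
  exact mul_right_cancel₀ hne h24

end

end Cfsg.Agent.Lib.Helper47
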