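import Mathlib
import Cfsg.Agent.Lib.Helper47.UnipotentSub
import Cfsg.Agent.Lib.Helper47.SteinbergDegree
import Cfsg.Agent.Lib.Helper05.CharBasic
import Cfsg.Agent.Lib.Helper05.CharDecomp
import Cfsg.Agent.Lib.Helper07.SLCard

set_option autoImplicit false

/-!
# The Steinberg character of `SL_n(q)`
-/

namespace Cfsg.Agent.Lib.Helper47

open Finset MulAction
open scoped MatrixGroups ComplexConjugate

section
variable {n : ℕ} {F : Type*} [Field F] [Fintype F]

/-- the Steinberg character of `SL_n(q)`: the restriction of that of `GL_n(q)` -/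
noncomputable def steinbergSL (n : ℕ) (F : Type*) [Field F] :
    Matrix.SpecialLinearGroup (Fin n) F → ℂ :=
  fun s => Cfsg.unipotentCharacterGL n F (fun _ => 1) (Matrix.SpecialLinearGroup.toGL s)

theorem steinbergSL_one :
    steinbergSL n F 1 = ((Fintype.card F) ^ (n.choose 2) : ℕ) := by
  unfold steinbergSL
  rw [map_one]
  exact steinberg_degree_GL

theorem isGeneralizedCharacter_comp {G H : Type*} [Group G] [Group H] (f : H →* G) {θ : G → ℂ}
    (hθ : Cfsg.IsGeneralizedCharacter G θ) : Cfsg.IsGeneralizedCharacter H (fun h => θ (f h)) := by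
  obtain ⟨χ, ψ, hχ, hψ, rfl⟩ := hθ
  exact ⟨fun h => χ (f h), fun h => ψ (f h), Helper05.isCharacter_comp f hχ,
    Helper05.isCharacter_comp f hψ, rfl⟩

theorem steinbergSL_isGeneralizedCharacter :
    Cfsg.IsGeneralizedCharacter (Matrix.SpecialLinearGroup (Fin n) F) (steinbergSL n F) := by
  classical
  have : Fintype (GL (Fin n) F) := Fintype.ofFinite _
  exact isGeneralizedCharacter_comp Matrix.SpecialLinearGroup.toGL
    (unipotent_isGeneralizedCharacter (F := F) (fun _ : Fin n => 1))

theorem fpc_inner_parabolic_SL [Fintype (Matrix.SpecialLinearGroup (Fin n) F)] (hn : 0 < n)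
    (μ μ' : Fin n → ℕ) (hμ : ∑ i, μ i = n) (hμ' : ∑ i, μ' i = n) :
    (Nat.card (Matrix.SpecialLinearGroup (Fin n) F) : ℂ)⁻¹ *
      ∑ s : Matrix.SpecialLinearGroup (Fin n) F,
        Cfsg.fixedPointCharacter (Cfsg.parabolicGL n F μ) (Matrix.SpecialLinearGroup.toGL s) *
          Cfsg.fixedPointCharacter (Cfsg.parabolicGL n F μ') (Matrix.SpecialLinearGroup.toGL s) =
      (contCount μ μ' : ℂ) := by
  classical
  have : Fintype (GL (Fin n) F) := Fintype.ofFinite _
  rw [fpc_inner_sub Matrix.SpecialLinearGroup.toGL (Cfsg.parabolicGL n F μ)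
    (Cfsg.parabolicGL n F μ') (sl_orbit_parabolic hn μ μ')]
  exact fpc_inner_parabolic μ μ' hμ hμ'

theorem classInner_steinbergSL [Fintype (Matrix.SpecialLinearGroup (Fin n) F)] (hn : 0 < n) :
    Cfsg.classInner (steinbergSL n F) (steinbergSL n F) = 1 := by
  have h := inner_unipotent_gen (F := F) (n := n)
    (fun s : Matrix.SpecialLinearGroup (Fin n) F => Matrix.SpecialLinearGroup.toGL s)
    (fun μ μ' hμ hμ' => fpc_inner_parabolic_SL hn μ μ' hμ hμ')
    (fun _ => 1) (fun _ => 1) (fun _ _ _ => le_rfl) (by simp) (fun _ _ _ => le_rfl) (by simp)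
  rw [if_pos rfl] at h
  exact h

theorem steinbergSL_irr (hn : 0 < n) :
    Cfsg.IsIrrCharacter (Matrix.SpecialLinearGroup (Fin n) F) (steinbergSL n F) := by
  classical
  rcases Helper34.irr_or_neg_irr_of_norm_one
    (steinbergSL_isGeneralizedCharacter (n := n) (F := F))
    (classInner_steinbergSL (F := F) hn) with h | h
  · exact h
  · exfalso
    obtain ⟨d, hd, hd1⟩ := Helper05.exists_pos_degree h
    have h1 : (-steinbergSL n F) 1 = -(steinbergSL n F 1) := rfl
    rw [h1, steinbergSL_one] at hd1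
    have h2 : ((Fintype.card F ^ n.choose 2 + d : ℕ) : ℂ) = 0 := by
      push_cast at hd1 ⊢
      linear_combination (-1 : ℂ) * hd1
    rw [Nat.cast_eq_zero] at h2
    omega

omit [Fintype F] in
/-- central elements of `SL_n` act trivially on the cosets of every parabolic -/
theorem fpc_center (μ : Fin n → ℕ) (z : Matrix.SpecialLinearGroup (Fin n) F)
    (hz : z ∈ Subgroup.center (Matrix.SpecialLinearGroup (Fin n) F)) :
    Cfsg.fixedPointCharacter (Cfsg.parabolicGL n F μ) (Matrix.SpecialLinearGroup.toGL z) =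
      Cfsg.fixedPointCharacter (Cfsg.parabolicGL n F μ) 1 := by
  classical
  rw [Matrix.SpecialLinearGroup.mem_center_iff] at hz
  obtain ⟨r, _, hr⟩ := hz
  have hzmat : ((Matrix.SpecialLinearGroup.toGL z : GL (Fin n) F) : Matrix (Fin n) (Fin n) F) =
      Matrix.diagonal (fun _ => r) := by
    rw [Matrix.SpecialLinearGroup.coe_GL_coe_matrix, ← hr]
    rfl
  have hmem : Matrix.SpecialLinearGroup.toGL z ∈ Cfsg.parabolicGL n F μ := by
    apply upperTriangular_le_parabolic F μ
    change ((Matrix.SpecialLinearGroup.toGL z : GL (Fin n) F) :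
      Matrix (Fin n) (Fin n) F).BlockTriangular id
    rw [hzmat]
    exact Matrix.blockTriangular_diagonal _
  have hcomm : ∀ x : GL (Fin n) F,
      Matrix.SpecialLinearGroup.toGL z * x = x * Matrix.SpecialLinearGroup.toGL z := by
    intro x
    apply Units.ext
    rw [Units.val_mul, Units.val_mul, hzmat]
    ext i j
    rw [Matrix.diagonal_mul, Matrix.mul_diagonal, mul_comm]
  have hset : MulAction.fixedBy (GL (Fin n) F ⧸ Cfsg.parabolicGL n F μ)
      (Matrix.SpecialLinearGroup.toGL z) =
      MulAction.fixedBy (GL (Fin n) F ⧸ Cfsg.parabolicGL n F μ) (1 : GL (Fin n) F) := by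
    rw [MulAction.fixedBy_one_eq_univ]
    ext q
    simp only [Set.mem_univ, iff_true]
    obtain ⟨x, rfl⟩ := QuotientGroup.mk_surjective q
    rw [MulAction.mem_fixedBy]
    change ((Matrix.SpecialLinearGroup.toGL z * x : GL (Fin n) F) :
      GL (Fin n) F ⧸ Cfsg.parabolicGL n F μ) = (x : _)
    rw [QuotientGroup.eq, hcomm]
    have : (x * Matrix.SpecialLinearGroup.toGL z)⁻¹ * x =
        (Matrix.SpecialLinearGroup.toGL z)⁻¹ := by group
    rw [this]
    exact (Cfsg.parabolicGL n F μ).inv_mem hmem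
  unfold Cfsg.fixedPointCharacter
  rw [hset]

omit [Fintype F] in
theorem steinbergSL_center (z : Matrix.SpecialLinearGroup (Fin n) F)
    (hz : z ∈ Subgroup.center (Matrix.SpecialLinearGroup (Fin n) F)) :
    steinbergSL n F z = steinbergSL n F 1 := by
  unfold steinbergSL Cfsg.unipotentCharacterGL
  apply sum_congr rfl
  intro κ _
  rw [fpc_center _ z hz, map_one]

end

section card
variable {F : Type*} [Field F] [Fintype F]

theorem prod_pow_range (q n : ℕ) : ∏ i ∈ range n, q ^ i = q ^ (n.choose 2) := by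
  induction n with
  | zero => simp
  | succ n ih =>
    rw [prod_range_succ, ih, ← pow_add]
    congr 1
    rw [Nat.choose_succ_succ' n 1, Nat.choose_one_right]
    ring

/-- the order of a Sylow `p`-subgroup of `PSL_n(q)` -/
theorem pow_factorization_card_psl (p : ℕ) [Fact p.Prime] [CharP F p] (n : ℕ) (hn : 1 ≤ n) :
    p ^ ((Nat.card (Matrix.ProjectiveSpecialLinearGroup (Fin n) F)).factorization p) =
      Fintype.card F ^ (n.choose 2) := by
  classical
  obtain ⟨f, hp, hq⟩ := FiniteField.card F p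
  set q := Fintype.card F with hqdef
  have hpq : p ∣ q := by
    rw [hq]
    exact dvd_pow_self p f.pos.ne'
  have hq1 : 1 ≤ q := Fintype.card_pos
  have hnd : ∀ k : ℕ, 1 ≤ k → ¬ p ∣ q ^ k - 1 := by
    intro k hk hdvd
    have h1 : p ∣ q ^ k := dvd_pow hpq (by omega)
    have h2 : 1 ≤ q ^ k := Nat.one_le_pow _ _ hq1
    have h3 : p ∣ 1 := by
      have := (Nat.dvd_sub h1 hdvd)
      rwa [Nat.sub_sub_self h2] at this
    exact hp.one_lt.ne' (Nat.dvd_one.mp h3)
  have hmain := Helper07.card_psl_mul (F := F) n hn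
  rw [← hqdef] at hmain
  have hprod : ∏ i : Fin n, (q ^ n - q ^ (i : ℕ)) =
      q ^ (n.choose 2) * ∏ i : Fin n, (q ^ (n - (i : ℕ)) - 1) := by
    rw [← prod_pow_range, ← Fin.prod_univ_eq_prod_range (fun i => q ^ i) n, ← prod_mul_distrib]
    apply prod_congr rfl
    intro i _
    rw [Nat.mul_sub, mul_one, ← pow_add]
    congr 2
    have := i.isLt
    omega
  rw [hprod] at hmain
  set N := Nat.card (Matrix.ProjectiveSpecialLinearGroup (Fin n) F) with hN
  have hN0 : N ≠ 0 := Nat.card_pos.ne'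
  have hm1 : ¬ p ∣ Nat.gcd n (q - 1) * (q - 1) := by
    intro h
    rcases (Nat.Prime.dvd_mul hp).mp h with h1 | h1
    · exact hnd 1 le_rfl (by rw [pow_one]; exact dvd_trans h1 (Nat.gcd_dvd_right _ _))
    · exact hnd 1 le_rfl (by rw [pow_one]; exact h1)
  have hm2 : ¬ p ∣ ∏ i : Fin n, (q ^ (n - (i : ℕ)) - 1) := by
    apply Prime.not_dvd_finsetProd (Nat.Prime.prime hp)
    intro i _
    apply hnd
    have := i.isLt
    omega
  have hm10 : Nat.gcd n (q - 1) * (q - 1) ≠ 0 := fun h => hm1 (by rw [h]; exact dvd_zero p)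
  have hm20 : ∏ i : Fin n, (q ^ (n - (i : ℕ)) - 1) ≠ 0 := fun h => hm2 (by rw [h]; exact dvd_zero p)
  have hfac : (Nat.gcd n (q - 1) * ((q - 1) * N)).factorization p =
      (q ^ n.choose 2 * ∏ i : Fin n, (q ^ (n - (i : ℕ)) - 1)).factorization p := by rw [hmain]
  rw [← mul_assoc, Nat.factorization_mul hm10 hN0,
    Nat.factorization_mul (pow_ne_zero _ (by omega)) hm20] at hfac
  simp only [Finsupp.coe_add, Pi.add_apply] at hfac
  rw [Nat.factorization_eq_zero_of_not_dvd hm1, Nat.factorization_eq_zero_of_not_dvd hm2,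
    zero_add, add_zero, Nat.factorization_pow, hq, Nat.factorization_pow] at hfac
  simp only [Finsupp.coe_smul, Pi.smul_apply, smul_eq_mul] at hfac
  rw [hp.factorization_self, mul_one] at hfac
  rw [hfac, hq, ← pow_mul, mul_comm]

end card

end Cfsg.Agent.Lib.Helper47
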