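import Mathlib

set_option autoImplicit false

/-!
# Signed sums over Hessenberg permutations

A permutation `κ` of `Fin m` is Hessenberg when `κ i ≤ i + 1` for all `i`.  The Hessenberg
permutations of `Fin (m + 1)` sending the last point to `s` are obtained from the Hessenberg
permutations of `Fin s` by adding a rotation of the last `m + 1 - s` points; this gives a recursion
for signed sums.
-/

namespace Cfsg.Agent.Lib.Helper47

open Equiv Finset

/-- the Hessenberg condition -/
def IsHess {m : ℕ} (κ : Perm (Fin m)) : Prop := ∀ i, (κ i).val ≤ i.val + 1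

instance {m : ℕ} : DecidablePred (IsHess (m := m)) := fun κ => by
  unfold IsHess
  infer_instance

/-- the composition attached to a Hessenberg permutation -/
def hessTyp {m : ℕ} (κ : Perm (Fin m)) (i : Fin m) : ℕ := i.val + 1 - (κ i).val

/-- the composition as a list, last part first -/
def hessList {m : ℕ} (κ : Perm (Fin m)) : List ℕ := (List.ofFn (hessTyp κ)).reverse

/-- extend a permutation of `Fin s` by the rotation of the remaining `j + 1` points -/
def hessEmb (s j : ℕ) (κ' : Perm (Fin s)) : Perm (Fin (s + (j + 1))) :=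
  finSumFinEquiv.permCongr (Equiv.Perm.sumCongr κ' (finRotate (j + 1)))

theorem hessEmb_castAdd (s j : ℕ) (κ' : Perm (Fin s)) (i : Fin s) :
    hessEmb s j κ' (Fin.castAdd (j + 1) i) = Fin.castAdd (j + 1) (κ' i) := by
  unfold hessEmb
  rw [Equiv.permCongr_apply, finSumFinEquiv_symm_apply_castAdd]
  rfl

theorem hessEmb_natAdd (s j : ℕ) (κ' : Perm (Fin s)) (i : Fin (j + 1)) :
    hessEmb s j κ' (Fin.natAdd s i) = Fin.natAdd s (finRotate (j + 1) i) := by
  unfold hessEmb
  rw [Equiv.permCongr_apply, finSumFinEquiv_symm_apply_natAdd]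
  rfl

theorem sign_hessEmb (s j : ℕ) (κ' : Perm (Fin s)) :
    Perm.sign (hessEmb s j κ') = (-1) ^ j * Perm.sign κ' := by
  unfold hessEmb
  rw [Perm.sign_permCongr, Perm.sign_sumCongr, sign_finRotate, mul_comm]
  rfl

theorem hessEmb_injective (s j : ℕ) : Function.Injective (hessEmb s j) := by
  intro a b hab
  ext i
  have h1 := congrArg (fun κ => κ (Fin.castAdd (j + 1) i)) hab
  simp only [hessEmb_castAdd] at h1
  have h2 := congrArg Fin.val h1
  simpa using h2

theorem isHess_hessEmb (s j : ℕ) (κ' : Perm (Fin s)) (h : IsHess κ') : IsHess (hessEmb s j κ') := by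
  intro i
  induction i using Fin.addCases with
  | left i =>
    rw [hessEmb_castAdd]
    exact h i
  | right i =>
    rw [hessEmb_natAdd]
    simp only [Fin.val_natAdd]
    rw [coe_finRotate]
    split_ifs <;> omega

theorem hessEmb_last (s j : ℕ) (κ' : Perm (Fin s)) :
    (hessEmb s j κ' (Fin.last (s + j))).val = s := by
  have h1 : (Fin.last (s + j) : Fin (s + (j + 1))) = Fin.natAdd s (Fin.last j) := by
    apply Fin.ext
    simp
  rw [h1, hessEmb_natAdd, finRotate_last]
  simp

theorem ofFn_last_indicator (j : ℕ) (c : ℕ) :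
    List.ofFn (fun i : Fin (j + 1) => if i = Fin.last j then c else 0) =
      List.replicate j 0 ++ [c] := by
  rw [List.ofFn_succ', List.concat_eq_append]
  congr 1
  · rw [← List.ofFn_const]
    congr 1
    funext i
    rw [if_neg (Fin.castSucc_lt_last i).ne]
  · rw [if_pos rfl]

theorem hessList_hessEmb (s j : ℕ) (κ' : Perm (Fin s)) :
    hessList (hessEmb s j κ') = (j + 1) :: (List.replicate j 0 ++ hessList κ') := by
  unfold hessList
  rw [List.ofFn_add, List.reverse_append]
  have h1 : (fun i : Fin (j + 1) => hessTyp (hessEmb s j κ') (Fin.natAdd s i)) =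
      fun i : Fin (j + 1) => if i = Fin.last j then j + 1 else 0 := by
    funext i
    unfold hessTyp
    rw [hessEmb_natAdd]
    simp only [Fin.val_natAdd]
    rw [coe_finRotate]
    split_ifs with h
    · subst h
      simp only [Fin.val_last]
      omega
    · omega
  have h2' : ∀ i : Fin s, hessTyp (hessEmb s j κ') (Fin.castAdd (j + 1) i) = hessTyp κ' i := by
    intro i
    unfold hessTyp
    rw [hessEmb_castAdd]
    simp
  have h2 : ∀ h : s ≤ s + (j + 1),
      (fun i : Fin s => hessTyp (hessEmb s j κ') (Fin.castLE h i)) = hessTyp κ' := by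
    intro h
    funext i
    exact h2' i
  rw [h1, h2, ofFn_last_indicator, List.reverse_append, List.reverse_replicate]
  rfl

/-- a permutation with `ρ i ≤ i + 1` sending the last point to `0` is the rotation -/
theorem eq_finRotate_of_hess (j : ℕ) (ρ : Perm (Fin (j + 1))) (h1 : ∀ i, (ρ i).val ≤ i.val + 1)
    (h2 : ρ (Fin.last j) = 0) : ρ = finRotate (j + 1) := by
  have key : ∀ d : ℕ, ∀ i : Fin (j + 1), i.val + d = j → 0 < d → (ρ i).val = i.val + 1 := by
    intro d
    induction d using Nat.strong_induction_on with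
    | _ d ih =>
      intro i hid hd
      let t : Fin (j + 1) := ρ.symm ⟨i.val + 1, by omega⟩
      have ht : ρ t = ⟨i.val + 1, by omega⟩ := Equiv.apply_symm_apply _ _
      have ht1 := h1 t
      rw [ht] at ht1
      simp only at ht1
      have htj : t.val ≤ j := by omega
      rcases Nat.lt_or_ge t.val j with hlt | hge
      · rcases Nat.lt_or_ge i.val t.val with hit | hti
        · exfalso
          have := ih (j - t.val) (by omega) t (by omega) (by omega)
          rw [ht] at this
          simp only at this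
          omega
        · have hti' : t = i := Fin.ext (by omega)
          have h3 : ρ i = ρ t := by rw [hti']
          rw [h3, ht]
      · exfalso
        have : t = Fin.last j := Fin.ext (by simp only [Fin.val_last]; omega)
        rw [this, h2] at ht
        have := congrArg Fin.val ht
        simp at this
  ext i
  by_cases hi : i = Fin.last j
  · rw [hi, h2, finRotate_last]
  · rw [coe_finRotate_of_ne_last hi]
    have : i.val < j := Fin.val_lt_last hi
    exact key (j - i.val) i (by omega) (by omega)

theorem exists_hessEmb_eq (s j : ℕ) (κ : Perm (Fin (s + (j + 1)))) (hκ : IsHess κ)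
    (hlast : (κ (Fin.last (s + j))).val = s) :
    ∃ κ' : Perm (Fin s), IsHess κ' ∧ hessEmb s j κ' = κ := by
  -- `κ` preserves the first `s` points
  have step1 : ∀ a : Fin s, (κ (Fin.castAdd (j + 1) a)).val < s := by
    intro a
    have h1 := hκ (Fin.castAdd (j + 1) a)
    simp only [Fin.val_castAdd] at h1
    have h2 : (κ (Fin.castAdd (j + 1) a)).val ≠ s := by
      intro h
      have h3 : κ (Fin.castAdd (j + 1) a) = κ (Fin.last (s + j)) := Fin.ext (by rw [h, hlast])
      have h4 := congrArg Fin.val (κ.injective h3)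
      simp only [Fin.val_castAdd, Fin.val_last] at h4
      omega
    omega
  let σ : Perm (Fin s ⊕ Fin (j + 1)) := finSumFinEquiv.symm.permCongr κ
  have hσ : Set.MapsTo σ (Set.range Sum.inl) (Set.range Sum.inl) := by
    rintro _ ⟨a, rfl⟩
    refine ⟨⟨_, step1 a⟩, ?_⟩
    change _ = finSumFinEquiv.symm (κ (finSumFinEquiv (Sum.inl a)))
    rw [Equiv.eq_symm_apply, finSumFinEquiv_apply_left, finSumFinEquiv_apply_left]
    apply Fin.ext
    simp
  obtain ⟨⟨κ', ρ⟩, hκρ⟩ := Perm.mem_sumCongrHom_range_of_perm_mapsTo_inl hσ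
  have hκρ' : Perm.sumCongr κ' ρ = σ := hκρ
  have hcast : ∀ a : Fin s, κ (Fin.castAdd (j + 1) a) = Fin.castAdd (j + 1) (κ' a) := by
    intro a
    have h1 : σ (Sum.inl a) = Sum.inl (κ' a) := by
      rw [← hκρ']
      rfl
    change finSumFinEquiv.symm (κ (finSumFinEquiv (Sum.inl a))) = _ at h1
    rw [Equiv.symm_apply_eq, finSumFinEquiv_apply_left, finSumFinEquiv_apply_left] at h1
    exact h1
  have hnat : ∀ b : Fin (j + 1), κ (Fin.natAdd s b) = Fin.natAdd s (ρ b) := by
    intro b
    have h1 : σ (Sum.inr b) = Sum.inr (ρ b) := by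
      rw [← hκρ']
      rfl
    change finSumFinEquiv.symm (κ (finSumFinEquiv (Sum.inr b))) = _ at h1
    rw [Equiv.symm_apply_eq, finSumFinEquiv_apply_right, finSumFinEquiv_apply_right] at h1
    exact h1
  have hρ1 : ∀ i, (ρ i).val ≤ i.val + 1 := by
    intro i
    have h1 := hκ (Fin.natAdd s i)
    rw [hnat] at h1
    simp only [Fin.val_natAdd] at h1
    omega
  have hρ2 : ρ (Fin.last j) = 0 := by
    have h1 : (Fin.last (s + j) : Fin (s + (j + 1))) = Fin.natAdd s (Fin.last j) := by
      apply Fin.ext
      simp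
    rw [h1, hnat] at hlast
    simp only [Fin.val_natAdd] at hlast
    apply Fin.ext
    simp only [Fin.val_zero]
    omega
  have hρ := eq_finRotate_of_hess j ρ hρ1 hρ2
  refine ⟨κ', ?_, ?_⟩
  · intro a
    have h1 := hκ (Fin.castAdd (j + 1) a)
    rw [hcast] at h1
    simpa using h1
  · ext x
    congr 1
    induction x using Fin.addCases with
    | left a => rw [hessEmb_castAdd, hcast]
    | right b => rw [hessEmb_natAdd, hnat, hρ]

/-- signed sum over Hessenberg permutations -/
def hessSum (Φ : List ℕ → ℤ) (m : ℕ) : ℤ :=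
  ∑ κ : Perm (Fin m), if IsHess κ then (Perm.sign κ : ℤ) * Φ (hessList κ) else 0

theorem hessSum_succ (Φ : List ℕ → ℤ) (m : ℕ) :
    hessSum Φ (m + 1) = ∑ s ∈ range (m + 1), (-1) ^ (m - s) *
      hessSum (fun l => Φ ((m + 1 - s) :: (List.replicate (m - s) 0 ++ l))) s := by
  unfold hessSum
  rw [← Finset.sum_fiberwise_of_maps_to (s := univ) (t := range (m + 1))
    (g := fun κ : Perm (Fin (m + 1)) => (κ (Fin.last m)).val)
    (fun κ _ => by
      rw [mem_range]
      exact (κ (Fin.last m)).isLt)]
  apply Finset.sum_congr rfl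
  intro s hs
  rw [mem_range] at hs
  obtain ⟨j, rfl⟩ : ∃ j, m = s + j := ⟨m - s, by omega⟩
  rw [Nat.add_sub_cancel_left, show s + j + 1 - s = j + 1 by omega,
    ← Finset.sum_filter, Finset.filter_filter, ← Finset.sum_filter, Finset.mul_sum]
  symm
  apply Finset.sum_bij (fun κ' _ => hessEmb s j κ')
  · intro κ' hκ'
    rw [mem_filter] at hκ' ⊢
    exact ⟨mem_univ _, hessEmb_last s j κ', isHess_hessEmb s j κ' hκ'.2⟩
  · intro a _ b _ hab
    exact hessEmb_injective s j hab
  · intro κ hκ
    rw [mem_filter] at hκ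
    obtain ⟨κ', h1, h2⟩ := exists_hessEmb_eq s j κ hκ.2.2 hκ.2.1
    exact ⟨κ', mem_filter.mpr ⟨mem_univ _, h1⟩, h2⟩
  · intro κ' _
    have h1 := sign_hessEmb s j κ'
    have h2 := hessList_hessEmb s j κ'
    change _ = ((Perm.sign (hessEmb s j κ') : ℤˣ) : ℤ) * Φ (hessList (hessEmb s j κ'))
    rw [h1, h2]
    push_cast
    ring

end Cfsg.Agent.Lib.Helper47
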