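import Mathlib
import Cfsg.Agent.Lib.Helper47.HessenbergSum

set_option autoImplicit false

/-!
# Recursive count of chains of invariant subspaces and the Hessenberg alternating sum
-/

namespace Cfsg.Agent.Lib.Helper47

open Finset Module

theorem hessSum_sum {ι : Type*} (T : Finset ι) (Ψ : ι → List ℕ → ℤ) (m : ℕ) :
    hessSum (fun l => ∑ i ∈ T, Ψ i l) m = ∑ i ∈ T, hessSum (Ψ i) m := by
  unfold hessSum
  rw [Finset.sum_comm]
  apply Finset.sum_congr rfl
  intro κ _
  split_ifs
  · rw [Finset.mul_sum]
  · rw [Finset.sum_const_zero]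

theorem hessSum_zero (Φ : List ℕ → ℤ) : hessSum Φ 0 = Φ [] := by
  unfold hessSum
  rw [Fintype.sum_subsingleton _ (1 : Equiv.Perm (Fin 0)),
    if_pos (show IsHess (1 : Equiv.Perm (Fin 0)) from fun i => i.elim0)]
  simp [hessList]

section
variable {K V : Type*} [Field K] [AddCommGroup V] [Module K V] [Module.Finite K V]
  [Fintype (Submodule K V)] (X : Module.End K V)

open Classical in
/-- recursive count of chains of invariant subspaces ending at `U` with prescribed dimension jumps,
the last jump first -/
noncomputable def fc : List ℕ → Submodule K V → ℕ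
  | [], U => if U = ⊥ then 1 else 0
  | t :: ts, U => ∑ U' ∈ univ.filter (fun U' : Submodule K V =>
      U' ≤ U ∧ U' ∈ X.invtSubmodule ∧ finrank K U' + t = finrank K U), fc ts U'

omit [Module.Finite K V] in
open Classical in
theorem fc_cons (t : ℕ) (ts : List ℕ) (U : Submodule K V) :
    fc X (t :: ts) U = ∑ U' ∈ univ.filter (fun U' : Submodule K V =>
      U' ≤ U ∧ U' ∈ X.invtSubmodule ∧ finrank K U' + t = finrank K U), fc X ts U' := rfl

omit [Module.Finite K V] in
open Classical in
theorem fc_nil (U : Submodule K V) : fc X [] U = if U = ⊥ then 1 else 0 := rfl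

theorem fc_zero_cons (ts : List ℕ) (U : Submodule K V) (hU : U ∈ X.invtSubmodule) :
    fc X (0 :: ts) U = fc X ts U := by
  classical
  rw [fc_cons]
  have h1 : univ.filter (fun U' : Submodule K V =>
      U' ≤ U ∧ U' ∈ X.invtSubmodule ∧ finrank K U' + 0 = finrank K U) = {U} := by
    ext U'
    simp only [mem_filter, mem_univ, true_and, mem_singleton, add_zero]
    constructor
    · rintro ⟨h1, -, h3⟩
      exact Submodule.eq_of_le_of_finrank_eq h1 h3
    · rintro rfl
      exact ⟨le_refl _, hU, rfl⟩
  rw [h1, Finset.sum_singleton]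

theorem fc_replicate_zero (j : ℕ) (ts : List ℕ) (U : Submodule K V) (hU : U ∈ X.invtSubmodule) :
    fc X (List.replicate j 0 ++ ts) U = fc X ts U := by
  induction j with
  | zero => rfl
  | succ j ih =>
    rw [List.replicate_succ, List.cons_append, fc_zero_cons X _ U hU, ih]

/-- the Hessenberg alternating sum of chain counts -/
noncomputable def stA (m : ℕ) (U : Submodule K V) : ℤ :=
  hessSum (fun l => (fc X l U : ℤ)) m

open Classical in
theorem stA_succ (m : ℕ) (U : Submodule K V) :
    stA X (m + 1) U = ∑ s ∈ range (m + 1), (-1) ^ (m - s) *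
      ∑ U' ∈ univ.filter (fun U' : Submodule K V =>
        U' ≤ U ∧ U' ∈ X.invtSubmodule ∧ finrank K U' + (m + 1 - s) = finrank K U),
        stA X s U' := by
  unfold stA
  rw [hessSum_succ]
  apply Finset.sum_congr rfl
  intro s _
  congr 1
  rw [← hessSum_sum]
  congr 1
  funext l
  rw [fc_cons]
  push_cast
  apply Finset.sum_congr rfl
  intro U' hU'
  rw [mem_filter] at hU'
  rw [fc_replicate_zero X _ _ U' hU'.2.2.1]

/-- the function satisfying the Möbius recursion -/
noncomputable def stMob (U : Submodule K V) : ℤ :=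
  (-1) ^ (finrank K U) * stA X (finrank K U) U

omit [Module.Finite K V] in
theorem stMob_bot : stMob X (⊥ : Submodule K V) = 1 := by
  unfold stMob stA
  rw [finrank_bot, hessSum_zero, fc_nil, if_pos rfl]
  simp

open Classical in
theorem stMob_rec (U : Submodule K V) (hU : U ∈ X.invtSubmodule) (hne : U ≠ ⊥) :
    ∑ W ∈ univ.filter (fun W : Submodule K V => W ≤ U ∧ W ∈ X.invtSubmodule), stMob X W = 0 := by
  obtain ⟨m, hm⟩ : ∃ m, finrank K U = m + 1 := by
    have : finrank K U ≠ 0 := by
      intro h
      exact hne (Submodule.finrank_eq_zero.mp h)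
    exact ⟨finrank K U - 1, by omega⟩
  rw [← Finset.sum_fiberwise_of_maps_to (t := range (m + 2)) (g := fun W : Submodule K V => finrank K W)
    (fun W hW => by
      rw [mem_filter] at hW
      rw [mem_range]
      have := Submodule.finrank_mono hW.2.1
      omega), Finset.sum_range_succ]
  have hlast : ∑ W ∈ (univ.filter (fun W : Submodule K V => W ≤ U ∧ W ∈ X.invtSubmodule)).filter
      (fun W : Submodule K V => finrank K W = m + 1), stMob X W = stMob X U := by
    have h1 : (univ.filter (fun W : Submodule K V => W ≤ U ∧ W ∈ X.invtSubmodule)).filter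
        (fun W : Submodule K V => finrank K W = m + 1) = {U} := by
      ext W
      simp only [mem_filter, mem_univ, true_and, mem_singleton]
      constructor
      · rintro ⟨⟨h1, -⟩, h3⟩
        exact Submodule.eq_of_le_of_finrank_eq h1 (h3.trans hm.symm)
      · rintro rfl
        exact ⟨⟨le_refl _, hU⟩, hm⟩
    rw [h1, Finset.sum_singleton]
  rw [hlast]
  have hU' : stMob X U = - ∑ s ∈ range (m + 1),
      ∑ W ∈ (univ.filter (fun W : Submodule K V => W ≤ U ∧ W ∈ X.invtSubmodule)).filter
        (fun W : Submodule K V => finrank K W = s), stMob X W := by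
    unfold stMob
    rw [hm, stA_succ, Finset.mul_sum, ← Finset.sum_neg_distrib]
    apply Finset.sum_congr rfl
    intro s hs
    rw [mem_range] at hs
    rw [Finset.filter_filter, ← mul_assoc, Finset.mul_sum, ← Finset.sum_neg_distrib]
    apply Finset.sum_congr
    · ext W
      simp only [mem_filter, mem_univ, true_and]
      constructor
      · rintro ⟨h1, h2, h3⟩
        exact ⟨⟨h1, h2⟩, by omega⟩
      · rintro ⟨⟨h1, h2⟩, h3⟩
        exact ⟨h1, h2, by omega⟩
    · intro W hW
      rw [mem_filter] at hW
      rw [hW.2.2]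
      have h2 : (-1 : ℤ) ^ (m + 1) * (-1) ^ (m - s) = - (-1) ^ s := by
        have h3 : m + 1 + (m - s) = s + (2 * (m - s) + 1) := by omega
        rw [← pow_add, h3, pow_add, pow_succ, pow_mul]
        simp
      rw [h2]
      ring
  rw [hU']
  ring

end

end Cfsg.Agent.Lib.Helper47
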