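import Mathlib
import Cfsg.Agent.Lib.Helper47.FlagRec
import Cfsg.Agent.Lib.Helper47.FlagCount
import Cfsg.Agent.Lib.Helper47.CompLabel

set_option autoImplicit false

/-!
# Chains of invariant subspaces as functions, and their recursive count
-/

namespace Cfsg.Agent.Lib.Helper47

open Finset Module

theorem psum_init {k : ℕ} (μ : Fin (k + 1) → ℕ) (m : ℕ) (hm : m ≤ k) :
    psum (Fin.init μ) m = psum μ m := by
  unfold psum
  rw [Finset.sum_filter, Finset.sum_filter, Fin.sum_univ_castSucc]
  simp only [Fin.val_castSucc, Fin.val_last]
  rw [if_neg (by omega), add_zero]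
  rfl

theorem psum_top {n : ℕ} (μ : Fin n → ℕ) : psum μ n = ∑ i, μ i := by
  unfold psum
  congr 1
  ext j
  simp

section
variable {K V : Type*} [Field K] [AddCommGroup V] [Module K V] [Module.Finite K V]
  [Fintype (Submodule K V)] (X : Module.End K V)

/-- chains of invariant subspaces with prescribed dimensions, as functions -/
def flagFun (k : ℕ) (μ : Fin k → ℕ) (U : Submodule K V) : Set (Fin (k + 1) → Submodule K V) :=
  {W | Monotone W ∧ W (Fin.last k) = U ∧
    ∀ i, W i ∈ X.invtSubmodule ∧ finrank K (W i) = psum μ i}

/-- peeling off the top of a chain -/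
def flagFunEquiv (k : ℕ) (μ : Fin (k + 1) → ℕ) (U : Submodule K V) (hU : U ∈ X.invtSubmodule) :
    flagFun X (k + 1) μ U ≃
      Σ U' : {U' : Submodule K V // U' ≤ U ∧ U' ∈ X.invtSubmodule ∧
        finrank K U' + μ (Fin.last k) = finrank K U},
        {W' : Fin (k + 1) → Submodule K V // W' ∈ flagFun X k (Fin.init μ) U'.1} where
  toFun W := ⟨⟨W.1 (Fin.castSucc (Fin.last k)), by
      have hmono := W.2.1
      have hlast := W.2.2.1
      have hW := W.2.2.2
      refine ⟨(hmono (Fin.castSucc_lt_last _).le).trans (le_of_eq hlast), (hW _).1, ?_⟩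
      have h1 := (hW (Fin.castSucc (Fin.last k))).2
      have h2 := (hW (Fin.last (k + 1))).2
      rw [hlast] at h2
      rw [h1, h2]
      simp only [Fin.val_castSucc, Fin.val_last]
      exact (psum_succ μ (Fin.last k)).symm⟩,
    ⟨Fin.init W.1, by
      have hmono := W.2.1
      have hW := W.2.2.2
      refine ⟨?_, rfl, ?_⟩
      · intro a b hab
        exact hmono (Fin.castSucc_le_castSucc_iff.mpr hab)
      · intro i
        refine ⟨(hW _).1, ?_⟩
        change finrank K (W.1 (Fin.castSucc i)) = _
        rw [(hW _).2, psum_init μ i.val (by omega)]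
        rfl⟩⟩
  invFun p := ⟨Fin.snoc (α := fun _ => Submodule K V) p.2.1 U, by
      obtain ⟨⟨U', hU'1, hU'2, hU'3⟩, ⟨W', hmono, hlast, hW'⟩⟩ := p
      simp only at hlast
      refine ⟨?_, ?_, ?_⟩
      · intro a b hab
        induction b using Fin.lastCases with
        | last =>
          induction a using Fin.lastCases with
          | last => exact le_refl _
          | cast a =>
            rw [Fin.snoc_castSucc, Fin.snoc_last]
            refine le_trans (hmono (Fin.le_last a)) ?_
            rw [hlast]
            exact hU'1
        | cast b =>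
          induction a using Fin.lastCases with
          | last =>
            exfalso
            exact absurd hab (not_le.mpr (Fin.castSucc_lt_last b))
          | cast a =>
            rw [Fin.snoc_castSucc, Fin.snoc_castSucc]
            exact hmono (Fin.castSucc_le_castSucc_iff.mp hab)
      · rw [Fin.snoc_last]
      · intro i
        induction i using Fin.lastCases with
        | last =>
          rw [Fin.snoc_last]
          refine ⟨hU, ?_⟩
          have h1 := (hW' (Fin.last k)).2
          rw [hlast] at h1
          rw [← hU'3, h1, Fin.val_last, psum_init μ k le_rfl, Fin.val_last]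
          exact (psum_succ μ (Fin.last k)).symm
        | cast i =>
          rw [Fin.snoc_castSucc]
          refine ⟨(hW' i).1, ?_⟩
          rw [(hW' i).2, psum_init μ i.val (by omega)]
          rfl⟩
  left_inv W := by
    obtain ⟨W, hmono, hlast, hW⟩ := W
    apply Subtype.ext
    change Fin.snoc (α := fun _ => Submodule K V) (Fin.init W) U = W
    rw [← hlast]
    exact Fin.snoc_init_self W
  right_inv p := by
    obtain ⟨⟨U', hU'1, hU'2, hU'3⟩, ⟨W', hmono, hlast, hW'⟩⟩ := p
    apply sigma_subtype_ext (p := fun U' : Submodule K V => U' ≤ U ∧ U' ∈ X.invtSubmodule ∧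
        finrank K U' + μ (Fin.last k) = finrank K U)
      (q := fun U' W' => W' ∈ flagFun X k (Fin.init μ) U')
    · change Fin.snoc (α := fun _ => Submodule K V) W' U (Fin.castSucc (Fin.last k)) = U'
      rw [Fin.snoc_castSucc]
      exact hlast
    · change Fin.init (Fin.snoc (α := fun _ => Submodule K V) W' U) = W'
      exact Fin.init_snoc _ _

theorem card_flagFun (k : ℕ) : ∀ (μ : Fin k → ℕ) (U : Submodule K V), U ∈ X.invtSubmodule →
    Nat.card (flagFun X k μ U) = fc X (List.ofFn μ).reverse U := by
  classical
  induction k with
  | zero =>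
    intro μ U hU
    rw [List.ofFn_zero, List.reverse_nil, fc_nil]
    split_ifs with h
    · rw [Nat.card_eq_one_iff_unique]
      constructor
      · constructor
        rintro ⟨W₁, -, h1, -⟩ ⟨W₂, -, h2, -⟩
        apply Subtype.ext
        funext i
        have hi : i = Fin.last 0 := Fin.ext (by have := i.isLt; simp only [Fin.val_last]; omega)
        change W₁ i = W₂ i
        rw [hi, h1, h2]
      · refine ⟨⟨fun _ => ⊥, ?_, h.symm, ?_⟩⟩
        · intro a b _
          exact le_refl _
        · intro i
          refine ⟨Module.End.invtSubmodule.bot_mem X, ?_⟩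
          have hi : i.val = 0 := by have := i.isLt; omega
          rw [finrank_bot, hi]
          exact (psum_zero μ).symm
    · rw [Nat.card_eq_zero]
      left
      constructor
      rintro ⟨W, -, h1, hW⟩
      apply h
      rw [← h1]
      apply Submodule.finrank_eq_zero.mp
      rw [(hW _).2]
      exact psum_zero μ
  | succ k ih =>
    intro μ U hU
    have : Finite (Fin (k + 1) → Submodule K V) := inferInstance
    rw [Nat.card_congr (flagFunEquiv X k μ U hU), Nat.card_sigma, List.ofFn_succ',
      List.concat_eq_append, List.reverse_append, List.reverse_singleton, List.singleton_append,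
      fc_cons]
    rw [Finset.sum_subtype (univ.filter (fun U' : Submodule K V =>
      U' ≤ U ∧ U' ∈ X.invtSubmodule ∧ finrank K U' + μ (Fin.last k) = finrank K U))
      (p := fun U' : Submodule K V =>
        U' ≤ U ∧ U' ∈ X.invtSubmodule ∧ finrank K U' + μ (Fin.last k) = finrank K U)
      (fun U' => by simp only [mem_filter, mem_univ, true_and])
      (fun U' => fc X (List.ofFn fun i => μ (Fin.castSucc i)).reverse U')]
    apply Fintype.sum_equiv (Equiv.refl _)
    intro U'
    exact ih (Fin.init μ) U'.1 U'.2.2.1

end

end Cfsg.Agent.Lib.Helper47
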