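import Mathlib
import Cfsg.Prelude.Def_LinearParabolics
import Cfsg.Agent.Lib.Helper47.FlagFun
import Cfsg.Agent.Lib.Helper47.CompLabel
import Cfsg.Agent.Lib.Helper47.FlagCount

set_option autoImplicit false

/-!
# Cosets of a standard parabolic subgroup of `GL_n` and flags
-/

namespace Cfsg.Agent.Lib.Helper47

open Finset Module

open scoped MatrixGroups

section std
variable (F : Type*) [Field F] (n : ℕ)

/-- vectors supported on the first `d` coordinates -/
def stdSub (d : ℕ) : Submodule F (Fin n → F) where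
  carrier := {v | ∀ i : Fin n, d ≤ i.val → v i = 0}
  add_mem' := fun {v w} hv hw i hi => by rw [Pi.add_apply, hv i hi, hw i hi, add_zero]
  zero_mem' := fun i _ => rfl
  smul_mem' := fun c v hv i hi => by rw [Pi.smul_apply, hv i hi, smul_zero]

theorem mem_stdSub (d : ℕ) (v : Fin n → F) :
    v ∈ stdSub F n d ↔ ∀ i : Fin n, d ≤ i.val → v i = 0 := Iff.rfl

theorem stdSub_mono : Monotone (stdSub F n) := fun _ _ hab _ hv i hi => hv i (le_trans hab hi)

theorem stdSub_top (d : ℕ) (hd : n ≤ d) : stdSub F n d = ⊤ := by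
  rw [eq_top_iff]
  intro v _ i hi
  exact absurd i.isLt (by omega)

theorem single_mem_stdSub (j : Fin n) (d : ℕ) (h : j.val < d) :
    (Pi.single j 1 : Fin n → F) ∈ stdSub F n d := by
  intro i hi
  rw [Pi.single_apply, if_neg]
  intro hij
  rw [hij] at hi
  omega

theorem stdSub_eq_span (d : ℕ) : stdSub F n d = Submodule.span F
    (Set.range (fun j : {j : Fin n // j.val < d} => (Pi.single j.1 1 : Fin n → F))) := by
  apply le_antisymm
  · intro v hv
    have h1 : v = ∑ i, v i • (Pi.single i 1 : Fin n → F) := by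
      funext r
      simp [Finset.sum_apply, Pi.single_apply]
    rw [h1]
    apply Submodule.sum_mem
    intro i _
    by_cases hi : i.val < d
    · exact Submodule.smul_mem _ _ (Submodule.subset_span ⟨⟨i, hi⟩, rfl⟩)
    · rw [hv i (not_lt.mp hi), zero_smul]
      exact Submodule.zero_mem _
  · rw [Submodule.span_le]
    rintro _ ⟨j, rfl⟩
    exact single_mem_stdSub F n j.1 d j.2

theorem finrank_stdSub (d : ℕ) (hd : d ≤ n) : finrank F (stdSub F n d) = d := by
  rw [stdSub_eq_span, finrank_span_eq_card]
  · rw [Fintype.card_subtype, Fin.card_filter_val_lt]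
    omega
  · have h := (Pi.basisFun F (Fin n)).linearIndependent
    have h2 := h.comp (Subtype.val : {j : Fin n // j.val < d} → Fin n) Subtype.val_injective
    convert h2 using 1
    funext j
    simp

end std

section parabolic
variable {F : Type*} [Field F] {n : ℕ}

theorem toLin'_single (g : Matrix (Fin n) (Fin n) F) (c r : Fin n) :
    Matrix.toLin' g (Pi.single c 1) r = g r c := by
  rw [Matrix.toLin'_apply, Matrix.mulVec_single_one]
  rfl

theorem mem_parabolic_iff (μ : Fin n → ℕ) (hμ : ∑ i, μ i = n) (g : GL (Fin n) F) :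
    g ∈ Cfsg.parabolicGL n F μ ↔ ∀ i : Fin (n + 1),
      (stdSub F n (psum μ i)).map (Matrix.toLin' (g : Matrix (Fin n) (Fin n) F)) ≤
        stdSub F n (psum μ i) := by
  constructor
  · intro h i
    have h' : (g : Matrix (Fin n) (Fin n) F).BlockTriangular (Cfsg.compLabel μ) := h
    rintro _ ⟨v, hv, rfl⟩ r hr
    rw [Matrix.toLin'_apply, Matrix.mulVec, dotProduct]
    apply Finset.sum_eq_zero
    intro c _
    by_cases hc : c.val < psum μ i
    · have hpos : 0 < i.val := by
        rcases Nat.eq_zero_or_pos i.val with h0 | h0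
        · rw [h0, psum_zero] at hc
          omega
        · exact h0
      have hi' : i.val - 1 < n := by have := i.isLt; omega
      have e1 : ((⟨i.val - 1, hi'⟩ : Fin n) : ℕ) + 1 = i.val := by
        change i.val - 1 + 1 = i.val
        omega
      have h1 := compLabel_le_iff μ c ⟨i.val - 1, hi'⟩
      have h2 := compLabel_le_iff μ r ⟨i.val - 1, hi'⟩
      rw [e1] at h1 h2
      have h3 : Cfsg.compLabel μ c < Cfsg.compLabel μ r := by
        have h4 := h1.mpr hc
        have h5 : ¬ Cfsg.compLabel μ r ≤ (⟨i.val - 1, hi'⟩ : Fin n) := fun h => by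
          have := h2.mp h
          omega
        omega
      rw [h' h3, zero_mul]
    · rw [hv c (not_lt.mp hc), mul_zero]
  · intro h
    change (g : Matrix (Fin n) (Fin n) F).BlockTriangular (Cfsg.compLabel μ)
    intro r c hlt
    have hL := compLabel_lt μ hμ c
    have h1 := compLabel_le_iff μ c ⟨Cfsg.compLabel μ c, hL⟩
    have h2 := compLabel_le_iff μ r ⟨Cfsg.compLabel μ c, hL⟩
    simp only at h1 h2
    have hc : c.val < psum μ (Cfsg.compLabel μ c + 1) := h1.mp le_rfl
    have hmem := h ⟨Cfsg.compLabel μ c + 1, by omega⟩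
      ⟨Pi.single c 1, single_mem_stdSub F n c _ hc, rfl⟩
    have hr : psum μ (Cfsg.compLabel μ c + 1) ≤ r.val := by
      by_contra hcon
      have := h2.mpr (not_le.mp hcon)
      omega
    have := hmem r hr
    rwa [toLin'_single] at this

end parabolic

section coset
variable {F : Type*} [Field F] {n : ℕ}

/-- the action of `GL_n` on families of subspaces -/
def flagAct (g : GL (Fin n) F) (W : Fin (n + 1) → Submodule F (Fin n → F)) :
    Fin (n + 1) → Submodule F (Fin n → F) :=
  fun i => (W i).map (Matrix.toLin' (g : Matrix (Fin n) (Fin n) F))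

theorem flagAct_mul (g h : GL (Fin n) F) (W : Fin (n + 1) → Submodule F (Fin n → F)) :
    flagAct (g * h) W = flagAct g (flagAct h W) := by
  funext i
  unfold flagAct
  rw [Units.val_mul, Matrix.toLin'_mul, Submodule.map_comp]

theorem flagAct_one (W : Fin (n + 1) → Submodule F (Fin n → F)) : flagAct 1 W = W := by
  funext i
  unfold flagAct
  rw [Units.val_one, Matrix.toLin'_one, Submodule.map_id]

theorem flagAct_inv_flagAct (g : GL (Fin n) F) (W : Fin (n + 1) → Submodule F (Fin n → F)) :
    flagAct g⁻¹ (flagAct g W) = W := by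
  rw [← flagAct_mul, inv_mul_cancel, flagAct_one]

theorem flagAct_flagAct_inv (g : GL (Fin n) F) (W : Fin (n + 1) → Submodule F (Fin n → F)) :
    flagAct g (flagAct g⁻¹ W) = W := by
  rw [← flagAct_mul, mul_inv_cancel, flagAct_one]

theorem toLin'_injective (g : GL (Fin n) F) :
    Function.Injective (Matrix.toLin' (g : Matrix (Fin n) (Fin n) F)) := by
  intro v w hvw
  have h1 := congrArg (Matrix.toLin' ((g⁻¹ : GL (Fin n) F) : Matrix (Fin n) (Fin n) F)) hvw
  rw [← LinearMap.comp_apply, ← LinearMap.comp_apply, ← Matrix.toLin'_mul, ← Units.val_mul,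
    inv_mul_cancel, Units.val_one, Matrix.toLin'_one] at h1
  exact h1

theorem finrank_flagAct (g : GL (Fin n) F) (W : Fin (n + 1) → Submodule F (Fin n → F))
    (i : Fin (n + 1)) : finrank F (flagAct g W i) = finrank F (W i) :=
  (LinearEquiv.finrank_eq (Submodule.equivMapOfInjective _ (toLin'_injective g) (W i))).symm

/-- the standard flag of a composition -/
def stdFlag (F : Type*) [Field F] {n : ℕ} (μ : Fin n → ℕ) :
    Fin (n + 1) → Submodule F (Fin n → F) :=
  fun i => stdSub F n (psum μ i)

theorem mem_parabolic_iff_flagAct (μ : Fin n → ℕ) (hμ : ∑ i, μ i = n) (g : GL (Fin n) F) :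
    g ∈ Cfsg.parabolicGL n F μ ↔ flagAct g (stdFlag F μ) = stdFlag F μ := by
  constructor
  · intro hg
    funext i
    apply le_antisymm ((mem_parabolic_iff μ hμ g).mp hg i)
    have h1 := (mem_parabolic_iff μ hμ g⁻¹).mp (inv_mem hg) i
    have h2 := Submodule.map_mono (f := Matrix.toLin' (g : Matrix (Fin n) (Fin n) F)) h1
    have h3 := congrFun (flagAct_flagAct_inv g (stdFlag F μ)) i
    change ((stdSub F n (psum μ i)).map _).map _ = stdSub F n (psum μ i) at h3
    rw [h3] at h2
    exact h2
  · intro h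
    rw [mem_parabolic_iff μ hμ]
    intro i
    exact le_of_eq (congrFun h i)

/-- the flag attached to a coset of the parabolic subgroup -/
def cosetFlag (μ : Fin n → ℕ) (hμ : ∑ i, μ i = n) :
    GL (Fin n) F ⧸ Cfsg.parabolicGL n F μ → Fin (n + 1) → Submodule F (Fin n → F) :=
  fun c => Quotient.liftOn' c (fun g => flagAct g (stdFlag F μ)) (fun g h hgh => by
    have h1 : g⁻¹ * h ∈ Cfsg.parabolicGL n F μ := QuotientGroup.leftRel_apply.mp hgh
    have h2 := (mem_parabolic_iff_flagAct μ hμ _).mp h1
    change flagAct g (stdFlag F μ) = flagAct h (stdFlag F μ)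
    have h3 : h = g * (g⁻¹ * h) := by group
    rw [h3, flagAct_mul, h2])

theorem cosetFlag_mk (μ : Fin n → ℕ) (hμ : ∑ i, μ i = n) (g : GL (Fin n) F) :
    cosetFlag μ hμ (g : GL (Fin n) F ⧸ Cfsg.parabolicGL n F μ) = flagAct g (stdFlag F μ) := rfl

theorem cosetFlag_injective (μ : Fin n → ℕ) (hμ : ∑ i, μ i = n) :
    Function.Injective (cosetFlag (F := F) μ hμ) := by
  intro c₁ c₂
  induction c₁ using QuotientGroup.induction_on with
  | H g =>
    induction c₂ using QuotientGroup.induction_on with
    | H h =>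
      intro heq
      rw [cosetFlag_mk, cosetFlag_mk] at heq
      rw [QuotientGroup.eq, mem_parabolic_iff_flagAct μ hμ, flagAct_mul, ← heq,
        flagAct_inv_flagAct]

theorem cosetFlag_smul (μ : Fin n → ℕ) (hμ : ∑ i, μ i = n) (x : GL (Fin n) F)
    (c : GL (Fin n) F ⧸ Cfsg.parabolicGL n F μ) :
    cosetFlag μ hμ (x • c) = flagAct x (cosetFlag μ hμ c) := by
  induction c using QuotientGroup.induction_on with
  | H g =>
    rw [MulAction.Quotient.smul_mk, cosetFlag_mk, cosetFlag_mk, smul_eq_mul, flagAct_mul]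

end coset

section count
variable {F : Type*} [Field F] [Fintype F] {n : ℕ}

theorem card_submodule_eq (S : Submodule F (Fin n → F)) :
    Nat.card S = Fintype.card F ^ finrank F S := by
  have := Fintype.ofFinite S
  rw [Nat.card_eq_fintype_card, Module.card_eq_pow_finrank (K := F)]

theorem label_succ_le (μ : Fin n → ℕ) (i : Fin (n + 1)) (j : Fin n) (hj : j.val < psum μ i) :
    Cfsg.compLabel μ j + 1 ≤ i.val := by
  have hpos : 0 < i.val := by
    rcases Nat.eq_zero_or_pos i.val with h0 | h0
    · rw [h0, psum_zero] at hj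
      omega
    · exact h0
  have hi' : i.val - 1 < n := by have := i.isLt; omega
  have e1 : ((⟨i.val - 1, hi'⟩ : Fin n) : ℕ) + 1 = i.val := by
    change i.val - 1 + 1 = i.val
    omega
  have h1 := compLabel_le_iff μ j ⟨i.val - 1, hi'⟩
  rw [e1] at h1
  have h2 := h1.mpr hj
  change Cfsg.compLabel μ j ≤ i.val - 1 at h2
  omega

/-- every flag of the right type is the image of the standard flag -/
theorem exists_flagAct_eq (μ : Fin n → ℕ) (hμ : ∑ i, μ i = n)
    (W : Fin (n + 1) → Submodule F (Fin n → F)) (hmono : Monotone W)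
    (hdim : ∀ i, finrank F (W i) = psum μ i) :
    ∃ g : GL (Fin n) F, flagAct g (stdFlag F μ) = W := by
  have hL : ∀ j : Fin n, Cfsg.compLabel μ j + 1 < n + 1 := fun j => by
    have := compLabel_lt μ hμ j
    omega
  let W' : Fin n → Submodule F (Fin n → F) := fun j => W ⟨Cfsg.compLabel μ j + 1, hL j⟩
  have hW'mono : Monotone W' := by
    intro a b hab
    apply hmono
    rw [Fin.mk_le_mk]
    have := compLabel_monotone μ hab
    omega
  have hW'dim : ∀ j : Fin n, j.val < finrank F (W' j) := by
    intro j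
    rw [hdim]
    exact (compLabel_le_iff μ j ⟨Cfsg.compLabel μ j, compLabel_lt μ hμ j⟩).mp le_rfl
  have hcount := card_flag_linearIndependent n W' hW'mono
  have hpos : 0 < Nat.card {s : Fin n → (Fin n → F) //
      LinearIndependent F s ∧ ∀ j, s j ∈ W' j} := by
    rw [hcount]
    apply Finset.prod_pos
    intro j _
    rw [card_submodule_eq]
    have := Nat.pow_lt_pow_right (Fintype.one_lt_card : 1 < Fintype.card F) (hW'dim j)
    omega
  obtain ⟨⟨s, hsLI, hsmem⟩⟩ := (Nat.card_pos_iff.mp hpos).1
  let g : GL (Fin n) F := (Matrix.equiv_GL_linearindependent n).symm ⟨s, hsLI⟩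
  have hg : ∀ j, (g : Matrix (Fin n) (Fin n) F).col j = s j := by
    intro j
    have := congrArg Subtype.val
      ((Matrix.equiv_GL_linearindependent n).apply_symm_apply ⟨s, hsLI⟩)
    exact congrFun this j
  refine ⟨g, ?_⟩
  funext i
  change (stdSub F n (psum μ i)).map (Matrix.toLin' (g : Matrix (Fin n) (Fin n) F)) = W i
  have himg : (stdSub F n (psum μ i)).map (Matrix.toLin' (g : Matrix (Fin n) (Fin n) F)) =
      Submodule.span F (Set.range (fun j : {j : Fin n // j.val < psum μ i} => s j.1)) := by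
    rw [stdSub_eq_span, Submodule.map_span, ← Set.range_comp]
    congr 2
    funext j
    change Matrix.toLin' _ (Pi.single j.1 1) = s j.1
    rw [Matrix.toLin'_apply, Matrix.mulVec_single_one, hg]
  rw [himg]
  apply Submodule.eq_of_le_of_finrank_eq
  · rw [Submodule.span_le]
    rintro _ ⟨j, rfl⟩
    refine hmono ?_ (hsmem j.1)
    rw [Fin.le_def]
    exact label_succ_le μ i j.1 j.2
  · have hLI : LinearIndependent F (fun j : {j : Fin n // j.val < psum μ i} => s j.1) :=
      hsLI.comp Subtype.val Subtype.val_injective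
    rw [finrank_span_eq_card hLI, hdim, Fintype.card_subtype, Fin.card_filter_val_lt]
    have := psum_le_sum μ i
    omega

omit [Fintype F] in
theorem flagAct_top_last (μ : Fin n → ℕ) (hμ : ∑ i, μ i = n) (g : GL (Fin n) F) :
    flagAct g (stdFlag F μ) (Fin.last n) = ⊤ := by
  have h1 : stdFlag F μ (Fin.last n) = ⊤ := by
    unfold stdFlag
    apply stdSub_top
    rw [Fin.val_last, psum_top, hμ]
  unfold flagAct
  rw [h1, Submodule.map_top, LinearMap.range_eq_top]
  exact LinearMap.surjective_of_injective (toLin'_injective g)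

omit [Fintype F] in
theorem mem_invt_iff (x : GL (Fin n) F) (S : Submodule F (Fin n → F)) :
    S ∈ Module.End.invtSubmodule (Matrix.toLin' (x : Matrix (Fin n) (Fin n) F)) ↔
      S.map (Matrix.toLin' (x : Matrix (Fin n) (Fin n) F)) = S := by
  rw [Module.End.mem_invtSubmodule, ← Submodule.map_le_iff_le_comap]
  constructor
  · intro h
    apply Submodule.eq_of_le_of_finrank_eq h
    exact (LinearEquiv.finrank_eq (Submodule.equivMapOfInjective _ (toLin'_injective x) S)).symm
  · intro h
    exact le_of_eq h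

omit [Fintype F] in
theorem cosetFlag_mem_flagFun_iff (μ : Fin n → ℕ) (hμ : ∑ i, μ i = n) (x : GL (Fin n) F)
    (c : GL (Fin n) F ⧸ Cfsg.parabolicGL n F μ) :
    cosetFlag μ hμ c ∈ flagFun (Matrix.toLin' (x : Matrix (Fin n) (Fin n) F)) n μ ⊤ ↔
      x • c = c := by
  rw [← (cosetFlag_injective μ hμ).eq_iff, cosetFlag_smul]
  induction c using QuotientGroup.induction_on with
  | H g =>
    rw [cosetFlag_mk]
    constructor
    · rintro ⟨-, -, h⟩
      funext i
      exact (mem_invt_iff x _).mp (h i).1
    · intro h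
      refine ⟨?_, flagAct_top_last μ hμ g, ?_⟩
      · intro a b hab
        exact Submodule.map_mono (stdSub_mono F n (psum_mono μ hab))
      · intro i
        refine ⟨(mem_invt_iff x _).mpr (congrFun h i), ?_⟩
        rw [finrank_flagAct]
        apply finrank_stdSub
        have := psum_le_sum μ i
        omega

/-- the number of fixed cosets is the number of invariant flags -/
theorem card_fixedBy_eq [Fintype (Submodule F (Fin n → F))] (μ : Fin n → ℕ) (hμ : ∑ i, μ i = n)
    (x : GL (Fin n) F) :
    Nat.card (MulAction.fixedBy (GL (Fin n) F ⧸ Cfsg.parabolicGL n F μ) x) =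
      fc (Matrix.toLin' (x : Matrix (Fin n) (Fin n) F)) (List.ofFn μ).reverse ⊤ := by
  rw [← card_flagFun _ n μ ⊤ (Module.End.invtSubmodule.top_mem _)]
  apply Nat.card_congr
  refine Equiv.ofBijective (fun c => ⟨cosetFlag μ hμ c.1,
    (cosetFlag_mem_flagFun_iff μ hμ x c.1).mpr c.2⟩) ⟨?_, ?_⟩
  · intro c₁ c₂ h
    apply Subtype.ext
    exact cosetFlag_injective μ hμ (congrArg Subtype.val h)
  · rintro ⟨W, hW⟩
    obtain ⟨g, hg⟩ := exists_flagAct_eq μ hμ W hW.1 (fun i => (hW.2.2 i).2)
    have h1 : cosetFlag μ hμ (g : GL (Fin n) F ⧸ Cfsg.parabolicGL n F μ) = W := hg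
    refine ⟨⟨(g : GL (Fin n) F ⧸ Cfsg.parabolicGL n F μ), ?_⟩, Subtype.ext h1⟩
    rw [MulAction.mem_fixedBy, ← cosetFlag_mem_flagFun_iff μ hμ, h1]
    exact hW

end count

end Cfsg.Agent.Lib.Helper47
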