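import Mathlib

set_option autoImplicit false

/-!
# Modules over `K[X]` that are finite dimensional over `K`

The characteristic polynomial `charpolyX` of the action of `X`, its behaviour under isomorphisms
and products, and the fact that it is irreducible for a simple module.
-/

namespace Cfsg.Agent.Lib.Helper47

open Polynomial Module

section
variable (K : Type*) [Field K] (M : Type*) [AddCommGroup M] [Module K M] [Module K[X] M]
  [IsScalarTower K K[X] M]

/-- the action of `X` as a `K`-linear endomorphism -/
noncomputable def xEnd : Module.End K M := Algebra.lsmul K K M (X : K[X])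

theorem xEnd_apply (m : M) : xEnd K M m = (X : K[X]) • m := rfl

theorem aeval_xEnd (p : K[X]) : aeval (xEnd K M) p = Algebra.lsmul K K M p := by
  unfold xEnd
  rw [aeval_algHom_apply, aeval_X_left]
  rfl

theorem aeval_xEnd_apply (p : K[X]) (m : M) : aeval (xEnd K M) p m = p • m := by
  rw [aeval_xEnd]
  rfl

/-- the characteristic polynomial of the action of `X` -/
noncomputable def charpolyX [Module.Finite K M] : K[X] := (xEnd K M).charpoly

theorem charpolyX_monic [Module.Finite K M] : (charpolyX K M).Monic :=
  LinearMap.charpoly_monic _

theorem charpolyX_natDegree [Module.Finite K M] : (charpolyX K M).natDegree = finrank K M :=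
  LinearMap.charpoly_natDegree _

theorem charpolyX_smul [Module.Finite K M] (m : M) : charpolyX K M • m = 0 := by
  rw [← aeval_xEnd_apply, charpolyX, LinearMap.aeval_self_charpoly]
  rfl

theorem charpolyX_ne_zero [Module.Finite K M] : charpolyX K M ≠ 0 :=
  (charpolyX_monic K M).ne_zero

end

section
variable {K : Type*} [Field K] {M N : Type*} [AddCommGroup M] [Module K M] [Module K[X] M]
  [IsScalarTower K K[X] M] [AddCommGroup N] [Module K N] [Module K[X] N]
  [IsScalarTower K K[X] N] [Module.Finite K M] [Module.Finite K N]

theorem charpolyX_congr (e : M ≃ₗ[K[X]] N) : charpolyX K M = charpolyX K N := by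
  unfold charpolyX
  rw [← LinearEquiv.charpoly_conj (e.restrictScalars K) (xEnd K M)]
  congr 1
  apply LinearMap.ext
  intro n
  rw [LinearEquiv.conj_apply_apply, xEnd_apply, xEnd_apply]
  change e (X • e.symm n) = X • n
  rw [map_smul, LinearEquiv.apply_symm_apply]

theorem charpolyX_prod : charpolyX K (M × N) = charpolyX K M * charpolyX K N := by
  unfold charpolyX
  rw [← LinearMap.charpoly_prodMap]
  congr 1

theorem charpolyX_eq_one_of_subsingleton [Subsingleton M] : charpolyX K M = 1 := by
  have h1 := charpolyX_natDegree K M
  rw [Module.finrank_zero_of_subsingleton] at h1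
  exact (Polynomial.Monic.natDegree_eq_zero (charpolyX_monic K M)).mp h1

end

section
variable {K : Type*} [Field K] {M : Type*} [AddCommGroup M] [Module K M] [Module K[X] M]
  [IsScalarTower K K[X] M] [Module.Finite K M]

omit [Module.Finite K M] in
/-- a cyclic module killed by `a ≠ 0` has dimension at most `deg a` -/
theorem finrank_le_natDegree_of_cyclic (m₀ : M)
    (hsurj : Function.Surjective (LinearMap.toSpanSingleton K[X] M m₀))
    (a : K[X]) (ha : a ≠ 0) (hkill : ∀ m : M, a • m = 0) : finrank K M ≤ a.natDegree := by
  let φ : degreeLT K a.natDegree →ₗ[K] M :=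
    ((LinearMap.toSpanSingleton K[X] M m₀).restrictScalars K).comp (degreeLT K a.natDegree).subtype
  have hφ : Function.Surjective φ := by
    intro m
    obtain ⟨r, hr⟩ := hsurj m
    have hmod : r % a ∈ degreeLT K a.natDegree := by
      rw [mem_degreeLT]
      by_cases hn : a.natDegree = 0
      · have hu : IsUnit a := by
          rw [isUnit_iff_degree_eq_zero, degree_eq_natDegree ha, hn]
          rfl
        rw [(EuclideanDomain.mod_eq_zero).mpr hu.dvd, degree_zero]
        exact WithBot.bot_lt_coe _
      · calc (r % a).degree < a.degree := EuclideanDomain.mod_lt r ha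
          _ = a.natDegree := degree_eq_natDegree ha
    refine ⟨⟨r % a, hmod⟩, ?_⟩
    change (r % a) • m₀ = m
    rw [← hr]
    change (r % a) • m₀ = r • m₀
    conv_rhs => rw [← EuclideanDomain.div_add_mod r a]
    rw [add_smul, mul_smul, hkill, zero_add]
  have h1 := LinearMap.finrank_le_finrank_of_surjective hφ
  have h2 : finrank K (degreeLT K a.natDegree) = a.natDegree := by
    rw [LinearEquiv.finrank_eq (degreeLTEquiv K a.natDegree), Module.finrank_fin_fun]
  rw [h2] at h1
  exact h1

/-- the characteristic polynomial of a simple module is irreducible -/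
theorem charpolyX_irreducible [IsSimpleModule K[X] M] : Irreducible (charpolyX K M) := by
  have : Nontrivial M := IsSimpleModule.nontrivial K[X] M
  obtain ⟨m₀, hm₀⟩ := exists_ne (0 : M)
  have hsurj := IsSimpleModule.toSpanSingleton_surjective K[X] hm₀
  have hdeg := charpolyX_natDegree K M
  have hpos : 0 < finrank K M := Module.finrank_pos
  have key : ∀ a b : K[X], charpolyX K M = a * b → (∀ m : M, a • m = 0) → IsUnit b := by
    intro a b hab hkill
    have ha : a ≠ 0 := by
      rintro rfl
      rw [zero_mul] at hab
      exact charpolyX_ne_zero K M hab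
    have hb : b ≠ 0 := by
      rintro rfl
      rw [mul_zero] at hab
      exact charpolyX_ne_zero K M hab
    have h1 := finrank_le_natDegree_of_cyclic m₀ hsurj a ha hkill
    have h2 : (charpolyX K M).natDegree = a.natDegree + b.natDegree := by
      rw [hab, natDegree_mul ha hb]
    rw [isUnit_iff_degree_eq_zero, degree_eq_natDegree hb]
    have : b.natDegree = 0 := by omega
    rw [this]
    rfl
  constructor
  · intro hu
    have := natDegree_eq_zero_of_isUnit hu
    omega
  · intro a b hab
    -- the kernel of multiplication by `a`
    let ka : Submodule K[X] M := LinearMap.ker (LinearMap.lsmul K[X] M a)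
    rcases eq_bot_or_eq_top ka with hbot | htop
    · left
      rw [mul_comm] at hab
      apply key b a hab
      intro m
      have h3 : b • m ∈ ka := by
        rw [LinearMap.mem_ker]
        change a • (b • m) = 0
        rw [← mul_smul, mul_comm, ← hab, charpolyX_smul]
      rw [hbot] at h3
      exact (Submodule.mem_bot _).mp h3
    · right
      apply key a b hab
      intro m
      have h3 : m ∈ ka := by
        rw [htop]
        exact Submodule.mem_top
      exact LinearMap.mem_ker.mp h3

end

end Cfsg.Agent.Lib.Helper47
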