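import Mathlib
import Cfsg.Agent.Lib.Helper47.PolyModule

set_option autoImplicit false

/-!
# Counting homomorphisms between semisimple `K[X]`-modules over a finite field
-/

namespace Cfsg.Agent.Lib.Helper47

open Polynomial Module

section schur
variable {K : Type*} [Field K] {T S : Type*}
  [AddCommGroup T] [Module K T] [Module K[X] T] [IsScalarTower K K[X] T] [Module.Finite K T]
  [AddCommGroup S] [Module K S] [Module K[X] S] [IsScalarTower K K[X] S] [Module.Finite K S]

/-- two monic irreducible polynomials which are different are coprime -/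
theorem isCoprime_of_irreducible_monic_ne {f g : K[X]} (hf : Irreducible f) (hg : Irreducible g)
    (hfm : f.Monic) (hgm : g.Monic) (hne : f ≠ g) : IsCoprime f g := by
  rw [hf.coprime_iff_not_dvd]
  intro hdvd
  exact hne (eq_of_monic_of_associated hfm hgm (hf.associated_of_dvd hg hdvd))

theorem hom_eq_zero_of_charpolyX_ne [IsSimpleModule K[X] T] [IsSimpleModule K[X] S]
    (hne : charpolyX K T ≠ charpolyX K S) (φ : T →ₗ[K[X]] S) : φ = 0 := by
  obtain ⟨a, b, hab⟩ := isCoprime_of_irreducible_monic_ne (charpolyX_irreducible (K := K) (M := T))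
    (charpolyX_irreducible (K := K) (M := S)) (charpolyX_monic K T) (charpolyX_monic K S) hne
  apply LinearMap.ext
  intro t
  have h1 : φ t = (a * charpolyX K T + b * charpolyX K S) • φ t := by
    rw [hab, one_smul]
  rw [h1, add_smul, mul_smul, mul_smul, charpolyX_smul, smul_zero, add_zero, ← map_smul,
    charpolyX_smul, map_zero, smul_zero]
  rfl

theorem exists_hom_apply_eq [IsSimpleModule K[X] T]
    (heq : charpolyX K T = charpolyX K S) (t₀ : T) (ht₀ : t₀ ≠ 0) (s : S) :
    ∃ φ : T →ₗ[K[X]] S, φ t₀ = s := by
  have hsurj := IsSimpleModule.toSpanSingleton_surjective K[X] ht₀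
  have hle : LinearMap.ker (LinearMap.toSpanSingleton K[X] T t₀) ≤
      LinearMap.ker (LinearMap.toSpanSingleton K[X] S s) := by
    intro r hr
    rw [LinearMap.mem_ker, LinearMap.toSpanSingleton_apply] at hr ⊢
    rcases (charpolyX_irreducible (K := K) (M := T)).isCoprime_or_dvd r with hc | hd
    · exfalso
      obtain ⟨a, b, hab⟩ := hc
      apply ht₀
      have h1 : t₀ = (a * charpolyX K T + b * r) • t₀ := by rw [hab, one_smul]
      rw [h1, add_smul, mul_smul, mul_smul, charpolyX_smul, hr, smul_zero, smul_zero, add_zero]
    · obtain ⟨c, hc⟩ := hd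
      rw [hc, heq, mul_comm, mul_smul, charpolyX_smul, smul_zero]
  refine ⟨((LinearMap.ker (LinearMap.toSpanSingleton K[X] T t₀)).liftQ
    (LinearMap.toSpanSingleton K[X] S s) hle).comp
    ((LinearMap.toSpanSingleton K[X] T t₀).quotKerEquivOfSurjective hsurj).symm.toLinearMap, ?_⟩
  have h2 : ((LinearMap.toSpanSingleton K[X] T t₀).quotKerEquivOfSurjective hsurj).symm t₀ =
      Submodule.Quotient.mk (1 : K[X]) := by
    rw [LinearEquiv.symm_apply_eq]
    change t₀ = (LinearMap.toSpanSingleton K[X] T t₀) 1
    rw [LinearMap.toSpanSingleton_apply, one_smul]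
  rw [LinearMap.comp_apply]
  change ((LinearMap.ker (LinearMap.toSpanSingleton K[X] T t₀)).liftQ
    (LinearMap.toSpanSingleton K[X] S s) hle)
    (((LinearMap.toSpanSingleton K[X] T t₀).quotKerEquivOfSurjective hsurj).symm t₀) = s
  rw [h2, Submodule.liftQ_apply, LinearMap.toSpanSingleton_apply, one_smul]

theorem card_hom_simple_eq [Finite K] [IsSimpleModule K[X] T]
    (heq : charpolyX K T = charpolyX K S) :
    Nat.card (T →ₗ[K[X]] S) = Nat.card K ^ (charpolyX K S).natDegree := by
  have : Nontrivial T := IsSimpleModule.nontrivial K[X] T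
  obtain ⟨t₀, ht₀⟩ := exists_ne (0 : T)
  have hsurj := IsSimpleModule.toSpanSingleton_surjective K[X] ht₀
  have hbij : Function.Bijective (fun φ : T →ₗ[K[X]] S => φ t₀) := by
    constructor
    · intro φ ψ h
      apply LinearMap.ext
      intro t
      obtain ⟨r, rfl⟩ := hsurj t
      rw [LinearMap.toSpanSingleton_apply, map_smul, map_smul]
      exact congrArg (r • ·) h
    · intro s
      exact exists_hom_apply_eq heq t₀ ht₀ s
  rw [Nat.card_congr (Equiv.ofBijective _ hbij), charpolyX_natDegree]
  have : Finite S := Module.finite_of_finite K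
  have := Fintype.ofFinite K
  have := Fintype.ofFinite S
  rw [Nat.card_eq_fintype_card, Nat.card_eq_fintype_card, Module.card_eq_pow_finrank (K := K)]

theorem card_hom_simple_ne [IsSimpleModule K[X] T] [IsSimpleModule K[X] S]
    (h : charpolyX K T ≠ charpolyX K S) : Nat.card (T →ₗ[K[X]] S) = 1 := by
  rw [Nat.card_eq_one_iff_unique]
  refine ⟨⟨fun φ ψ => ?_⟩, ⟨0⟩⟩
  rw [hom_eq_zero_of_charpolyX_ne h φ, hom_eq_zero_of_charpolyX_ne h ψ]

end schur

section semisimple

universe u v

/-- finiteness over `K` of a `K[X]`-submodule -/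
theorem finite_submodule {K : Type*} [Field K] {M : Type*} [AddCommGroup M] [Module K M]
    [Module K[X] M] [IsScalarTower K K[X] M] [Module.Finite K M] (N : Submodule K[X] M) :
    Module.Finite K N :=
  Module.Finite.of_injective ((N.subtype).restrictScalars K) Subtype.val_injective

theorem finrank_add_of_isCompl {K : Type*} [Field K] {M : Type*} [AddCommGroup M] [Module K M]
    [Module K[X] M] [IsScalarTower K K[X] M] [Module.Finite K M] (p q : Submodule K[X] M)
    (h : IsCompl p q) : finrank K p + finrank K q = finrank K M := by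
  have := finite_submodule p
  have := finite_submodule q
  rw [← Module.finrank_prod,
    LinearEquiv.finrank_eq ((Submodule.prodEquivOfIsCompl p q h).restrictScalars K)]

theorem charpolyX_of_isCompl {K : Type*} [Field K] {M : Type*} [AddCommGroup M] [Module K M]
    [Module K[X] M] [IsScalarTower K K[X] M] [Module.Finite K M] (p q : Submodule K[X] M)
    (h : IsCompl p q) :
    haveI := finite_submodule p
    haveI := finite_submodule q
    charpolyX K M = charpolyX K p * charpolyX K q := by
  have := finite_submodule p
  have := finite_submodule q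
  rw [← charpolyX_prod, charpolyX_congr (Submodule.prodEquivOfIsCompl p q h)]

open Classical in
theorem normalizedFactors_irreducible_mul {K : Type*} [Field K] {f g : K[X]} (hf : Irreducible f)
    (hfm : f.Monic) (hg : g ≠ 0) :
    UniqueFactorizationMonoid.normalizedFactors (f * g) =
      f ::ₘ UniqueFactorizationMonoid.normalizedFactors g := by
  rw [UniqueFactorizationMonoid.normalizedFactors_mul hf.ne_zero hg,
    UniqueFactorizationMonoid.normalizedFactors_irreducible hf, hfm.normalize_eq_self,
    Multiset.singleton_add]

open Classical in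
theorem card_hom_semisimple (K : Type v) [Field K] [Finite K] (S : Type*)
    [AddCommGroup S] [Module K S] [Module K[X] S] [IsScalarTower K K[X] S] [Module.Finite K S]
    [IsSimpleModule K[X] S] :
    ∀ (n : ℕ) (W : Type u) [AddCommGroup W] [Module K W] [Module K[X] W] [IsScalarTower K K[X] W]
      [Module.Finite K W] [IsSemisimpleModule K[X] W], finrank K W = n →
      Nat.card (W →ₗ[K[X]] S) = Nat.card K ^ ((charpolyX K S).natDegree *
        (UniqueFactorizationMonoid.normalizedFactors (charpolyX K W)).count (charpolyX K S)) := by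
  intro n
  induction n using Nat.strong_induction_on with
  | _ n ih =>
    intro W _ _ _ _ _ _ hn
    rcases subsingleton_or_nontrivial W with hW | hW
    · rw [charpolyX_eq_one_of_subsingleton (K := K) (M := W),
        UniqueFactorizationMonoid.normalizedFactors_one,
        Multiset.count_zero, mul_zero, pow_zero, Nat.card_eq_one_iff_unique]
      refine ⟨⟨fun φ ψ => ?_⟩, ⟨0⟩⟩
      apply LinearMap.ext
      intro w
      rw [Subsingleton.elim w 0, map_zero, map_zero]
    · obtain ⟨T, hT⟩ := IsSemisimpleModule.exists_simple_submodule K[X] W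
      obtain ⟨w₁, hw₁⟩ := exists_isCompl T
      have := finite_submodule T
      have := finite_submodule w₁
      have hTnt : Nontrivial T := IsSimpleModule.nontrivial K[X] T
      have hfr := finrank_add_of_isCompl T w₁ hw₁
      have hTpos : 0 < finrank K T := Module.finrank_pos
      have ih1 := ih (finrank K w₁) (by omega) w₁ rfl
      have e1 : (W →ₗ[K[X]] S) ≃ ((T →ₗ[K[X]] S) × (w₁ →ₗ[K[X]] S)) :=
        ((LinearEquiv.congrLeft S K[X] (Submodule.prodEquivOfIsCompl T w₁ hw₁)).symm.toEquiv).trans
          (LinearMap.coprodEquiv K[X]).symm.toEquiv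
      rw [Nat.card_congr e1, Nat.card_prod, ih1, charpolyX_of_isCompl T w₁ hw₁,
        normalizedFactors_irreducible_mul (charpolyX_irreducible (K := K) (M := T))
          (charpolyX_monic K T) (charpolyX_ne_zero K w₁)]
      by_cases heq : charpolyX K T = charpolyX K S
      · rw [card_hom_simple_eq heq, heq, Multiset.count_cons_self, ← pow_add]
        congr 1
        ring
      · rw [card_hom_simple_ne heq, one_mul, Multiset.count_cons_of_ne (Ne.symm heq)]

end semisimple

end Cfsg.Agent.Lib.Helper47
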