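import Mathlib

set_option autoImplicit false

/-!
# Weisner's theorem for a function satisfying the Möbius recursion on a finite lattice

and the number of complements of a submodule.
-/

namespace Cfsg.Agent.Lib.Helper47

open Finset

open Classical in
/-- Weisner's theorem: if `∑_{w ≤ u} a w = 0` for `u ≠ ⊥` then for `s ≠ ⊥` and `s ≤ z` the sum
of `a w` over `w` with `w ⊔ s = z` vanishes. -/
theorem weisner {α : Type*} [Lattice α] [OrderBot α] [Fintype α] (a : α → ℤ)
    (ha : ∀ u, u ≠ ⊥ → ∑ w ∈ univ.filter (fun w => w ≤ u), a w = 0) (s : α) (hs : s ≠ ⊥) :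
    ∀ z, s ≤ z → ∑ w ∈ univ.filter (fun w => w ⊔ s = z), a w = 0 := by
  intro z
  induction z using WellFoundedLT.induction with
  | ind z ih =>
    intro hsz
    have hz : z ≠ ⊥ := by
      rintro rfl
      exact hs (le_bot_iff.mp hsz)
    have h1 := ha z hz
    rw [← Finset.sum_fiberwise_of_maps_to (s := univ.filter (fun w => w ≤ z))
      (t := univ.filter (fun z' => s ≤ z' ∧ z' ≤ z)) (g := fun w => w ⊔ s)
      (fun w hw => by
        rw [mem_filter] at hw ⊢
        exact ⟨mem_univ _, le_sup_right, sup_le hw.2 hsz⟩)] at h1
    have hzT : z ∈ univ.filter (fun z' => s ≤ z' ∧ z' ≤ z) := by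
      rw [mem_filter]
      exact ⟨mem_univ _, hsz, le_refl _⟩
    rw [Finset.sum_eq_single_of_mem z hzT] at h1
    · rw [← h1]
      apply Finset.sum_congr _ (fun _ _ => rfl)
      ext w
      simp only [mem_filter, mem_univ, true_and]
      constructor
      · intro h
        exact ⟨h ▸ le_sup_left, h⟩
      · intro h
        exact h.2
    · intro z' hz' hne
      rw [mem_filter] at hz'
      have hlt : z' < z := lt_of_le_of_ne hz'.2.2 hne
      rw [← ih z' hlt hz'.2.1]
      apply Finset.sum_congr _ (fun _ _ => rfl)
      ext w
      simp only [mem_filter, mem_univ, true_and]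
      constructor
      · intro h
        exact h.2
      · intro h
        exact ⟨le_trans (h ▸ le_sup_left) hz'.2.2, h⟩

open Classical in
/-- consequence for an atom: the value at the top is minus the sum over the complements -/
theorem weisner_atom {α : Type*} [Lattice α] [BoundedOrder α] [Fintype α] (a : α → ℤ)
    (ha : ∀ u, u ≠ ⊥ → ∑ w ∈ univ.filter (fun w => w ≤ u), a w = 0) (s : α) (hs : IsAtom s) :
    a ⊤ = - ∑ w ∈ univ.filter (fun w => IsCompl s w), a w := by
  have h1 := weisner a ha s hs.1 ⊤ le_top
  have h2 : univ.filter (fun w : α => w ⊔ s = ⊤) =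
      insert ⊤ (univ.filter (fun w => IsCompl s w)) := by
    ext w
    simp only [mem_filter, mem_univ, true_and, mem_insert]
    constructor
    · intro h
      by_cases hsw : s ≤ w
      · left
        rw [← h]
        exact (sup_eq_left.mpr hsw).symm
      · right
        have h3 : s ⊓ w = ⊥ := by
          rcases hs.le_iff.mp (inf_le_left : s ⊓ w ≤ s) with h4 | h4
          · exact h4
          · exact absurd (h4 ▸ inf_le_right) hsw
        exact ⟨disjoint_iff.mpr h3, codisjoint_iff.mpr (by rw [sup_comm]; exact h)⟩
    · rintro (rfl | h)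
      · exact top_sup_eq _
      · rw [sup_comm]
        exact h.sup_eq_top
  have h3 : (⊤ : α) ∉ univ.filter (fun w => IsCompl s w) := by
    rw [mem_filter]
    rintro ⟨-, h⟩
    have := h.inf_eq_bot
    rw [inf_top_eq] at this
    exact hs.1 this
  rw [h2, Finset.sum_insert h3] at h1
  linarith

section
variable {R : Type*} [Ring R] {E : Type*} [AddCommGroup E] [Module R E]

/-- projections onto `p` correspond to linear maps from a fixed complement to `p` -/
noncomputable def projEquivHom (p q : Submodule R E) (h : IsCompl p q) :
    { f : E →ₗ[R] p // ∀ x : p, f x = x } ≃ (q →ₗ[R] p) where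
  toFun f := f.1.comp q.subtype
  invFun φ := ⟨LinearMap.ofIsCompl h LinearMap.id φ, fun x => by
    rw [LinearMap.ofIsCompl_apply_left]
    rfl⟩
  left_inv f := by
    apply Subtype.ext
    apply LinearMap.ofIsCompl_eq
    · intro u
      exact (f.2 u).symm
    · intro u
      rfl
  right_inv φ := by
    apply LinearMap.ext
    intro v
    change LinearMap.ofIsCompl h LinearMap.id φ (v : E) = φ v
    rw [LinearMap.ofIsCompl_apply_right]

/-- the number of complements of `p` is the number of linear maps from a complement to `p` -/
theorem card_compl_eq (p q : Submodule R E) (h : IsCompl p q) :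
    Nat.card { w : Submodule R E // IsCompl p w } = Nat.card (q →ₗ[R] p) :=
  Nat.card_congr ((Submodule.isComplEquivProj p).trans (projEquivHom p q h))

end

end Cfsg.Agent.Lib.Helper47
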