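import Mathlib
import Cfsg.Agent.Lib.Helper47.PolyModule
import Cfsg.Agent.Lib.Helper47.HomCount
import Cfsg.Agent.Lib.Helper47.Weisner

set_option autoImplicit false

/-!
# The Möbius recursion on the submodule lattice of a semisimple `K[X]`-module
-/

namespace Cfsg.Agent.Lib.Helper47

open Polynomial Module Finset

open Classical in
/-- the value `∏_f (-1)^{m_f} q^{deg f · binom(m_f, 2)}` attached to a polynomial `∏ f^{m_f}` -/
noncomputable def mobFun {K : Type*} [Field K] (q : ℕ) (g : K[X]) : ℤ :=
  ∏ h ∈ (UniqueFactorizationMonoid.normalizedFactors g).toFinset,
    (-1 : ℤ) ^ ((UniqueFactorizationMonoid.normalizedFactors g).count h) *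
      (q : ℤ) ^ (h.natDegree * ((UniqueFactorizationMonoid.normalizedFactors g).count h).choose 2)

open Classical in
theorem mobFun_one {K : Type*} [Field K] (q : ℕ) : mobFun q (1 : K[X]) = 1 := by
  unfold mobFun
  rw [UniqueFactorizationMonoid.normalizedFactors_one, Multiset.toFinset_zero, Finset.prod_empty]

open Classical in
theorem mobFun_irreducible_mul {K : Type*} [Field K] (q : ℕ) {f g : K[X]} (hf : Irreducible f)
    (hfm : f.Monic) (hg : g ≠ 0) :
    mobFun q (f * g) = -((q : ℤ) ^ (f.natDegree *
      (UniqueFactorizationMonoid.normalizedFactors g).count f)) * mobFun q g := by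
  unfold mobFun
  rw [normalizedFactors_irreducible_mul hf hfm hg, Multiset.toFinset_cons]
  set m := UniqueFactorizationMonoid.normalizedFactors g with hm
  have hrest : ∀ s : Finset K[X], f ∉ s →
      ∏ h ∈ s, (-1 : ℤ) ^ ((f ::ₘ m).count h) * (q : ℤ) ^ (h.natDegree * ((f ::ₘ m).count h).choose 2) =
      ∏ h ∈ s, (-1 : ℤ) ^ (m.count h) * (q : ℤ) ^ (h.natDegree * (m.count h).choose 2) := by
    intro s hs
    apply Finset.prod_congr rfl
    intro h hh
    have hne : h ≠ f := by
      rintro rfl
      exact hs hh
    rw [Multiset.count_cons_of_ne hne]
  by_cases hmem : f ∈ m.toFinset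
  · rw [Finset.insert_eq_of_mem hmem, ← Finset.mul_prod_erase _ _ hmem,
      ← Finset.mul_prod_erase _ _ hmem, hrest _ (Finset.notMem_erase f _), Multiset.count_cons_self]
    have h1 : (m.count f + 1).choose 2 = m.count f + (m.count f).choose 2 := by
      rw [Nat.choose_succ_succ, Nat.choose_one_right]
    rw [h1, mul_add, pow_add, pow_succ]
    ring
  · have h0 : m.count f = 0 := by
      rw [Multiset.count_eq_zero]
      intro h
      exact hmem (Multiset.mem_toFinset.mpr h)
    rw [Finset.prod_insert hmem, hrest _ hmem, Multiset.count_cons_self, h0]
    simp

universe u v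

open Classical in
/-- the main computation: a function on the submodules of a finite semisimple `K[X]`-module which
satisfies the Möbius recursion takes the value `mobFun q (charpolyX K M)` at the top -/
theorem mobius_semisimple (K : Type v) [Field K] [Finite K] :
    ∀ (n : ℕ) (M : Type u) [AddCommGroup M] [Module K M] [Module K[X] M] [IsScalarTower K K[X] M]
      [Module.Finite K M] [IsSemisimpleModule K[X] M] [Fintype (Submodule K[X] M)]
      (a : Submodule K[X] M → ℤ), finrank K M = n → a ⊥ = 1 →
      (∀ U, U ≠ ⊥ → ∑ W ∈ univ.filter (fun W => W ≤ U), a W = 0) →
      a ⊤ = mobFun (Nat.card K) (charpolyX K M) := by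
  intro n
  induction n using Nat.strong_induction_on with
  | _ n ih =>
    intro M _ _ _ _ _ _ _ a hn hbot hrec
    rcases subsingleton_or_nontrivial M with hM | hM
    · rw [charpolyX_eq_one_of_subsingleton, mobFun_one, ← hbot]
      congr 1
      exact Subsingleton.elim _ _
    · obtain ⟨S, hS⟩ := IsSemisimpleModule.exists_simple_submodule K[X] M
      obtain ⟨w₀, hw₀⟩ := exists_isCompl S
      have hatom : IsAtom S := isSimpleModule_iff_isAtom.mp hS
      have hMfin : Finite M := Module.finite_of_finite K
      have := finite_submodule S
      have hSnt : Nontrivial S := IsSimpleModule.nontrivial K[X] S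
      have hSpos : 0 < finrank K S := Module.finrank_pos
      -- the value on each complement
      have hval : ∀ w : Submodule K[X] M, IsCompl S w →
          a w = mobFun (Nat.card K) (haveI := finite_submodule w₀; charpolyX K w₀) := by
        intro w hw
        have := finite_submodule w
        have := finite_submodule w₀
        have hfr := finrank_add_of_isCompl S w hw
        have : Fintype (Submodule K[X] w) := Fintype.ofFinite _
        have h1 := ih (finrank K w) (by omega) w (fun W' => a (W'.map w.subtype)) rfl
          (by
            change a ((⊥ : Submodule K[X] w).map w.subtype) = 1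
            rw [Submodule.map_bot, hbot])
          (by
            intro U' hU'
            have hne : U'.map w.subtype ≠ ⊥ := by
              intro h
              apply hU'
              exact Submodule.map_injective_of_injective (Submodule.injective_subtype w)
                (h.trans (Submodule.map_bot _).symm)
            rw [← hrec _ hne]
            apply Finset.sum_nbij' (fun W' => W'.map w.subtype) (fun W => W.comap w.subtype)
            · intro W' hW'
              rw [mem_filter] at hW' ⊢
              exact ⟨mem_univ _, Submodule.map_mono hW'.2⟩
            · intro W hW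
              rw [mem_filter] at hW ⊢
              refine ⟨mem_univ _, ?_⟩
              have := Submodule.comap_mono (f := w.subtype) hW.2
              rwa [Submodule.comap_map_eq_of_injective (Submodule.injective_subtype w)] at this
            · intro W' _
              exact Submodule.comap_map_eq_of_injective (Submodule.injective_subtype w) W'
            · intro W hW
              rw [mem_filter] at hW
              rw [Submodule.map_comap_subtype, inf_eq_right]
              exact le_trans hW.2 (Submodule.map_subtype_le w U')
            · intro W' _
              rfl)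
        have h2 : a w = a ((⊤ : Submodule K[X] w).map w.subtype) := by
          rw [Submodule.map_top, Submodule.range_subtype]
        rw [h2]
        change a ((⊤ : Submodule K[X] w).map w.subtype) = _ at h1
        rw [h1]
        congr 1
        have h3 := charpolyX_of_isCompl S w hw
        have h4 := charpolyX_of_isCompl S w₀ hw₀
        rw [h3] at h4
        exact mul_left_cancel₀ (charpolyX_ne_zero K S) h4
      have := finite_submodule w₀
      rw [weisner_atom a hrec S hatom, Finset.sum_congr rfl (fun w hw => hval w (mem_filter.mp hw).2),
        Finset.sum_const, charpolyX_of_isCompl S w₀ hw₀,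
        mobFun_irreducible_mul _ (charpolyX_irreducible (K := K) (M := S)) (charpolyX_monic K S)
          (charpolyX_ne_zero K w₀)]
      have hcard : (univ.filter (fun w : Submodule K[X] M => IsCompl S w)).card =
          Nat.card K ^ ((charpolyX K S).natDegree *
            (UniqueFactorizationMonoid.normalizedFactors (charpolyX K w₀)).count (charpolyX K S)) := by
        rw [← card_hom_semisimple K S (finrank K w₀) w₀ rfl, ← card_compl_eq S w₀ hw₀,
          Nat.card_eq_fintype_card, Fintype.card_subtype]
      rw [hcard, nsmul_eq_mul]
      push_cast
      ring

end Cfsg.Agent.Lib.Helper47
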