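import Mathlib
import Cfsg.Prelude.Def_LinearParabolics
import Cfsg.Agent.Lib.Helper47.FlagCoset
import Cfsg.Agent.Lib.Helper47.MobiusSemisimple

set_option autoImplicit false

/-!
# Values of the Steinberg character of `GL_n(q)` at elements of order prime to the characteristic
-/

namespace Cfsg.Agent.Lib.Helper47

open Finset Module Polynomial

open scoped MatrixGroups

theorem sum_hessTyp {n : ℕ} (κ : Equiv.Perm (Fin n)) (h : IsHess κ) : ∑ i, hessTyp κ i = n := by
  have e1 : ∑ i, hessTyp κ i + ∑ i : Fin n, (κ i).val = ∑ i : Fin n, (i.val + 1) := by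
    rw [← Finset.sum_add_distrib]
    apply Finset.sum_congr rfl
    intro i _
    unfold hessTyp
    have := h i
    omega
  have e2 : ∑ i : Fin n, (κ i).val = ∑ i : Fin n, i.val := Equiv.sum_comp κ (fun i => i.val)
  have e3 : ∑ i : Fin n, (i.val + 1) = ∑ i : Fin n, i.val + n := by
    rw [Finset.sum_add_distrib]
    simp
  omega

section
variable {F : Type*} [Field F] [Fintype F] {n : ℕ}

theorem unipotent_one_eq_stA [Fintype (Submodule F (Fin n → F))] (x : GL (Fin n) F) :
    Cfsg.unipotentCharacterGL n F (fun _ => 1) x =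
      ((stA (Matrix.toLin' (x : Matrix (Fin n) (Fin n) F)) n ⊤ : ℤ) : ℂ) := by
  unfold Cfsg.unipotentCharacterGL stA hessSum
  rw [Int.cast_sum]
  apply Finset.sum_congr rfl
  intro κ _
  have hiff : (∀ i : Fin n, (κ i).val ≤ 1 + i.val) ↔ IsHess κ := by
    unfold IsHess
    constructor <;> intro h i <;> have := h i <;> omega
  by_cases hκ : IsHess κ
  · rw [if_pos (hiff.mpr hκ), if_pos hκ]
    have hμ : (fun i : Fin n => 1 + i.val - (κ i).val) = hessTyp κ := by
      funext i
      unfold hessTyp
      omega
    rw [hμ]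
    unfold Cfsg.fixedPointCharacter
    rw [card_fixedBy_eq (hessTyp κ) (sum_hessTyp κ hκ) x]
    unfold hessList
    push_cast
    rfl
  · rw [if_neg (fun h => hκ (hiff.mp h)), if_neg hκ]
    simp

omit [Fintype F] in
theorem toLin'_pow (x : Matrix (Fin n) (Fin n) F) (k : ℕ) :
    Matrix.toLin' (x ^ k) = (Matrix.toLin' x) ^ k := by
  induction k with
  | zero =>
    rw [pow_zero, pow_zero, Matrix.toLin'_one]
    rfl
  | succ k ih =>
    rw [pow_succ, pow_succ, Matrix.toLin'_mul, ih]
    rfl

omit [Fintype F] in
theorem isSemisimple_of_coprime (p : ℕ) [Fact p.Prime] [CharP F p] (x : GL (Fin n) F)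
    (hx : (orderOf x).Coprime p) :
    Module.End.IsSemisimple (Matrix.toLin' (x : Matrix (Fin n) (Fin n) F)) := by
  have hN : ((orderOf x : ℕ) : F) ≠ 0 := by
    intro h
    rw [CharP.cast_eq_zero_iff F p] at h
    have h1 := Nat.Coprime.eq_one_of_dvd hx.symm h
    exact (Fact.out : p.Prime).one_lt.ne' h1
  apply Module.End.isSemisimple_of_squarefree_aeval_eq_zero (p := X ^ orderOf x - C 1)
  · exact (separable_X_pow_sub_C 1 hN one_ne_zero).squarefree
  · simp only [map_sub, map_pow, aeval_X, map_one]
    rw [← toLin'_pow, ← Units.val_pow_eq_pow_val, pow_orderOf_eq_one, Units.val_one,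
      Matrix.toLin'_one]
    exact sub_self _

omit [Fintype F] in
theorem charpolyX_aeval (X : Module.End F (Fin n → F)) :
    charpolyX F (Module.AEval' X) = X.charpoly := by
  unfold charpolyX
  rw [← LinearEquiv.charpoly_conj (Module.AEval'.of X) X]
  congr 1
  apply LinearMap.ext
  intro m
  obtain ⟨v, rfl⟩ := (Module.AEval'.of X).surjective m
  rw [xEnd_apply, Module.AEval'.X_smul_of, LinearEquiv.conj_apply_apply,
    LinearEquiv.symm_apply_apply]

theorem stMob_top_eq [Fintype (Submodule F (Fin n → F))] (X : Module.End F (Fin n → F))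
    (hss : X.IsSemisimple) :
    stMob X ⊤ = mobFun (Fintype.card F) X.charpoly := by
  classical
  have : IsSemisimpleModule F[X] (Module.AEval' X) := hss
  have : Finite (Module.AEval' X) := Module.finite_of_finite F
  have : Fintype (Submodule F[X] (Module.AEval' X)) := Fintype.ofFinite _
  let φ : X.invtSubmodule ≃o Submodule F[X] (Module.AEval' X) :=
    Module.AEval.mapSubmodule F (Fin n → F) X
  have hφbot : ((φ.symm ⊥ : X.invtSubmodule) : Submodule F (Fin n → F)) = ⊥ := by
    ext m
    change Module.AEval.of F (Fin n → F) X m ∈ (⊥ : Submodule F[X] (Module.AEval' X)) ↔ _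
    rw [Submodule.mem_bot, Submodule.mem_bot, LinearEquiv.map_eq_zero_iff]
  have hφtop : ((φ.symm ⊤ : X.invtSubmodule) : Submodule F (Fin n → F)) = ⊤ := by
    ext m
    change Module.AEval.of F (Fin n → F) X m ∈ (⊤ : Submodule F[X] (Module.AEval' X)) ↔ _
    simp
  have key := mobius_semisimple F (finrank F (Module.AEval' X)) (Module.AEval' X)
    (fun N => stMob X ((φ.symm N : X.invtSubmodule) : Submodule F (Fin n → F))) rfl
    (by
      change stMob X ((φ.symm ⊥ : X.invtSubmodule) : Submodule F (Fin n → F)) = 1
      rw [hφbot, stMob_bot])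
    (by
      intro N hN
      have hU : ((φ.symm N : X.invtSubmodule) : Submodule F (Fin n → F)) ∈ X.invtSubmodule :=
        (φ.symm N).2
      have hUne : ((φ.symm N : X.invtSubmodule) : Submodule F (Fin n → F)) ≠ ⊥ := by
        intro h
        apply hN
        have h1 : φ.symm N = φ.symm ⊥ := Subtype.ext (h.trans hφbot.symm)
        exact φ.symm.injective h1
      rw [← stMob_rec X _ hU hUne]
      refine Finset.sum_bij'
        (fun N' _ => ((φ.symm N' : X.invtSubmodule) : Submodule F (Fin n → F)))
        (fun W hW => φ ⟨W, (mem_filter.mp hW).2.2⟩) ?_ ?_ ?_ ?_ ?_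
      · intro N' hN'
        rw [mem_filter] at hN' ⊢
        refine ⟨mem_univ _, ?_, (φ.symm N').2⟩
        exact Subtype.coe_le_coe.mpr (φ.symm.monotone hN'.2)
      · intro W hW
        rw [mem_filter] at hW ⊢
        refine ⟨mem_univ _, ?_⟩
        have h1 : (⟨W, hW.2.2⟩ : X.invtSubmodule) ≤ φ.symm N := Subtype.coe_le_coe.mp hW.2.1
        have h2 := φ.monotone h1
        rwa [OrderIso.apply_symm_apply] at h2
      · intro N' _
        simp
      · intro W _
        simp
      · intro N' _
        rfl)
  change stMob X ((φ.symm ⊤ : X.invtSubmodule) : Submodule F (Fin n → F)) = _ at key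
  rw [hφtop, Nat.card_eq_fintype_card, charpolyX_aeval] at key
  exact key

theorem unipotent_one_apply_of_coprime (p : ℕ) [Fact p.Prime] [CharP F p] (x : GL (Fin n) F)
    (hx : (orderOf x).Coprime p) :
    Cfsg.unipotentCharacterGL n F (fun _ => 1) x =
      (((-1) ^ n * mobFun (Fintype.card F) (x : Matrix (Fin n) (Fin n) F).charpoly : ℤ) : ℂ) := by
  have : Fintype (Submodule F (Fin n → F)) := Fintype.ofFinite _
  rw [unipotent_one_eq_stA, ← Matrix.charpoly_toLin',
    ← stMob_top_eq _ (isSemisimple_of_coprime p x hx)]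
  congr 1
  unfold stMob
  rw [finrank_top, Module.finrank_fin_fun, ← mul_assoc, ← pow_add, ← two_mul, pow_mul]
  simp

end

open Classical in
theorem mobFun_formula_classical {F : Type*} [Field F] (q : ℕ) (g : F[X]) (hg : g.Monic) :
    (((-1) ^ g.natDegree * mobFun q g : ℤ) : ℂ) =
      ∏ f ∈ (UniqueFactorizationMonoid.normalizedFactors g).toFinset,
        (-1 : ℂ) ^ ((f.natDegree - 1) * (UniqueFactorizationMonoid.normalizedFactors g).count f) *
          (q : ℂ) ^ (f.natDegree * (UniqueFactorizationMonoid.normalizedFactors g).count f *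
            ((UniqueFactorizationMonoid.normalizedFactors g).count f - 1) / 2) := by
  have hdeg : g.natDegree = ∑ f ∈ (UniqueFactorizationMonoid.normalizedFactors g).toFinset,
      (UniqueFactorizationMonoid.normalizedFactors g).count f * f.natDegree := by
    have h1 := UniqueFactorizationMonoid.prod_normalizedFactors hg.ne_zero
    have h2 := natDegree_eq_of_degree_eq (degree_eq_degree_of_associated h1)
    rw [← h2, natDegree_multiset_prod, Finset.sum_multiset_map_count]
    · simp only [smul_eq_mul]
    · intro h0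
      exact (UniqueFactorizationMonoid.prime_of_normalized_factor 0 h0).ne_zero rfl
  unfold mobFun
  rw [hdeg, ← Finset.prod_pow_eq_pow_sum]
  push_cast
  rw [← Finset.prod_mul_distrib]
  apply Finset.prod_congr rfl
  intro f hf
  rw [Multiset.mem_toFinset] at hf
  have hd : 0 < f.natDegree :=
    (UniqueFactorizationMonoid.irreducible_of_normalized_factor f hf).natDegree_pos
  set c := (UniqueFactorizationMonoid.normalizedFactors g).count f with hc
  set d := f.natDegree with hdd
  have e1 : (-1 : ℂ) ^ (c * d) * (-1) ^ c = (-1) ^ ((d - 1) * c) := by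
    have h3 : c * d + c = (d - 1) * c + 2 * c := by
      have hd1 : d - 1 + 1 = d := by omega
      calc c * d + c = c * (d - 1 + 1) + c := by rw [hd1]
        _ = (d - 1) * c + 2 * c := by ring
    rw [← pow_add, h3, pow_add, pow_mul (-1 : ℂ) 2 c]
    simp
  have e2 : d * c.choose 2 = d * c * (c - 1) / 2 := by
    rw [Nat.choose_two_right, mul_assoc d c (c - 1)]
    exact (Nat.mul_div_assoc d (Nat.even_mul_pred_self c).two_dvd).symm
  rw [e2, ← mul_assoc, e1]

theorem mobFun_formula {F : Type*} [Field F] [instF : DecidableEq F] [inst : DecidableEq F[X]]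
    (q : ℕ) (g : F[X]) (hg : g.Monic) :
    (((-1) ^ g.natDegree * mobFun q g : ℤ) : ℂ) =
      ∏ f ∈ (UniqueFactorizationMonoid.normalizedFactors g).toFinset,
        (-1 : ℂ) ^ ((f.natDegree - 1) * (UniqueFactorizationMonoid.normalizedFactors g).count f) *
          (q : ℂ) ^ (f.natDegree * (UniqueFactorizationMonoid.normalizedFactors g).count f *
            ((UniqueFactorizationMonoid.normalizedFactors g).count f - 1) / 2) := by
  have hinst : inst = (fun a b => Classical.propDecidable (a = b)) := Subsingleton.elim _ _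
  subst hinst
  have hinstF : instF = (fun a b => Classical.propDecidable (a = b)) := Subsingleton.elim _ _
  subst hinstF
  convert mobFun_formula_classical q g hg

end Cfsg.Agent.Lib.Helper47
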