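import Mathlib
import Cfsg.Agent.Lib.Helper47.Transvection

set_option autoImplicit false

namespace Cfsg.Agent.Lib.Helper47

open Matrix Polynomial

/-- every element of a finite field is a sum of two squares -/
theorem finiteField_sq_add_sq {K : Type*} [Field K] [Fintype K] (x : K) :
    ∃ a b : K, a ^ 2 + b ^ 2 = x := by
  by_cases hchar : ringChar K = 2
  · obtain ⟨a, ha⟩ := FiniteField.isSquare_of_char_two hchar x
    exact ⟨a, 0, by rw [ha]; ring⟩
  · have hodd := FiniteField.odd_card_of_char_ne_two hchar
    obtain ⟨a, b, hab⟩ := FiniteField.exists_root_sum_quadratic (R := K)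
      (f := X ^ 2) (g := X ^ 2 - C x) (degree_X_pow 2) (degree_X_pow_sub_C (by norm_num) _) hodd
    refine ⟨a, b, ?_⟩
    simp only [eval_pow, eval_X, eval_sub, eval_C] at hab
    linear_combination hab

section
variable {ι : Type*} [Fintype ι] [DecidableEq ι] {F : Type*} [Field F]

theorem diagonal_mul_transvection (f : ι → F) {i j : ι} (hij : i ≠ j) (c c' : F)
    (hc : c' * f j = f i * c) :
    diagonal f * ((1 : Matrix ι ι F) + single i j c) = (1 + single i j c') * diagonal f := by
  ext a b
  rw [Matrix.diagonal_mul, Matrix.mul_diagonal]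
  simp only [Matrix.add_apply, Matrix.one_apply, Matrix.single_apply]
  by_cases hab : a = b
  · subst hab
    have : ¬ (i = a ∧ j = a) := fun h => hij (h.1.trans h.2.symm)
    simp [this, mul_comm]
  · by_cases hh : i = a ∧ j = b
    · obtain ⟨rfl, rfl⟩ := hh
      simp [hab, hc]
    · simp [hab, hh]

/-- conjugating an elementary transvection by a diagonal element of `SL` -/
theorem diag_conj_transvection (D : Matrix.SpecialLinearGroup ι F) (f : ι → F)
    (hD : (D : Matrix ι ι F) = diagonal f) {i j : ι} (hij : i ≠ j) (c c' : F)
    (hc : c' * f j = f i * c) :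
    D * Matrix.SpecialLinearGroup.transvection hij c * D⁻¹ =
      Matrix.SpecialLinearGroup.transvection hij c' := by
  have key : D * Matrix.SpecialLinearGroup.transvection hij c =
      Matrix.SpecialLinearGroup.transvection hij c' * D := by
    apply Matrix.SpecialLinearGroup.ext
    intro a b
    rw [Matrix.SpecialLinearGroup.coe_mul, Matrix.SpecialLinearGroup.coe_mul,
      Matrix.SpecialLinearGroup.transvection_coe, Matrix.SpecialLinearGroup.transvection_coe, hD,
      diagonal_mul_transvection f hij c c' hc]
  rw [key, mul_inv_cancel_right]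

theorem diag_commute (D D' : Matrix.SpecialLinearGroup ι F) (f f' : ι → F)
    (hD : (D : Matrix ι ι F) = diagonal f) (hD' : (D' : Matrix ι ι F) = diagonal f') :
    D * D' = D' * D := by
  apply Matrix.SpecialLinearGroup.ext
  intro a b
  rw [Matrix.SpecialLinearGroup.coe_mul, Matrix.SpecialLinearGroup.coe_mul, hD, hD',
    Matrix.diagonal_mul_diagonal, Matrix.diagonal_mul_diagonal]
  congr 2
  ext i
  exact mul_comm _ _

end

end Cfsg.Agent.Lib.Helper47
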