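import Mathlib
import Cfsg.Agent.Lib.Helper19.Recog

/-!
# S4291, keystone K-REC24: a group of order 24 with a self-centralizing normal subgroup of order 4 on which
the elements of order 3 act freely is `S₄`.
-/

set_option autoImplicit false

namespace Cfsg.Agent.Lib.Helper47.FC91

universe u

/-- In a type with at most four elements, four distinct elements are everything. -/
theorem four_elts {S : Type*} [Finite S] (h4 : Nat.card S ≤ 4) (a b c d : S)
    (hab : a ≠ b) (hac : a ≠ c) (had : a ≠ d) (hbc : b ≠ c) (hbd : b ≠ d) (hcd : c ≠ d) (e : S) :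
    e = a ∨ e = b ∨ e = c ∨ e = d := by
  classical
  have := Fintype.ofFinite S
  have hT : ({a, b, c, d} : Finset S).card = 4 := by
    rw [Finset.card_insert_of_notMem, Finset.card_insert_of_notMem, Finset.card_insert_of_notMem,
      Finset.card_singleton]
    · simp only [Finset.mem_singleton]; exact hcd
    · simp only [Finset.mem_insert, Finset.mem_singleton, not_or]; exact ⟨hbc, hbd⟩
    · simp only [Finset.mem_insert, Finset.mem_singleton, not_or]; exact ⟨hab, hac, had⟩
  have hU : ({a, b, c, d} : Finset S) = Finset.univ := by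
    apply Finset.eq_univ_of_card
    rw [hT]
    apply le_antisymm
    · rw [← hT]; exact Finset.card_le_univ _
    · rw [← Nat.card_eq_fintype_card]; exact h4
  have hmem := Finset.mem_univ e
  rw [← hU] at hmem
  simpa only [Finset.mem_insert, Finset.mem_singleton] using hmem

theorem rec_twentyfour {Y : Type u} [Group Y] [Finite Y] (V : Subgroup Y) [V.Normal] (hV4 : Nat.card V = 4)
    (hCV : Subgroup.centralizer (V : Set Y) ≤ V)
    (hfree : ∀ g : Y, orderOf g = 3 → ∀ v ∈ V, g * v = v * g → v = 1) (h24 : Nat.card Y = 24) :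
    Nonempty (Y ≃* Equiv.Perm (Fin 4)) := by
  classical
  have : Fact (Nat.Prime 3) := ⟨by norm_num⟩
  have : Fact (Nat.Prime 2) := ⟨by norm_num⟩
  have h' : Nat.card Y = 3 ^ 1 * 8 := by rw [h24]; norm_num
  have hm : ¬ 3 ∣ 8 := by norm_num
  obtain ⟨P⟩ : Nonempty (Sylow 3 Y) := Sylow.nonempty
  have hP3 : Nat.card (P : Subgroup Y) = 3 := by
    simpa using Cfsg.Agent.Lib.Helper23.sylow_card_of_card_eq 3 1 8 h' hm P
  -- a generator of `P`
  obtain ⟨g, hgP, hg3⟩ : ∃ g ∈ (P : Subgroup Y), orderOf g = 3 := by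
    obtain ⟨g, hg⟩ := exists_prime_orderOf_dvd_card' (G := (P : Subgroup Y)) 3 (by rw [hP3])
    exact ⟨g.1, g.2, (Subgroup.orderOf_coe g).trans hg⟩
  have hg1 : g ≠ 1 := by
    intro h; rw [h, orderOf_one] at hg3; omega
  -- `P ⊓ V = ⊥`
  have hPV : (P : Subgroup Y) ⊓ V = ⊥ := by
    apply (Subgroup.disjoint_of_coprime_natCard _).eq_bot
    rw [hP3, hV4]; norm_num
  -- `N(P) ⊓ V = ⊥`
  have hNV : ∀ v ∈ Subgroup.normalizer ((P : Subgroup Y) : Set Y), v ∈ V → v = 1 := by
    intro v hvN hvV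
    apply hfree g hg3 v hvV
    have h1 : v * g * v⁻¹ ∈ (P : Subgroup Y) := (Subgroup.mem_normalizer_iff.mp hvN g).mp hgP
    have h2 : v * g * v⁻¹ * g⁻¹ ∈ (P : Subgroup Y) := (P : Subgroup Y).mul_mem h1 ((P : Subgroup Y).inv_mem hgP)
    have h3 : v * g * v⁻¹ * g⁻¹ ∈ V := by
      have : g * v⁻¹ * g⁻¹ ∈ V := ‹V.Normal›.conj_mem _ (V.inv_mem hvV) g
      have h4 := V.mul_mem hvV this
      have : v * (g * v⁻¹ * g⁻¹) = v * g * v⁻¹ * g⁻¹ := by group
      rwa [this] at h4
    have h5 : v * g * v⁻¹ * g⁻¹ ∈ (P : Subgroup Y) ⊓ V := ⟨h2, h3⟩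
    rw [hPV, Subgroup.mem_bot] at h5
    calc g * v = (v * g * v⁻¹ * g⁻¹)⁻¹ * (v * g) := by group
      _ = v * g := by rw [h5, inv_one, one_mul]
  -- `V ≠ ⊥`
  obtain ⟨a, haV, ha1⟩ : ∃ a ∈ V, a ≠ 1 := by
    by_contra hcon
    push Not at hcon
    have : V = ⊥ := by
      rw [Subgroup.eq_bot_iff_forall]; exact hcon
    rw [this, Subgroup.card_bot] at hV4
    omega
  -- the order of the normalizer
  have hN6 : Nat.card (Subgroup.normalizer ((P : Subgroup Y) : Set Y)) = 6 := by
    have hidx := Sylow.card_eq_index_normalizer P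
    have hmod := card_sylow_modEq_one 3 Y
    have hmul := Subgroup.card_mul_index (Subgroup.normalizer ((P : Subgroup Y) : Set Y))
    have hPle : (P : Subgroup Y) ≤ Subgroup.normalizer ((P : Subgroup Y) : Set Y) := Subgroup.le_normalizer
    have h3dvd : 3 ∣ Nat.card (Subgroup.normalizer ((P : Subgroup Y) : Set Y)) := by
      have := Subgroup.card_dvd_of_le hPle
      rwa [hP3] at this
    rw [hidx] at hmod
    rw [h24] at hmul
    set c := Nat.card (Subgroup.normalizer ((P : Subgroup Y) : Set Y)) with hc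
    set i := (Subgroup.normalizer ((P : Subgroup Y) : Set Y)).index with hi
    have hne : i ≠ 1 := by
      intro hi1
      have htop : Subgroup.normalizer ((P : Subgroup Y) : Set Y) = ⊤ := Subgroup.index_eq_one.mp hi1
      apply ha1
      apply hNV a _ haV
      rw [htop]; exact Subgroup.mem_top a
    obtain ⟨k, hk⟩ := h3dvd
    have hki : k * i = 8 := by
      rw [hk] at hmul; nlinarith
    have hk8 : k ∣ 8 := ⟨i, hki.symm⟩
    have hkle : k ≤ 8 := Nat.le_of_dvd (by norm_num) hk8
    have hmod' : i % 3 = 1 % 3 := hmod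
    interval_cases k
    · omega
    · exfalso; have : i = 8 := by omega
      omega
    · omega
    · exfalso; omega
    · exfalso; have : i = 2 := by omega
      omega
    · exfalso; omega
    · exfalso; omega
    · exfalso; omega
    · exfalso; have : i = 1 := by omega
      exact hne this
  apply Cfsg.Agent.Lib.Helper19.Recog.s4_of_card h24 (P : Subgroup Y) hP3 hN6
  by_contra hcon
  push Not at hcon
  -- an involution in the normalizer
  obtain ⟨n, hn⟩ := exists_prime_orderOf_dvd_card'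
    (G := Subgroup.normalizer ((P : Subgroup Y) : Set Y)) 2 (by rw [hN6]; norm_num)
  have hn2 : orderOf (n : Y) = 2 := (Subgroup.orderOf_coe n).trans hn
  have hnn : (n : Y) * (n : Y) = 1 := by
    rw [← pow_two, ← hn2]; exact pow_orderOf_eq_one _
  have hn1 : (n : Y) ≠ 1 := by
    intro h; rw [h, orderOf_one] at hn2; omega
  have hng : (n : Y) * g = g * (n : Y) := by
    have := hcon n.1 n.2 g hgP
    calc (n : Y) * g = ((n : Y) * g * (n : Y)⁻¹) * n := by group
      _ = g * n := by rw [this]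
  -- the three non-identity elements of `V`
  have hgg3 : orderOf (g * g) = 3 := by
    rw [← pow_two, orderOf_pow, hg3]; norm_num
  have ha1V : g * a * g⁻¹ ∈ V := ‹V.Normal›.conj_mem a haV g
  have ha2V : g * g * a * (g * g)⁻¹ ∈ V := ‹V.Normal›.conj_mem a haV (g * g)
  have hggg : g * g * g = 1 := by
    have h3 : g ^ 3 = 1 := by rw [← hg3]; exact pow_orderOf_eq_one g
    calc g * g * g = g ^ 3 := by rw [pow_succ, pow_two]
      _ = 1 := h3
  have d01 : a ≠ g * a * g⁻¹ := by
    intro h
    apply ha1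
    apply hfree g hg3 a haV
    calc g * a = (g * a * g⁻¹) * g := by group
      _ = a * g := by rw [← h]
  have d02 : a ≠ g * g * a * (g * g)⁻¹ := by
    intro h
    apply ha1
    apply hfree (g * g) hgg3 a haV
    calc g * g * a = (g * g * a * (g * g)⁻¹) * (g * g) := by group
      _ = a * (g * g) := by rw [← h]
  have d12 : g * a * g⁻¹ ≠ g * g * a * (g * g)⁻¹ := by
    intro h
    apply d01
    calc a = g⁻¹ * (g * a * g⁻¹) * g := by group
      _ = g⁻¹ * (g * g * a * (g * g)⁻¹) * g := by rw [h]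
      _ = g * a * g⁻¹ := by group
  have e1 : (1 : Y) ≠ g * a * g⁻¹ := by
    intro h
    apply ha1
    calc a = g⁻¹ * (g * a * g⁻¹) * g := by group
      _ = 1 := by rw [← h]; group
  have e2 : (1 : Y) ≠ g * g * a * (g * g)⁻¹ := by
    intro h
    apply ha1
    calc a = (g * g)⁻¹ * (g * g * a * (g * g)⁻¹) * (g * g) := by group
      _ = 1 := by rw [← h]; group
  have hVelts : ∀ v ∈ V, v = 1 ∨ v = a ∨ v = g * a * g⁻¹ ∨ v = g * g * a * (g * g)⁻¹ := by
    intro v hv
    have := four_elts (S := V) (le_of_eq hV4) ⟨1, V.one_mem⟩ ⟨a, haV⟩ ⟨_, ha1V⟩ ⟨_, ha2V⟩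
      (fun h => ha1 (congrArg Subtype.val h).symm) (fun h => e1 (congrArg Subtype.val h))
      (fun h => e2 (congrArg Subtype.val h)) (fun h => d01 (congrArg Subtype.val h))
      (fun h => d02 (congrArg Subtype.val h)) (fun h => d12 (congrArg Subtype.val h)) ⟨v, hv⟩
    rcases this with h | h | h | h
    · left; exact congrArg Subtype.val h
    · right; left; exact congrArg Subtype.val h
    · right; right; left; exact congrArg Subtype.val h
    · right; right; right; exact congrArg Subtype.val h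
  -- `n` fixes `a`
  have hnaV : (n : Y) * a * (n : Y)⁻¹ ∈ V := ‹V.Normal›.conj_mem a haV n
  have hninv : (n : Y)⁻¹ = n := inv_eq_of_mul_eq_one_right hnn
  have hnan : (n : Y) * ((n : Y) * a * (n : Y)⁻¹) * (n : Y)⁻¹ = a := by
    calc (n : Y) * ((n : Y) * a * (n : Y)⁻¹) * (n : Y)⁻¹
        = ((n : Y) * n) * a * ((n : Y) * n)⁻¹ := by group
      _ = a := by rw [hnn]; group
  have hng' : (n : Y) * g⁻¹ = g⁻¹ * n := by
    calc (n : Y) * g⁻¹ = g⁻¹ * (g * n) * g⁻¹ := by group
      _ = g⁻¹ * (n * g) * g⁻¹ := by rw [hng]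
      _ = g⁻¹ * n := by group
  have hng2 : (n : Y) * (g * g) = (g * g) * n := by
    calc (n : Y) * (g * g) = ((n : Y) * g) * g := by group
      _ = (g * n) * g := by rw [hng]
      _ = g * ((n : Y) * g) := by group
      _ = g * (g * n) := by rw [hng]
      _ = (g * g) * n := by group
  have hng2' : (n : Y) * (g * g)⁻¹ = (g * g)⁻¹ * n := by
    calc (n : Y) * (g * g)⁻¹ = (g * g)⁻¹ * ((g * g) * n) * (g * g)⁻¹ := by group
      _ = (g * g)⁻¹ * (n * (g * g)) * (g * g)⁻¹ := by rw [hng2]
      _ = (g * g)⁻¹ * n := by group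
  have hna : (n : Y) * a * (n : Y)⁻¹ = a := by
    rcases hVelts _ hnaV with h | h | h | h
    · exfalso
      apply ha1
      calc a = (n : Y)⁻¹ * ((n : Y) * a * (n : Y)⁻¹) * n := by group
        _ = 1 := by rw [h]; group
    · exact h
    · exfalso
      apply d02
      calc a = (n : Y) * ((n : Y) * a * (n : Y)⁻¹) * (n : Y)⁻¹ := hnan.symm
        _ = (n : Y) * (g * a * g⁻¹) * (n : Y)⁻¹ := by rw [h]
        _ = ((n : Y) * g) * a * ((n : Y) * g)⁻¹ := by group
        _ = (g * n) * a * (g * n)⁻¹ := by rw [hng]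
        _ = g * ((n : Y) * a * (n : Y)⁻¹) * g⁻¹ := by group
        _ = g * (g * a * g⁻¹) * g⁻¹ := by rw [h]
        _ = g * g * a * (g * g)⁻¹ := by group
    · exfalso
      apply d01
      calc a = (n : Y) * ((n : Y) * a * (n : Y)⁻¹) * (n : Y)⁻¹ := hnan.symm
        _ = (n : Y) * (g * g * a * (g * g)⁻¹) * (n : Y)⁻¹ := by rw [h]
        _ = ((n : Y) * (g * g)) * a * ((n : Y) * (g * g))⁻¹ := by group
        _ = ((g * g) * n) * a * ((g * g) * n)⁻¹ := by rw [hng2]
        _ = (g * g) * ((n : Y) * a * (n : Y)⁻¹) * (g * g)⁻¹ := by group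
        _ = (g * g) * (g * g * a * (g * g)⁻¹) * (g * g)⁻¹ := by rw [h]
        _ = (g * g * g) * (g * a * g⁻¹) * (g * g * g)⁻¹ := by group
        _ = g * a * g⁻¹ := by rw [hggg]; group
  -- so `n` centralizes `V`
  have hcent : (n : Y) ∈ Subgroup.centralizer (V : Set Y) := by
    rw [Subgroup.mem_centralizer_iff]
    intro v hv
    have hna' : a * (n : Y) = (n : Y) * a := by
      calc a * (n : Y) = ((n : Y) * a * (n : Y)⁻¹) * n := by rw [hna]
        _ = (n : Y) * a := by group
    rcases hVelts v hv with h | h | h | h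
    · rw [h]; group
    · rw [h]; exact hna'
    · rw [h]
      calc g * a * g⁻¹ * (n : Y) = g * a * (g⁻¹ * n) := by group
        _ = g * a * ((n : Y) * g⁻¹) := by rw [hng']
        _ = g * (a * (n : Y)) * g⁻¹ := by group
        _ = g * ((n : Y) * a) * g⁻¹ := by rw [hna']
        _ = (g * n) * a * g⁻¹ := by group
        _ = ((n : Y) * g) * a * g⁻¹ := by rw [hng]
        _ = (n : Y) * (g * a * g⁻¹) := by group
    · rw [h]
      calc g * g * a * (g * g)⁻¹ * (n : Y) = g * g * a * ((g * g)⁻¹ * n) := by group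
        _ = g * g * a * ((n : Y) * (g * g)⁻¹) := by rw [hng2']
        _ = g * g * (a * (n : Y)) * (g * g)⁻¹ := by group
        _ = g * g * ((n : Y) * a) * (g * g)⁻¹ := by rw [hna']
        _ = ((g * g) * n) * a * (g * g)⁻¹ := by group
        _ = ((n : Y) * (g * g)) * a * (g * g)⁻¹ := by rw [hng2]
        _ = (n : Y) * (g * g * a * (g * g)⁻¹) := by group
  exact hn1 (hNV n.1 n.2 (hCV hcent))

end Cfsg.Agent.Lib.Helper47.FC91
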