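import Cfsg.Agent.Lib.Helper88.FusionHyp2
import Cfsg.Agent.Lib.Helper53.Tr1

/-!
# Keystone K-S5293-B: a criterion for `foc(D) ≤ W`

If `D` is a saturated fusion system over the `p`-group `C`, `W ≥ [C, C]`, and `r⁻¹ ψ(r) ∈ W` for every
automorphism `ψ ∈ Aut_D(R)` of order prime to `p`, then the focal subgroup of `D` lies in `W`.
-/

set_option autoImplicit false

namespace Cfsg.Agent.Lib.Helper47

open Cfsg Cfsg.FusionSystem

variable {Ω : Type*} [Group Ω]

/-- The hyperfocal subgroup lies in `W` as soon as all `r⁻¹ ψ(r)`, `ψ` of order prime to `p`, do. -/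
theorem hyperfocal_le_of_pprime_aut {C : Subgroup Ω} (p : ℕ) (D : FusionSystem C) (W : Subgroup Ω)
    (h : ∀ (R : Subgroup Ω), R ≤ C → ∀ ψ : MulAut R, ψ ∈ D.autGroup R → ∀ n : ℕ, ψ ^ n = 1 → n.Coprime p →
      ∀ r : R, (r : Ω)⁻¹ * ((ψ r : R) : Ω) ∈ W) :
    D.hyperfocalSubgroup p ≤ W := by
  rw [Cfsg.Agent.Lib.Helper88.hyperfocalSubgroup_eq, Subgroup.closure_le]
  rintro _ ⟨P, α, x, hP, hα, rfl⟩
  -- the set of automorphisms trivial modulo `W` is a subgroup containing the generators of `O^p`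
  have key : ∀ β : D.autGroup P, β ∈ pResidual p (D.autGroup P) →
      ∀ y : P, (y : Ω)⁻¹ * (((β : MulAut P) y : P) : Ω) ∈ W := by
    intro β hβ
    unfold pResidual at hβ
    induction hβ using Subgroup.closure_induction with
    | mem β hβ =>
      intro y
      refine h P hP (β : MulAut P) β.2 (orderOf β) ?_ hβ y
      rw [← Subgroup.coe_pow, pow_orderOf_eq_one]
      rfl
    | one =>
      intro y
      have : (y : Ω)⁻¹ * ((((1 : D.autGroup P) : MulAut P) y : P) : Ω) = 1 := by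
        show (y : Ω)⁻¹ * (y : Ω) = 1
        group
      rw [this]; exact W.one_mem
    | mul a b _ _ ha hb =>
      intro y
      have h1 := hb y
      have h2 := ha ((b : MulAut P) y)
      have e : (y : Ω)⁻¹ * ((((a * b : D.autGroup P) : MulAut P) y : P) : Ω) =
          ((y : Ω)⁻¹ * (((b : MulAut P) y : P) : Ω)) *
            ((((b : MulAut P) y : P) : Ω)⁻¹ * (((a : MulAut P) ((b : MulAut P) y) : P) : Ω)) := by
        show (y : Ω)⁻¹ * (((a : MulAut P) ((b : MulAut P) y) : P) : Ω) = _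
        group
      rw [e]
      exact W.mul_mem h1 h2
    | inv a _ ha =>
      intro y
      have h1 := ha ((a : MulAut P)⁻¹ y)
      have e1 : ((a : MulAut P) ((a : MulAut P)⁻¹ y)) = y := by
        show ((a : MulAut P) * (a : MulAut P)⁻¹) y = y
        rw [mul_inv_cancel]; rfl
      rw [e1] at h1
      have e : (y : Ω)⁻¹ * ((((a⁻¹ : D.autGroup P) : MulAut P) y : P) : Ω) =
          ((((a : MulAut P)⁻¹ y : P) : Ω)⁻¹ * (y : Ω))⁻¹ := by
        show (y : Ω)⁻¹ * ((((a : MulAut P)⁻¹) y : P) : Ω) = _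
        group
      rw [e]
      exact W.inv_mem h1
  exact key α hα x

/-- **Keystone K-S5293-B.** -/
theorem focal_le_of_pprime_aut {C : Subgroup Ω} [Finite C] (p : ℕ) [Fact p.Prime] (hC : IsPGroup p C)
    (D : FusionSystem C) (hD : D.IsSaturated p) (W : Subgroup Ω)
    (hcomm : ⁅C, C⁆ ≤ W)
    (h : ∀ (R : Subgroup Ω), R ≤ C → ∀ ψ : MulAut R, ψ ∈ D.autGroup R → ∀ n : ℕ, ψ ^ n = 1 → n.Coprime p →
      ∀ r : R, (r : Ω)⁻¹ * ((ψ r : R) : Ω) ∈ W) :
    D.focalSubgroup ≤ W := by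
  have hhyp : D.hyperfocalSubgroup p ≤ W := hyperfocal_le_of_pprime_aut p D W h
  rw [Cfsg.Agent.Lib.Helper53.Tr.focal_le_iff]
  intro P φ hφ x
  have hPC : P ≤ C := (D.le_of_mem hφ).1
  obtain ⟨-, s, hs, hφs⟩ := Cfsg.Agent.Lib.Helper88.le_modSystem_hyperfocal p hC D hD P hφ
  have h1 : (s * (x : Ω) * s⁻¹)⁻¹ * φ x ∈ W := hhyp (hφs x)
  have h2 : (x : Ω)⁻¹ * (s * (x : Ω) * s⁻¹) ∈ W := by
    apply hcomm
    have hc := Subgroup.commutator_mem_commutator (C.inv_mem (hPC x.2)) hs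
    rw [commutatorElement_def] at hc
    have : (x : Ω)⁻¹ * (s * (x : Ω) * s⁻¹) = (x : Ω)⁻¹ * s * ((x : Ω)⁻¹)⁻¹ * s⁻¹ := by group
    rw [this]
    exact hc
  have e : (x : Ω)⁻¹ * φ x = ((x : Ω)⁻¹ * (s * (x : Ω) * s⁻¹)) * ((s * (x : Ω) * s⁻¹)⁻¹ * φ x) := by group
  rw [e]
  exact W.mul_mem h2 h1

end Cfsg.Agent.Lib.Helper47
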