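import Mathlib

/-! Pack K-GAG (S4839), leaf G01 (keystone 483901): equal centralizer orders in `G` and `G/N`
give the Camina property `x ~ x n`. -/

set_option autoImplicit false

namespace Cfsg.Agent.Lib.Helper47.Gag

variable {G : Type*} [Group G] [Finite G]

/-- orbit-stabilizer for conjugation, in `Nat.card` form with the centralizer. -/
theorem card_conj_orbit_mul {H : Type*} [Group H] [Finite H] (x : H) :
    Nat.card (MulAction.orbit (ConjAct H) x) * Nat.card (Subgroup.centralizer ({x} : Set H)) =
      Nat.card H := by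
  rw [Subgroup.nat_card_centralizer_nat_card_stabilizer, ← Nat.card_prod,
    Nat.card_congr (MulAction.orbitProdStabilizerEquivGroup (ConjAct H) x)]
  exact Nat.card_congr ConjAct.ofConjAct.toEquiv

theorem camina_of_card (N : Subgroup G) [N.Normal]
    (h : ∀ x : G, x ∉ N → Nat.card (Subgroup.centralizer ({x} : Set G)) =
      Nat.card (Subgroup.centralizer ({(x : G ⧸ N)} : Set (G ⧸ N)))) :
    ∀ x : G, x ∉ N → ∀ n ∈ N, IsConj x (x * n) := by
  intro x hx n hn
  set A : Set G := MulAction.orbit (ConjAct G) x with hA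
  set B : Set (G ⧸ N) := MulAction.orbit (ConjAct (G ⧸ N)) (x : G ⧸ N) with hB
  set T : Set G := QuotientGroup.mk ⁻¹' B with hT
  have h1 := card_conj_orbit_mul x
  have h2 := card_conj_orbit_mul (x : G ⧸ N)
  have h3 : Nat.card T = Nat.card N * Nat.card B := by
    rw [← Nat.card_prod]
    exact Nat.card_congr (QuotientGroup.preimageMkEquivSubgroupProdSet N B)
  have h4 : Nat.card G = Nat.card (G ⧸ N) * Nat.card N :=
    Subgroup.card_eq_card_quotient_mul_card_subgroup N
  have h5 := h x hx
  have hcpos : 0 < Nat.card (Subgroup.centralizer ({x} : Set G)) := Nat.card_pos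
  have hAT : A ⊆ T := by
    intro y hy
    rw [hA, ConjAct.mem_orbit_conjAct] at hy
    rw [hT, Set.mem_preimage, hB, ConjAct.mem_orbit_conjAct]
    exact (QuotientGroup.mk' N).map_isConj hy
  have hcard : Nat.card T = Nat.card A := by
    have e1 : Nat.card T * Nat.card (Subgroup.centralizer ({x} : Set G)) =
        Nat.card A * Nat.card (Subgroup.centralizer ({x} : Set G)) := by
      rw [h1, h3, h5, mul_assoc, h2, h4, mul_comm]
    exact Nat.eq_of_mul_eq_mul_right hcpos e1
  have hTfin : T.Finite := Set.toFinite T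
  have hAeq : A = T := by
    apply Set.eq_of_subset_of_ncard_le hAT _ hTfin
    rw [← Nat.card_coe_set_eq, ← Nat.card_coe_set_eq, hcard]
  have hxn : x * n ∈ T := by
    rw [hT, Set.mem_preimage]
    have : ((x * n : G) : G ⧸ N) = (x : G ⧸ N) := by
      rw [QuotientGroup.mk_mul, (QuotientGroup.eq_one_iff n).2 hn, mul_one]
    rw [this]
    exact MulAction.mem_orbit_self _
  rw [← hAeq, hA, ConjAct.mem_orbit_conjAct] at hxn
  exact hxn.symm

end Cfsg.Agent.Lib.Helper47.Gag
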