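import Cfsg.Agent.Lib.Helper33.IrrComp
import Cfsg.Agent.Lib.Helper05.CharDegree
import Cfsg.Agent.Lib.Helper83.OneNonlinear
import Cfsg.Agent.Lib.Helper83.SecondOrth
import Cfsg.Agent.Lib.Helper47.DicyclicCount

set_option autoImplicit false

/-!
# Counting irreducible characters of degree prime to `ℓ`

* transport along group isomorphisms;
* groups all of whose irreducible characters have degree `1` or `2`;
* "dicyclic-like" groups `N = T ∪ h T`.
-/

namespace Cfsg.Agent.Lib.Helper47

open Cfsg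

/-- transport of irreducible characters along a group isomorphism -/
noncomputable def irrCongr {G H : Type*} [Group G] [Group H] (e : G ≃* H) :
    IrrCharacter H ≃ IrrCharacter G where
  toFun χ := ⟨fun g => (χ : H → ℂ) (e g),
    Cfsg.Agent.Lib.Helper33.isIrrCharacter_comp_of_surjective e.toMonoidHom e.surjective χ.2⟩
  invFun ψ := ⟨fun h => (ψ : G → ℂ) (e.symm h),
    Cfsg.Agent.Lib.Helper33.isIrrCharacter_comp_of_surjective e.symm.toMonoidHom
      e.symm.surjective ψ.2⟩
  left_inv χ := by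
    apply Subtype.ext
    funext h
    simp
  right_inv ψ := by
    apply Subtype.ext
    funext g
    simp

theorem irrCongr_apply_one {G H : Type*} [Group G] [Group H] (e : G ≃* H) (χ : IrrCharacter H) :
    (irrCongr e χ : G → ℂ) 1 = (χ : H → ℂ) 1 := by
  change (χ : H → ℂ) (e 1) = _
  rw [map_one]

theorem charDegree_irrCongr {G H : Type*} [Group G] [Group H] (e : G ≃* H) (χ : IrrCharacter H) :
    charDegree (irrCongr e χ : G → ℂ) = charDegree (χ : H → ℂ) := by
  unfold charDegree
  rw [irrCongr_apply_one]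

/-- the number of irreducible characters of degree prime to `ℓ` is an isomorphism invariant -/
theorem card_irr_not_dvd_congr {G H : Type*} [Group G] [Group H] (e : G ≃* H) (ℓ : ℕ) :
    Nat.card {χ : IrrCharacter G // ¬ ℓ ∣ charDegree (χ : G → ℂ)} =
      Nat.card {χ : IrrCharacter H // ¬ ℓ ∣ charDegree (χ : H → ℂ)} := by
  symm
  apply Nat.card_congr
  refine (irrCongr e).subtypeEquiv ?_
  intro χ
  rw [charDegree_irrCongr]

section degreeTwo

variable {G : Type*} [Group G] [Finite G]

theorem charDegree_pos (χ : IrrCharacter G) : 0 < charDegree (χ : G → ℂ) := by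
  obtain ⟨d, hd, h1, -⟩ := Cfsg.Agent.Lib.Helper05.exists_degree_dvd χ.2
  have h2 := Cfsg.Agent.Lib.Helper83.charDegree_cast
    (Cfsg.Agent.Lib.Helper83.IrrCharacter_isCharacter χ)
  rw [h1] at h2
  have : charDegree (χ : G → ℂ) = d := by exact_mod_cast h2
  omega

/-- if all degrees divide `2`, every irreducible character has degree prime to an odd prime -/
theorem card_irr_not_dvd_of_dvd_two_of_odd
    (hdeg : ∀ χ : IrrCharacter G, charDegree (χ : G → ℂ) ∣ 2) (ℓ : ℕ) (hℓ : 3 ≤ ℓ) :
    Nat.card {χ : IrrCharacter G // ¬ ℓ ∣ charDegree (χ : G → ℂ)} =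
      Nat.card (ConjClasses G) := by
  classical
  have : Fintype G := Fintype.ofFinite _
  have : Fintype (IrrCharacter G) := Fintype.ofFinite _
  rw [← Cfsg.Agent.Lib.Helper83.card_irr_eq_card_conjClasses]
  apply Nat.card_congr
  refine Equiv.subtypeUnivEquiv ?_
  intro χ hdvd
  have h1 := Nat.le_of_dvd (by norm_num) (hdeg χ)
  have h2 := Nat.le_of_dvd (charDegree_pos χ) hdvd
  omega

/-- if all degrees divide `2`, the number `a` of characters of odd degree satisfies
`3 a + |G| = 4 k(G)` -/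
theorem card_irr_odd_of_dvd_two
    (hdeg : ∀ χ : IrrCharacter G, charDegree (χ : G → ℂ) ∣ 2) :
    3 * Nat.card {χ : IrrCharacter G // ¬ 2 ∣ charDegree (χ : G → ℂ)} + Nat.card G =
      4 * Nat.card (ConjClasses G) := by
  classical
  have : Fintype (IrrCharacter G) := Fintype.ofFinite _
  have : Fintype G := Fintype.ofFinite _
  rw [← Cfsg.Agent.Lib.Helper83.card_irr_eq_card_conjClasses]
  have hval : ∀ χ : IrrCharacter G, charDegree (χ : G → ℂ) = 1 ∨ charDegree (χ : G → ℂ) = 2 := by
    intro χ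
    have h1 := Nat.le_of_dvd (by norm_num) (hdeg χ)
    have h2 := charDegree_pos χ
    omega
  have hsq := Cfsg.Agent.Lib.Helper83.sum_irr_degree_sq (G := G)
  have hsq' : ∑ χ : IrrCharacter G, (charDegree (χ : G → ℂ)) ^ 2 = Nat.card G := by
    have : ((∑ χ : IrrCharacter G, (charDegree (χ : G → ℂ)) ^ 2 : ℕ) : ℂ) = (Nat.card G : ℂ) := by
      rw [← hsq]
      push_cast
      apply Finset.sum_congr rfl
      intro χ _
      rw [Cfsg.Agent.Lib.Helper83.charDegree_cast
        (Cfsg.Agent.Lib.Helper83.IrrCharacter_isCharacter χ)]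
    exact_mod_cast this
  have hterm : ∀ χ : IrrCharacter G, (charDegree (χ : G → ℂ)) ^ 2 =
      4 - 3 * (if ¬ 2 ∣ charDegree (χ : G → ℂ) then 1 else 0) := by
    intro χ
    rcases hval χ with h | h <;> rw [h] <;> norm_num
  have hterm' : ∀ χ : IrrCharacter G, (charDegree (χ : G → ℂ)) ^ 2 +
      3 * (if ¬ 2 ∣ charDegree (χ : G → ℂ) then 1 else 0) = 4 := by
    intro χ
    rcases hval χ with h | h <;> rw [h] <;> norm_num
  have hsum : ∑ χ : IrrCharacter G, ((charDegree (χ : G → ℂ)) ^ 2 +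
      3 * (if ¬ 2 ∣ charDegree (χ : G → ℂ) then 1 else 0)) = 4 * Fintype.card (IrrCharacter G) := by
    simp_rw [hterm']
    rw [Finset.sum_const, Finset.card_univ, smul_eq_mul, mul_comm]
  rw [Finset.sum_add_distrib, hsq', ← Finset.mul_sum, Finset.sum_boole] at hsum
  rw [Nat.card_eq_fintype_card (α := IrrCharacter G), Nat.card_eq_fintype_card
    (α := {χ : IrrCharacter G // ¬ 2 ∣ charDegree (χ : G → ℂ)}), Fintype.card_subtype]
  simp only [Nat.cast_id] at hsum
  omega

end degreeTwo

section dicyclic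

variable {G : Type*} [Group G]

/-- Itô for an abelian subgroup of index two -/
theorem charDegree_dvd_two_of_abelian_index_two (N T : Subgroup G) [Finite N] (hTN : T ≤ N)
    (hcomm : ∀ a ∈ T, ∀ b ∈ T, a * b = b * a) (hcardN : Nat.card N = 2 * Nat.card T)
    (χ : IrrCharacter N) : charDegree (χ : N → ℂ) ∣ 2 := by
  have hTfin : Finite T := Finite.of_injective (fun t : T => (⟨t.1, hTN t.2⟩ : N))
    (fun a b hab => Subtype.ext (by simpa using congrArg (fun x : N => (x : G)) hab))
  have hcardT : Nat.card (T.subgroupOf N) = Nat.card T :=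
    Nat.card_congr (Subgroup.subgroupOfEquivOfLe hTN).toEquiv
  have hidx : (T.subgroupOf N).index = 2 := by
    have h1 := Subgroup.card_mul_index (T.subgroupOf N)
    rw [hcardT, hcardN] at h1
    have hpos : 0 < Nat.card T := Nat.card_pos
    have : Nat.card T * (T.subgroupOf N).index = Nat.card T * 2 := by rw [h1]; ring
    exact Nat.eq_of_mul_eq_mul_left hpos this
  have hnormal : (T.subgroupOf N).Normal := Subgroup.normal_of_index_eq_two hidx
  have hab : ∀ a ∈ T.subgroupOf N, ∀ b ∈ T.subgroupOf N, a * b = b * a := by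
    intro a ha b hb
    rw [Subgroup.mem_subgroupOf] at ha hb
    apply Subtype.ext
    exact hcomm _ ha _ hb
  have := Cfsg.Agent.Lib.Helper83.ito_charDegree χ (T.subgroupOf N) hab
  rwa [hidx] at this

/-- **Dicyclic-like groups**: `N = T ∪ h₀ T` with `T` abelian, inverted by `h₀`, and with exactly
one involution `z`: all irreducible characters have degree `1` or `2`, exactly four have degree
`1`, and there are `(|T| + 6)/2` of them. -/
theorem card_irr_not_dvd_of_indexTwo (N T : Subgroup G) [Finite N] (hTN : T ≤ N) (h₀ : G)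
    (h₀N : h₀ ∈ N) (hh₀ : h₀ ∉ T) (hcos : ∀ g ∈ N, g ∉ T → g * h₀⁻¹ ∈ T)
    (hcomm : ∀ a ∈ T, ∀ b ∈ T, a * b = b * a)
    (hinv : ∀ t ∈ T, h₀ * t * h₀⁻¹ = t⁻¹)
    (z : G) (hz : z ∈ T) (hz1 : z ≠ 1) (hzz : z * z = 1)
    (hall : ∀ t ∈ T, t * t = 1 → t = 1 ∨ t = z) :
    Nat.card {χ : IrrCharacter N // ¬ 2 ∣ charDegree (χ : N → ℂ)} = 4 ∧
    ∀ ℓ : ℕ, 3 ≤ ℓ →
      2 * Nat.card {χ : IrrCharacter N // ¬ ℓ ∣ charDegree (χ : N → ℂ)} = Nat.card T + 6 := by
  obtain ⟨hcardN, hk⟩ := card_conjClasses_of_indexTwo' N T hTN h₀ h₀N hh₀ hcos hcomm hinv z hz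
    hz1 hzz hall
  have hdeg : ∀ χ : IrrCharacter N, charDegree (χ : N → ℂ) ∣ 2 :=
    charDegree_dvd_two_of_abelian_index_two N T hTN hcomm hcardN
  constructor
  · have h := card_irr_odd_of_dvd_two hdeg
    omega
  · intro ℓ hℓ
    rw [card_irr_not_dvd_of_dvd_two_of_odd hdeg ℓ hℓ]
    exact hk

end dicyclic

section sylow

variable {G : Type*} [Group G]

/-- normalizers of Sylow subgroups are isomorphic -/
theorem nonempty_normalizer_sylow_equiv [Finite G] {ℓ : ℕ} [Fact ℓ.Prime] (P₀ P : Sylow ℓ G) :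
    Nonempty (↥(Subgroup.normalizer ((P : Subgroup G) : Set G)) ≃*
      ↥(Subgroup.normalizer ((P₀ : Subgroup G) : Set G))) := by
  obtain ⟨g, hg⟩ := MulAction.exists_smul_eq G P₀ P
  have hP : (P : Subgroup G) = (P₀ : Subgroup G).map (MulAut.conj g).toMonoidHom := by
    rw [← hg, Sylow.coe_subgroup_smul]
    rfl
  have hN : Subgroup.normalizer ((P : Subgroup G) : Set G) =
      (Subgroup.normalizer ((P₀ : Subgroup G) : Set G)).map (MulAut.conj g).toMonoidHom := by
    rw [hP, ← Subgroup.map_equiv_normalizer_eq]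
  have e1 : ↥(Subgroup.normalizer ((P₀ : Subgroup G) : Set G)) ≃*
      ↥((Subgroup.normalizer ((P₀ : Subgroup G) : Set G)).map (MulAut.conj g).toMonoidHom) :=
    Subgroup.equivMapOfInjective _ _ (MulAut.conj g).injective
  exact ⟨(MulEquiv.subgroupCongr hN).trans e1.symm⟩

/-- if `ℓ` does not divide the order of the group, the Sylow normalizer is everything -/
theorem nonempty_normalizer_sylow_equiv_of_not_dvd [Finite G] {ℓ : ℕ} [Fact ℓ.Prime]
    (hℓ : ¬ ℓ ∣ Nat.card G) (P : Sylow ℓ G) :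
    Nonempty (↥(Subgroup.normalizer ((P : Subgroup G) : Set G)) ≃* G) := by
  have hbot : (P : Subgroup G) = ⊥ := by
    rw [← Subgroup.card_eq_one, P.card_eq_multiplicity,
      Nat.factorization_eq_zero_of_not_dvd hℓ, pow_zero]
  have hN : Subgroup.normalizer ((P : Subgroup G) : Set G) = ⊤ := by
    rw [hbot]
    exact Subgroup.normalizer_eq_top_iff.mpr inferInstance
  exact ⟨(MulEquiv.subgroupCongr hN).trans Subgroup.topEquiv⟩

end sylow

end Cfsg.Agent.Lib.Helper47
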