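import Mathlib
import Cfsg.Agent.Lib.Helper47.SL2

set_option autoImplicit false

namespace Cfsg.Agent.Lib.Helper47

open Matrix

section
variable {F : Type*} [Field F]

/-- diagonal element of `SL2` -/
def diagSL (a : Fˣ) : Matrix.SpecialLinearGroup (Fin 2) F :=
  ⟨!![(a : F), 0; 0, (a : F)⁻¹], by simp [Matrix.det_fin_two]⟩

/-- antidiagonal element of `SL2` -/
def antiSL (a : Fˣ) : Matrix.SpecialLinearGroup (Fin 2) F :=
  ⟨!![0, (a : F); -(a : F)⁻¹, 0], by simp [Matrix.det_fin_two]⟩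

theorem diagSL_coe (a : Fˣ) :
    ((diagSL a : Matrix.SpecialLinearGroup (Fin 2) F) : Matrix (Fin 2) (Fin 2) F) =
      !![(a : F), 0; 0, (a : F)⁻¹] := rfl

theorem antiSL_coe (a : Fˣ) :
    ((antiSL a : Matrix.SpecialLinearGroup (Fin 2) F) : Matrix (Fin 2) (Fin 2) F) =
      !![0, (a : F); -(a : F)⁻¹, 0] := rfl

/-- `g` is diagonal -/
def IsDiag (g : Matrix.SpecialLinearGroup (Fin 2) F) : Prop :=
  (g : Matrix (Fin 2) (Fin 2) F) 0 1 = 0 ∧ (g : Matrix (Fin 2) (Fin 2) F) 1 0 = 0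

/-- `g` is antidiagonal -/
def IsAnti (g : Matrix.SpecialLinearGroup (Fin 2) F) : Prop :=
  (g : Matrix (Fin 2) (Fin 2) F) 0 0 = 0 ∧ (g : Matrix (Fin 2) (Fin 2) F) 1 1 = 0

theorem isDiag_iff (g : Matrix.SpecialLinearGroup (Fin 2) F) : IsDiag g ↔ ∃ a : Fˣ, g = diagSL a := by
  constructor
  · rintro ⟨h01, h10⟩
    have hdet := det_eq g
    rw [h01, zero_mul, sub_zero] at hdet
    refine ⟨Units.mkOfMulEqOne _ _ hdet, ?_⟩
    apply Matrix.SpecialLinearGroup.ext
    intro i j
    rw [diagSL_coe]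
    fin_cases i <;> fin_cases j
    · simp
    · simp [h01]
    · simp [h10]
    · simp only [Fin.mk_one, Fin.isValue, of_apply, cons_val', cons_val_one, cons_val_fin_one,
        Units.val_mkOfMulEqOne]
      exact (eq_inv_of_mul_eq_one_right hdet)
  · rintro ⟨a, rfl⟩
    constructor <;> simp [diagSL_coe]

theorem isAnti_iff (g : Matrix.SpecialLinearGroup (Fin 2) F) : IsAnti g ↔ ∃ a : Fˣ, g = antiSL a := by
  constructor
  · rintro ⟨h00, h11⟩
    have hdet := det_eq g
    rw [h00, zero_mul, zero_sub] at hdet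
    have hdet' : (g : Matrix (Fin 2) (Fin 2) F) 0 1 * (-(g : Matrix (Fin 2) (Fin 2) F) 1 0) = 1 := by
      linear_combination hdet
    refine ⟨Units.mkOfMulEqOne _ _ hdet', ?_⟩
    apply Matrix.SpecialLinearGroup.ext
    intro i j
    rw [antiSL_coe]
    fin_cases i <;> fin_cases j
    · simp [h00]
    · simp
    · simp only [Fin.mk_one, Fin.isValue, Fin.zero_eta, of_apply, cons_val', cons_val_zero,
        cons_val_fin_one, cons_val_one, Units.val_mkOfMulEqOne]
      rw [← eq_inv_of_mul_eq_one_right hdet']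
      ring
    · simp [h11]
  · rintro ⟨a, rfl⟩
    constructor <;> simp [antiSL_coe]

theorem diagSL_injective : Function.Injective (diagSL : Fˣ → Matrix.SpecialLinearGroup (Fin 2) F) := by
  intro a b h
  have := congrArg (fun g : Matrix.SpecialLinearGroup (Fin 2) F => (g : Matrix (Fin 2) (Fin 2) F) 0 0) h
  simp [diagSL_coe] at this
  exact Units.ext this

theorem antiSL_injective : Function.Injective (antiSL : Fˣ → Matrix.SpecialLinearGroup (Fin 2) F) := by
  intro a b h
  have := congrArg (fun g : Matrix.SpecialLinearGroup (Fin 2) F => (g : Matrix (Fin 2) (Fin 2) F) 0 1) h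
  simp [antiSL_coe] at this
  exact Units.ext this

theorem diagSL_ne_antiSL (a b : Fˣ) : (diagSL a : Matrix.SpecialLinearGroup (Fin 2) F) ≠ antiSL b := by
  intro h
  have := congrArg (fun g : Matrix.SpecialLinearGroup (Fin 2) F => (g : Matrix (Fin 2) (Fin 2) F) 0 0) h
  simp [diagSL_coe, antiSL_coe] at this

theorem diagSL_mul_diagSL (a c : Fˣ) :
    (diagSL a : Matrix.SpecialLinearGroup (Fin 2) F) * diagSL c = diagSL (a * c) := by
  apply Matrix.SpecialLinearGroup.ext
  intro i j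
  rw [Matrix.SpecialLinearGroup.coe_mul, diagSL_coe, diagSL_coe, diagSL_coe]
  fin_cases i <;> fin_cases j <;> simp [Matrix.mul_apply, Fin.sum_univ_two, mul_comm]

theorem diagSL_mul_antiSL (a c : Fˣ) :
    (diagSL a : Matrix.SpecialLinearGroup (Fin 2) F) * antiSL c = antiSL (a * c) := by
  apply Matrix.SpecialLinearGroup.ext
  intro i j
  rw [Matrix.SpecialLinearGroup.coe_mul, diagSL_coe, antiSL_coe, antiSL_coe]
  fin_cases i <;> fin_cases j <;> simp [Matrix.mul_apply, Fin.sum_univ_two, mul_comm]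

theorem antiSL_mul_diagSL (c a : Fˣ) :
    (antiSL c : Matrix.SpecialLinearGroup (Fin 2) F) * diagSL a = antiSL (c * a⁻¹) := by
  apply Matrix.SpecialLinearGroup.ext
  intro i j
  rw [Matrix.SpecialLinearGroup.coe_mul, diagSL_coe, antiSL_coe, antiSL_coe]
  fin_cases i <;> fin_cases j <;> simp [Matrix.mul_apply, Fin.sum_univ_two, mul_comm]

theorem antiSL_mul_antiSL (a c : Fˣ) :
    (antiSL a : Matrix.SpecialLinearGroup (Fin 2) F) * antiSL c = diagSL (-(a * c⁻¹)) := by
  apply Matrix.SpecialLinearGroup.ext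
  intro i j
  rw [Matrix.SpecialLinearGroup.coe_mul, diagSL_coe, antiSL_coe, antiSL_coe]
  fin_cases i <;> fin_cases j <;> simp [Matrix.mul_apply, Fin.sum_univ_two, mul_comm]

theorem diagSL_inv (a : Fˣ) : (diagSL a : Matrix.SpecialLinearGroup (Fin 2) F)⁻¹ = diagSL a⁻¹ := by
  rw [inv_eq_iff_mul_eq_one, diagSL_mul_diagSL, mul_inv_cancel]
  apply Matrix.SpecialLinearGroup.ext
  intro i j
  rw [diagSL_coe]
  fin_cases i <;> fin_cases j <;> simp

theorem antiSL_inv (a : Fˣ) : (antiSL a : Matrix.SpecialLinearGroup (Fin 2) F)⁻¹ = antiSL (-a) := by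
  rw [inv_eq_iff_mul_eq_one, antiSL_mul_antiSL]
  apply Matrix.SpecialLinearGroup.ext
  intro i j
  rw [diagSL_coe]
  fin_cases i <;> fin_cases j <;> simp

end

end Cfsg.Agent.Lib.Helper47
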