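import Mathlib
import Cfsg.Agent.Lib.Helper47.Torus
import Cfsg.Agent.Lib.Helper47.BorelCount

set_option autoImplicit false

namespace Cfsg.Agent.Lib.Helper47

open Matrix

section
variable {F : Type*} [Field F]

/-- conjugation of a diagonal element by a diagonal element -/
theorem diag_conj_diag (c x : Fˣ) :
    (diagSL c : Matrix.SpecialLinearGroup (Fin 2) F) * diagSL x * (diagSL c)⁻¹ = diagSL x := by
  rw [diagSL_inv, diagSL_mul_diagSL, diagSL_mul_diagSL]
  congr 1
  rw [mul_comm c x, mul_assoc, mul_inv_cancel, mul_one]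

/-- conjugation of a diagonal element by an antidiagonal element -/
theorem anti_conj_diag (c x : Fˣ) :
    (antiSL c : Matrix.SpecialLinearGroup (Fin 2) F) * diagSL x * (antiSL c)⁻¹ = diagSL x⁻¹ := by
  rw [antiSL_inv, antiSL_mul_diagSL, antiSL_mul_antiSL]
  congr 1
  rw [inv_neg, mul_neg, neg_neg, mul_comm c, mul_assoc, mul_inv_cancel, mul_one]

/-- the diagonal torus of `SL2` -/
def torus (F : Type*) [Field F] : Subgroup (Matrix.SpecialLinearGroup (Fin 2) F) where
  carrier := {g | IsDiag g}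
  mul_mem' := by
    intro a b ha hb
    obtain ⟨x, rfl⟩ := (isDiag_iff a).mp ha
    obtain ⟨y, rfl⟩ := (isDiag_iff b).mp hb
    exact (isDiag_iff _).mpr ⟨x * y, diagSL_mul_diagSL x y⟩
  one_mem' := by
    constructor <;> simp
  inv_mem' := by
    intro a ha
    obtain ⟨x, rfl⟩ := (isDiag_iff a).mp ha
    exact (isDiag_iff _).mpr ⟨x⁻¹, diagSL_inv x⟩

theorem mem_torus_iff (g : Matrix.SpecialLinearGroup (Fin 2) F) : g ∈ torus F ↔ IsDiag g := Iff.rfl

/-- the monomial subgroup of `SL2` -/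
def monomial (F : Type*) [Field F] : Subgroup (Matrix.SpecialLinearGroup (Fin 2) F) where
  carrier := {g | IsDiag g ∨ IsAnti g}
  mul_mem' := by
    intro a b ha hb
    rcases ha with ha | ha <;> rcases hb with hb | hb
    · obtain ⟨x, rfl⟩ := (isDiag_iff a).mp ha
      obtain ⟨y, rfl⟩ := (isDiag_iff b).mp hb
      exact Or.inl ((isDiag_iff _).mpr ⟨x * y, diagSL_mul_diagSL x y⟩)
    · obtain ⟨x, rfl⟩ := (isDiag_iff a).mp ha
      obtain ⟨y, rfl⟩ := (isAnti_iff b).mp hb
      exact Or.inr ((isAnti_iff _).mpr ⟨x * y, diagSL_mul_antiSL x y⟩)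
    · obtain ⟨x, rfl⟩ := (isAnti_iff a).mp ha
      obtain ⟨y, rfl⟩ := (isDiag_iff b).mp hb
      exact Or.inr ((isAnti_iff _).mpr ⟨x * y⁻¹, antiSL_mul_diagSL x y⟩)
    · obtain ⟨x, rfl⟩ := (isAnti_iff a).mp ha
      obtain ⟨y, rfl⟩ := (isAnti_iff b).mp hb
      exact Or.inl ((isDiag_iff _).mpr ⟨-(x * y⁻¹), antiSL_mul_antiSL x y⟩)
  one_mem' := by
    left
    constructor <;> simp
  inv_mem' := by
    intro a ha
    rcases ha with ha | ha
    · obtain ⟨x, rfl⟩ := (isDiag_iff a).mp ha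
      exact Or.inl ((isDiag_iff _).mpr ⟨x⁻¹, diagSL_inv x⟩)
    · obtain ⟨x, rfl⟩ := (isAnti_iff a).mp ha
      exact Or.inr ((isAnti_iff _).mpr ⟨-x, antiSL_inv x⟩)

theorem mem_monomial_iff (g : Matrix.SpecialLinearGroup (Fin 2) F) :
    g ∈ monomial F ↔ IsDiag g ∨ IsAnti g := Iff.rfl

/-- the centralizer of a diagonal element with `a² ≠ 1` is the torus -/
theorem mem_centralizer_diag_iff (d : Matrix.SpecialLinearGroup (Fin 2) F)
    (hd01 : (d : Matrix (Fin 2) (Fin 2) F) 0 1 = 0) (hd10 : (d : Matrix (Fin 2) (Fin 2) F) 1 0 = 0)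
    (hda : (d : Matrix (Fin 2) (Fin 2) F) 0 0 ^ 2 ≠ 1)
    (g : Matrix.SpecialLinearGroup (Fin 2) F) :
    g ∈ Subgroup.centralizer ({d} : Set (Matrix.SpecialLinearGroup (Fin 2) F)) ↔ IsDiag g := by
  obtain ⟨a, rfl⟩ := (isDiag_iff d).mp ⟨hd01, hd10⟩
  have ha : (a : F) ≠ 0 := a.ne_zero
  have hne : (a : F) - (a : F)⁻¹ ≠ 0 := by
    intro h
    apply hda
    rw [diagSL_coe]
    have : (a : F) * ((a : F) - (a : F)⁻¹) = 0 := by rw [h, mul_zero]
    rw [mul_sub, mul_inv_cancel₀ ha] at this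
    simp only [of_apply, cons_val', cons_val_zero, cons_val_fin_one]
    linear_combination this
  rw [Subgroup.mem_centralizer_iff]
  constructor
  · intro h
    have h' := h (diagSL a) rfl
    have h1 := congrArg (fun M : Matrix.SpecialLinearGroup (Fin 2) F =>
      (M : Matrix (Fin 2) (Fin 2) F) 0 1) h'
    have h2 := congrArg (fun M : Matrix.SpecialLinearGroup (Fin 2) F =>
      (M : Matrix (Fin 2) (Fin 2) F) 1 0) h'
    simp only [Matrix.SpecialLinearGroup.coe_mul, diagSL_coe, Matrix.mul_apply,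
      Fin.sum_univ_two] at h1 h2
    simp at h1 h2
    constructor
    · have : (g : Matrix (Fin 2) (Fin 2) F) 0 1 * ((a : F) - (a : F)⁻¹) = 0 := by
        linear_combination h1
      rcases mul_eq_zero.mp this with h | h
      · exact h
      · exact absurd h hne
    · have : (g : Matrix (Fin 2) (Fin 2) F) 1 0 * ((a : F) - (a : F)⁻¹) = 0 := by
        linear_combination -h2
      rcases mul_eq_zero.mp this with h | h
      · exact h
      · exact absurd h hne
  · intro hg h hh
    rw [Set.mem_singleton_iff] at hh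
    subst hh
    obtain ⟨x, rfl⟩ := (isDiag_iff g).mp hg
    rw [diagSL_mul_diagSL, diagSL_mul_diagSL, mul_comm]

theorem centralizer_diag_eq_torus (d : Matrix.SpecialLinearGroup (Fin 2) F)
    (hd01 : (d : Matrix (Fin 2) (Fin 2) F) 0 1 = 0) (hd10 : (d : Matrix (Fin 2) (Fin 2) F) 1 0 = 0)
    (hda : (d : Matrix (Fin 2) (Fin 2) F) 0 0 ^ 2 ≠ 1) :
    Subgroup.centralizer ({d} : Set (Matrix.SpecialLinearGroup (Fin 2) F)) = torus F := by
  ext g
  rw [mem_centralizer_diag_iff d hd01 hd10 hda, mem_torus_iff]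

/-- the monomial group normalizes the torus -/
theorem monomial_le_normalizer :
    monomial F ≤ Subgroup.normalizer ((torus F : Subgroup _) : Set (Matrix.SpecialLinearGroup (Fin 2) F)) := by
  have key : ∀ g ∈ monomial F, ∀ h ∈ torus F, g * h * g⁻¹ ∈ torus F := by
    intro g hg h hh
    obtain ⟨x, rfl⟩ := (isDiag_iff h).mp hh
    rcases hg with hg | hg
    · obtain ⟨c, rfl⟩ := (isDiag_iff g).mp hg
      rw [diag_conj_diag]; exact hh
    · obtain ⟨c, rfl⟩ := (isAnti_iff g).mp hg
      rw [anti_conj_diag]; exact (isDiag_iff _).mpr ⟨_, rfl⟩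
  intro g hg
  rw [Subgroup.mem_normalizer_iff]
  intro h
  constructor
  · exact key g hg h
  · intro hh
    have := key g⁻¹ ((monomial F).inv_mem hg) _ hh
    rw [inv_inv] at this
    have e : g⁻¹ * (g * h * g⁻¹) * g = h := by group
    rwa [e] at this

/-- if the torus contains an element with `a² ≠ 1`, its normalizer is the monomial group -/
theorem normalizer_torus_eq (d : Matrix.SpecialLinearGroup (Fin 2) F)
    (hd01 : (d : Matrix (Fin 2) (Fin 2) F) 0 1 = 0) (hd10 : (d : Matrix (Fin 2) (Fin 2) F) 1 0 = 0)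
    (hda : (d : Matrix (Fin 2) (Fin 2) F) 0 0 ^ 2 ≠ 1) :
    Subgroup.normalizer ((torus F : Subgroup _) : Set (Matrix.SpecialLinearGroup (Fin 2) F)) =
      monomial F := by
  apply le_antisymm _ monomial_le_normalizer
  intro g hg
  rw [Subgroup.mem_normalizer_iff] at hg
  have hd : d ∈ torus F := ⟨hd01, hd10⟩
  have h1 := (hg d).mp hd
  obtain ⟨a, rfl⟩ := (isDiag_iff d).mp ⟨hd01, hd10⟩
  have ha : (a : F) ≠ 0 := a.ne_zero
  have hne : (a : F) - (a : F)⁻¹ ≠ 0 := by
    intro h
    apply hda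
    rw [diagSL_coe]
    have : (a : F) * ((a : F) - (a : F)⁻¹) = 0 := by rw [h, mul_zero]
    rw [mul_sub, mul_inv_cancel₀ ha] at this
    simp only [of_apply, cons_val', cons_val_zero, cons_val_fin_one]
    linear_combination this
  obtain ⟨k01, k10⟩ := h1
  rw [conj_coe, diagSL_coe] at k01 k10
  simp only [Matrix.mul_apply, Fin.sum_univ_two] at k01 k10
  simp at k01 k10
  have hdet := det_eq g
  have e1 : (g : Matrix (Fin 2) (Fin 2) F) 0 0 * (g : Matrix (Fin 2) (Fin 2) F) 0 1 *
      ((a : F) - (a : F)⁻¹) = 0 := by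
    linear_combination -k01
  have e2 : (g : Matrix (Fin 2) (Fin 2) F) 1 0 * (g : Matrix (Fin 2) (Fin 2) F) 1 1 *
      ((a : F) - (a : F)⁻¹) = 0 := by
    linear_combination k10
  have f1 := (mul_eq_zero.mp e1).resolve_right hne
  have f2 := (mul_eq_zero.mp e2).resolve_right hne
  rcases mul_eq_zero.mp f1 with h00 | h01
  · -- antidiagonal
    right
    refine ⟨h00, ?_⟩
    rcases mul_eq_zero.mp f2 with h10 | h11
    · exfalso
      rw [h00, h10] at hdet
      simp at hdet
    · exact h11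
  · left
    refine ⟨h01, ?_⟩
    rcases mul_eq_zero.mp f2 with h10 | h11
    · exact h10
    · exfalso
      rw [h01, h11] at hdet
      simp at hdet

/-- parametrization of the monomial group -/
def monomialMk : Fˣ ⊕ Fˣ → Matrix.SpecialLinearGroup (Fin 2) F := Sum.elim diagSL antiSL

theorem monomialMk_injective : Function.Injective (monomialMk : Fˣ ⊕ Fˣ → Matrix.SpecialLinearGroup (Fin 2) F) := by
  rintro (a | a) (b | b) h
  · exact congrArg Sum.inl (diagSL_injective h)
  · exact absurd h (diagSL_ne_antiSL a b)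
  · exact absurd h.symm (diagSL_ne_antiSL b a)
  · exact congrArg Sum.inr (antiSL_injective h)

theorem monomialMk_mem (x : Fˣ ⊕ Fˣ) : (monomialMk x : Matrix.SpecialLinearGroup (Fin 2) F) ∈ monomial F := by
  rcases x with a | a
  · exact Or.inl ((isDiag_iff _).mpr ⟨a, rfl⟩)
  · exact Or.inr ((isAnti_iff _).mpr ⟨a, rfl⟩)

/-- the monomial group is parametrized by two copies of the units -/
noncomputable def monomialEquiv (F : Type*) [Field F] : Fˣ ⊕ Fˣ ≃ monomial F :=
  Equiv.ofBijective (fun x => ⟨monomialMk x, monomialMk_mem x⟩) (by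
    constructor
    · intro x y h
      exact monomialMk_injective (congrArg Subtype.val h)
    · rintro ⟨g, hg | hg⟩
      · obtain ⟨a, rfl⟩ := (isDiag_iff g).mp hg
        exact ⟨Sum.inl a, rfl⟩
      · obtain ⟨a, rfl⟩ := (isAnti_iff g).mp hg
        exact ⟨Sum.inr a, rfl⟩)

theorem monomialEquiv_coe (x : Fˣ ⊕ Fˣ) :
    ((monomialEquiv F x : monomial F) : Matrix.SpecialLinearGroup (Fin 2) F) = monomialMk x := rfl

theorem commute_diag_diag (a c : Fˣ) :
    Commute (diagSL a : Matrix.SpecialLinearGroup (Fin 2) F) (diagSL c) := by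
  unfold Commute SemiconjBy
  rw [diagSL_mul_diagSL, diagSL_mul_diagSL, mul_comm]

theorem units_eq_inv_iff (a : Fˣ) : a = a⁻¹ ↔ (a : F) - (a : F)⁻¹ = 0 := by
  rw [sub_eq_zero]
  constructor
  · intro h
    have := congrArg Units.val h
    rwa [Units.val_inv_eq_inv_val] at this
  · intro h
    apply Units.ext
    rwa [Units.val_inv_eq_inv_val]

theorem commute_diag_anti_iff (a c : Fˣ) :
    Commute (diagSL a : Matrix.SpecialLinearGroup (Fin 2) F) (antiSL c) ↔
      (a : F) - (a : F)⁻¹ = 0 := by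
  unfold Commute SemiconjBy
  rw [diagSL_mul_antiSL, antiSL_mul_diagSL, antiSL_injective.eq_iff, ← units_eq_inv_iff,
    mul_comm a c, mul_right_inj]

theorem commute_anti_diag_iff (a c : Fˣ) :
    Commute (antiSL a : Matrix.SpecialLinearGroup (Fin 2) F) (diagSL c) ↔
      (c : F) - (c : F)⁻¹ = 0 := by
  rw [← commute_diag_anti_iff c a]
  exact ⟨Commute.symm, Commute.symm⟩

theorem commute_anti_anti_iff (a c : Fˣ) :
    Commute (antiSL a : Matrix.SpecialLinearGroup (Fin 2) F) (antiSL c) ↔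
      ((a * c⁻¹ : Fˣ) : F) - ((a * c⁻¹ : Fˣ) : F)⁻¹ = 0 := by
  unfold Commute SemiconjBy
  rw [antiSL_mul_antiSL, antiSL_mul_antiSL, diagSL_injective.eq_iff, ← units_eq_inv_iff, neg_inj,
    mul_inv, inv_inv, mul_comm c]

end

end Cfsg.Agent.Lib.Helper47
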