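import Mathlib
import Cfsg.Agent.Lib.Helper47.TorusNormalizer

set_option autoImplicit false

namespace Cfsg.Agent.Lib.Helper47

open Matrix

section
variable {F : Type*} [Field F] [Fintype F]

theorem card_monomial : Nat.card (monomial F) = 2 * (Fintype.card F - 1) := by
  classical
  rw [← Nat.card_congr (monomialEquiv F), Nat.card_eq_fintype_card, Fintype.card_sum,
    Fintype.card_units]
  ring

theorem sum_ite_units_sub_inv [DecidableEq F] (hodd : Fintype.card F % 2 = 1) :
    (∑ a : Fˣ, if (a : F) - (a : F)⁻¹ = 0 then 1 else 0) = 2 := by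
  rw [← Finset.card_filter, card_units_sub_inv_eq_zero hodd]

theorem sum_ite_units_sub_inv_mul [DecidableEq F] (hodd : Fintype.card F % 2 = 1) (c : Fˣ) :
    (∑ a : Fˣ, if ((a * c⁻¹ : Fˣ) : F) - ((a * c⁻¹ : Fˣ) : F)⁻¹ = 0 then 1 else 0) = 2 := by
  rw [← sum_ite_units_sub_inv hodd]
  exact Fintype.sum_equiv (Equiv.mulRight c⁻¹) _ _ (fun a => rfl)

/-- the number of commuting pairs in the monomial group -/
theorem card_commuting_pairs_monomial (hodd : Fintype.card F % 2 = 1) :
    Nat.card {p : monomial F × monomial F // Commute p.1 p.2} =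
      (Fintype.card F - 1) * (Fintype.card F - 1) + 6 * (Fintype.card F - 1) := by
  classical
  have e1 : {x : (Fˣ ⊕ Fˣ) × (Fˣ ⊕ Fˣ) //
      Commute (monomialMk x.1 : Matrix.SpecialLinearGroup (Fin 2) F) (monomialMk x.2)} ≃
      {p : monomial F × monomial F // Commute p.1 p.2} :=
    Equiv.subtypeEquiv ((monomialEquiv F).prodCongr (monomialEquiv F)) (fun x => by
      unfold Commute SemiconjBy
      rw [Subtype.ext_iff]
      rfl)
  rw [← Nat.card_congr e1, Nat.card_eq_fintype_card, Fintype.card_subtype, Finset.card_filter,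
    Fintype.sum_prod_type]
  simp only [Fintype.sum_sum_type, monomialMk, Sum.elim_inl, Sum.elim_inr]
  have s1 : (∑ a : Fˣ, ∑ c : Fˣ,
      if Commute (diagSL a : Matrix.SpecialLinearGroup (Fin 2) F) (diagSL c) then 1 else 0) =
      (Fintype.card F - 1) * (Fintype.card F - 1) := by
    simp [commute_diag_diag, Finset.card_univ, Fintype.card_units]
  have s2 : (∑ a : Fˣ, ∑ c : Fˣ,
      if Commute (diagSL a : Matrix.SpecialLinearGroup (Fin 2) F) (antiSL c) then 1 else 0) =
      2 * (Fintype.card F - 1) := by
    rw [Finset.sum_comm]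
    simp only [commute_diag_anti_iff, sum_ite_units_sub_inv hodd]
    simp [Finset.card_univ, Fintype.card_units, mul_comm]
  have s3 : (∑ a : Fˣ, ∑ c : Fˣ,
      if Commute (antiSL a : Matrix.SpecialLinearGroup (Fin 2) F) (diagSL c) then 1 else 0) =
      2 * (Fintype.card F - 1) := by
    simp only [commute_anti_diag_iff, sum_ite_units_sub_inv hodd]
    simp [Finset.card_univ, Fintype.card_units, mul_comm]
  have s4 : (∑ a : Fˣ, ∑ c : Fˣ,
      if Commute (antiSL a : Matrix.SpecialLinearGroup (Fin 2) F) (antiSL c) then 1 else 0) =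
      2 * (Fintype.card F - 1) := by
    rw [Finset.sum_comm]
    simp only [commute_anti_anti_iff, sum_ite_units_sub_inv_mul hodd]
    simp [Finset.card_univ, Fintype.card_units, mul_comm]
  have total := congrArg₂ (· + ·) (congrArg₂ (· + ·) s1 s2) (congrArg₂ (· + ·) s3 s4)
  have e : (Fintype.card F - 1) * (Fintype.card F - 1) + 6 * (Fintype.card F - 1) =
      (Fintype.card F - 1) * (Fintype.card F - 1) + 2 * (Fintype.card F - 1) +
        (2 * (Fintype.card F - 1) + 2 * (Fintype.card F - 1)) := by ring
  rw [e, Finset.sum_add_distrib, Finset.sum_add_distrib]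
  convert total
  all_goals (split_ifs with h <;> simp [h])

/-- the monomial group of `SL2(q)`, `q` odd, has `(q+5)/2` classes -/
theorem card_conjClasses_monomial (hodd : Fintype.card F % 2 = 1) :
    Nat.card (ConjClasses (monomial F)) = (Fintype.card F + 5) / 2 := by
  classical
  have hq2 : 1 < Fintype.card F := Fintype.one_lt_card
  have key := card_comm_eq_card_conjClasses_mul_card (monomial F)
  rw [card_commuting_pairs_monomial hodd, card_monomial] at key
  set q := Fintype.card F with hq
  obtain ⟨n, hn⟩ : ∃ n, q = 2 * n + 3 := ⟨(q - 3) / 2, by omega⟩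
  have h1 : q - 1 = 2 * n + 2 := by omega
  rw [h1] at key
  have hpos : 0 < 2 * (2 * n + 2) := by omega
  have : (n + 4) * (2 * (2 * n + 2)) =
      Nat.card (ConjClasses (monomial F)) * (2 * (2 * n + 2)) := by
    rw [← key]; ring
  have := Nat.eq_of_mul_eq_mul_right hpos this
  omega

end

end Cfsg.Agent.Lib.Helper47
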