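import Mathlib
import Cfsg.Prelude.Def_Solvable
import Cfsg.Agent.S0039

/-! Pack K-N3 (S4004), leaf C4d (keystone 400414): a self-normalizing cyclic Sylow subgroup of prime
order in a group all of whose elements have order `1`, `r` or `r'` is a Frobenius complement
(Burnside transfer + S0039). -/

set_option autoImplicit false

namespace Cfsg.Agent.Lib.Helper47.N3

theorem frobenius_of_self_normalizing {G : Type*} [Group G] [Finite G] (r r' : ℕ) (hr : r.Prime) [Fact r'.Prime]
    (hrr : r ≠ r') (hord : ∀ g : G, orderOf g = 1 ∨ orderOf g = r ∨ orderOf g = r') (hrG : r ∣ Nat.card G)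
    (hQ : ∀ Q : Sylow r' G, Nat.card Q = r') (c : G) (hc : orderOf c = r')
    (hN : Subgroup.normalizer ((Subgroup.zpowers c : Subgroup G) : Set G) ≤ Subgroup.zpowers c) :
    Cfsg.IsFrobeniusComplement (Subgroup.zpowers c) := by
  have hr' : r'.Prime := Fact.out
  have hcard0 : Nat.card (Subgroup.zpowers c) = r' := by rw [Nat.card_zpowers, hc]
  have hp0 : IsPGroup r' (Subgroup.zpowers c) := IsPGroup.of_card (n := 1) (by rw [hcard0, pow_one])
  obtain ⟨P, hP⟩ := hp0.exists_le_sylow
  have hPeq : Subgroup.zpowers c = (P : Subgroup G) := by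
    apply Subgroup.eq_of_le_of_card_ge hP
    rw [hcard0]; exact (hQ P).le
  have hNC : Subgroup.normalizer ((P : Subgroup G) : Set G) ≤ Subgroup.centralizer ((P : Subgroup G) : Set G) := by
    rw [← hPeq]
    intro x hx
    have hx' := hN hx
    rw [Subgroup.mem_centralizer_iff]
    intro y hy
    obtain ⟨a, rfl⟩ := Subgroup.mem_zpowers_iff.1 hx'
    obtain ⟨b, rfl⟩ := Subgroup.mem_zpowers_iff.1 hy
    exact (Commute.zpow_zpow_self c b a).eq
  have hcompl := MonoidHom.ker_transferSylow_isComplement' P hNC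
  set K : Subgroup G := (MonoidHom.transferSylow P hNC).ker with hK
  have hcompl' : Subgroup.IsComplement' K (Subgroup.zpowers c) := by rw [hPeq]; exact hcompl
  have hmul : Nat.card K * Nat.card (Subgroup.zpowers c) = Nat.card G := hcompl'.card_mul_card
  have hnd : ¬ r' ∣ Nat.card K := by
    have := MonoidHom.not_dvd_card_ker_transferSylow P hNC
    exact this
  have hKne : K ≠ ⊥ := by
    intro hKb
    rw [hKb, Subgroup.card_bot, one_mul, hcard0] at hmul
    rw [← hmul] at hrG
    exact hrr ((Nat.prime_dvd_prime_iff_eq hr hr').1 hrG)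
  have hHne : Subgroup.zpowers c ≠ ⊥ := by
    intro hb
    rw [hb, Subgroup.card_bot] at hcard0
    exact hr'.one_lt.ne hcard0
  rw [Cfsg.Agent.S0039.result K (Subgroup.zpowers c) hcompl' hKne hHne]
  intro h hh hh1
  rw [eq_bot_iff]
  intro k hk
  obtain ⟨hkK, hkC⟩ := Subgroup.mem_inf.mp hk
  rw [Subgroup.mem_centralizer_iff] at hkC
  have hcomm : Commute h k := hkC h rfl
  rw [Subgroup.mem_bot]
  -- order of h
  have hoh : orderOf h = r' := by
    have h1 : orderOf h ∣ r' := by
      have := Subgroup.orderOf_dvd_natCard (Subgroup.zpowers c) hh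
      rwa [hcard0] at this
    rcases (Nat.dvd_prime hr').1 h1 with h2 | h2
    · exact absurd (orderOf_eq_one_iff.1 h2) hh1
    · exact h2
  have hok : orderOf k ∣ Nat.card K := Subgroup.orderOf_dvd_natCard K hkK
  rcases hord k with h1 | h1 | h1
  · exact orderOf_eq_one_iff.1 h1
  · exfalso
    have hcop : Nat.Coprime (orderOf h) (orderOf k) := by
      rw [hoh, h1]; exact (Nat.coprime_primes hr' hr).2 (Ne.symm hrr)
    have hmulord := hcomm.orderOf_mul_eq_mul_orderOf_of_coprime hcop
    rw [hoh, h1] at hmulord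
    have h2 := hr.two_le
    have h2' := hr'.two_le
    rcases hord (h * k) with h3 | h3 | h3
    · rw [h3] at hmulord; nlinarith
    · rw [h3] at hmulord; nlinarith
    · rw [h3] at hmulord; nlinarith
  · exfalso
    rw [h1] at hok
    exact hnd hok

end Cfsg.Agent.Lib.Helper47.N3
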