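import Mathlib
import Cfsg.Agent.Lib.Helper47.SL2

set_option autoImplicit false

namespace Cfsg.Agent.Lib.Helper47

open Matrix Polynomial

section
variable {F : Type*} [Field F] [Fintype F]

/-- the characteristic polynomial `z² - t z + 1` -/
noncomputable def chi (t : F) : F[X] := X ^ 2 - C t * X + 1

theorem chi_eval (t c : F) : (chi t).eval c = c ^ 2 - t * c + 1 := by
  simp [chi]

theorem chi_natDegree (t : F) : (chi t).natDegree = 2 := by
  have : chi t = C 1 * X ^ 2 + C (-t) * X + C 1 := by
    simp [chi]; ring
  rw [this]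
  exact natDegree_quadratic one_ne_zero

theorem chi_monic (t : F) : (chi t).Monic := by
  have : chi t = C 1 * X ^ 2 + C (-t) * X + C 1 := by
    simp [chi]; ring
  rw [Monic, this, leadingCoeff_quadratic one_ne_zero]

theorem chi_irreducible (t : F) (hno : ∀ c : F, c ^ 2 - t * c + 1 ≠ 0) : Irreducible (chi t) := by
  apply irreducible_of_degree_le_three_of_not_isRoot
  · rw [chi_natDegree]; simp
  · intro c hc
    rw [IsRoot.def, chi_eval] at hc
    exact hno c hc

omit [Fintype F] in
theorem chi_aeval {A : Type*} [CommRing A] [Algebra F A] (t : F) (a : A) :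
    aeval a (chi t) = a ^ 2 - algebraMap F A t * a + 1 := by
  simp [chi]

/-- in the field `F[z]/(z² - tz + 1)`, `θ^(q+1) = 1` when the polynomial has no root in `F` -/
theorem chi_dvd (t : F) (hno : ∀ c : F, c ^ 2 - t * c + 1 ≠ 0) :
    chi t ∣ X ^ (Fintype.card F + 1) - 1 := by
  classical
  haveI : Fact (Irreducible (chi t)) := ⟨chi_irreducible t hno⟩
  set q := Fintype.card F with hq
  set K := AdjoinRoot (chi t)
  set θ : K := AdjoinRoot.root (chi t) with hθ
  rw [← AdjoinRoot.mk_eq_zero]
  -- θ² - tθ + 1 = 0
  have hθroot : θ ^ 2 - (algebraMap F K t) * θ + 1 = 0 := by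
    rw [← chi_aeval, hθ, AdjoinRoot.aeval_eq, AdjoinRoot.mk_self]
  -- θ^q is a root
  have hθq : (θ ^ q) ^ 2 - (algebraMap F K t) * θ ^ q + 1 = 0 := by
    have h1 : aeval θ (expand F q (chi t)) = aeval (θ ^ q) (chi t) := expand_aeval q (chi t) θ
    have h2 : aeval θ (expand F q (chi t)) = 0 := by
      rw [FiniteField.expand_card, map_pow]
      have : aeval θ (chi t) = 0 := by
        rw [hθ, AdjoinRoot.aeval_eq, AdjoinRoot.mk_self]
      rw [this, zero_pow Fintype.card_ne_zero]
    rw [h2] at h1
    rw [← chi_aeval, ← h1]
  -- hence θ^q = θ or θ^q = t - θ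
  have hcases : θ ^ q = θ ∨ θ ^ q = algebraMap F K t - θ := by
    have : (θ ^ q - θ) * (θ ^ q - (algebraMap F K t - θ)) = 0 := by
      linear_combination hθq - hθroot
    rcases mul_eq_zero.mp this with h | h
    · left; exact sub_eq_zero.mp h
    · right; exact sub_eq_zero.mp h
  have hne : θ ^ q ≠ θ := by
    intro hfix
    -- the polynomial z^q - z over K has q + 1 roots
    let f : Option F → K := fun o => match o with
      | none => θ
      | some c => algebraMap F K c
    have hθnot : ∀ c : F, θ ≠ algebraMap F K c := by
      intro c hc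
      apply hno c
      have : algebraMap F K (c ^ 2 - t * c + 1) = 0 := by
        rw [map_add, map_sub, map_pow, map_mul, map_one, ← hc]
        exact hθroot
      exact (map_eq_zero (algebraMap F K)).mp this
    have hinj : Function.Injective f := by
      intro a b hab
      match a, b with
      | none, none => rfl
      | none, some c => exact absurd hab (hθnot c)
      | some c, none => exact absurd hab.symm (hθnot c)
      | some c, some c' =>
        have := (algebraMap F K).injective hab
        rw [this]
    have hroots : ∀ o : Option F, (X ^ q - X : K[X]).eval (f o) = 0 := by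
      intro o
      match o with
      | none =>
        simp only [eval_sub, eval_pow, eval_X, f]
        rw [hfix, sub_self]
      | some c =>
        simp only [eval_sub, eval_pow, eval_X, f]
        rw [← map_pow, FiniteField.pow_card, sub_self]
    have hq1 : 1 < q := Fintype.one_lt_card
    have := Polynomial.eq_zero_of_natDegree_lt_card_of_eval_eq_zero (X ^ q - X : K[X]) hinj hroots
      (by rw [FiniteField.X_pow_card_sub_X_natDegree_eq K hq1, Fintype.card_option]; omega)
    exact FiniteField.X_pow_card_sub_X_ne_zero K hq1 this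
  have hq' : θ ^ q = algebraMap F K t - θ := hcases.resolve_left hne
  have : θ ^ (q + 1) = 1 := by
    rw [pow_succ, hq']
    linear_combination -hθroot
  rw [map_sub, map_pow, map_one, AdjoinRoot.mk_X, this, sub_self]

/-- an element of `SL2(F)` whose characteristic polynomial has no root in `F` has order dividing `q+1` -/
theorem pow_card_add_one_of_no_root (A : Matrix.SpecialLinearGroup (Fin 2) F)
    (hno : ∀ c : F, c ^ 2 - Matrix.trace (A : Matrix (Fin 2) (Fin 2) F) * c + 1 ≠ 0) :
    A ^ (Fintype.card F + 1) = 1 := by
  obtain ⟨Q, hQ⟩ := chi_dvd _ hno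
  have h := congrArg (aeval (A : Matrix (Fin 2) (Fin 2) F)) hQ
  have hchi : aeval (A : Matrix (Fin 2) (Fin 2) F) (chi (Matrix.trace (A : Matrix (Fin 2) (Fin 2) F))) = 0 := by
    simp only [chi, map_add, map_sub, map_pow, map_mul, aeval_X, aeval_C, map_one]
    rw [pow_two, cayley_hamilton]
    rw [Algebra.algebraMap_eq_smul_one, smul_mul_assoc, one_mul]
    abel
  rw [map_mul, hchi, zero_mul, map_sub, map_pow, aeval_X, map_one, sub_eq_zero] at h
  apply Matrix.SpecialLinearGroup.ext
  intro i j
  rw [Matrix.SpecialLinearGroup.coe_pow, h]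
  rfl

end

end Cfsg.Agent.Lib.Helper47
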