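import Mathlib
import Cfsg.Agent.Lib.Helper47.SL2

set_option autoImplicit false

namespace Cfsg.Agent.Lib.Helper47

open Matrix

section
variable {F : Type*} [Field F]

/-- if the quadratic form attached to `y` represents 1 then `y` is `SL2`-conjugate to the
companion matrix of its characteristic polynomial -/
theorem conj_to_comp_of_repr (y : Matrix.SpecialLinearGroup (Fin 2) F)
    (hrep : ∃ v₀ v₁ : F, (y : Matrix (Fin 2) (Fin 2) F) 1 0 * v₀ ^ 2 +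
      ((y : Matrix (Fin 2) (Fin 2) F) 1 1 - (y : Matrix (Fin 2) (Fin 2) F) 0 0) * v₀ * v₁ +
      -((y : Matrix (Fin 2) (Fin 2) F) 0 1) * v₁ ^ 2 = 1) :
    ∃ P : Matrix.SpecialLinearGroup (Fin 2) F,
      P⁻¹ * y * P = comp (Matrix.trace (y : Matrix (Fin 2) (Fin 2) F)) := by
  have hdet := det_eq y
  have htr' : Matrix.trace y.1 = y.1 0 0 + y.1 1 1 := by
    rw [Matrix.trace_fin_two]
  obtain ⟨v₀, v₁, hv⟩ := hrep
  obtain ⟨P, hP⟩ : ∃ P : Matrix.SpecialLinearGroup (Fin 2) F,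
      (P : Matrix (Fin 2) (Fin 2) F) =
        !![v₀, y.1 0 0 * v₀ + y.1 0 1 * v₁; v₁, y.1 1 0 * v₀ + y.1 1 1 * v₁] := by
    refine ⟨⟨!![v₀, y.1 0 0 * v₀ + y.1 0 1 * v₁; v₁, y.1 1 0 * v₀ + y.1 1 1 * v₁], ?_⟩, rfl⟩
    rw [Matrix.det_fin_two]
    simp
    linear_combination hv
  refine ⟨P, ?_⟩
  have key : y * P = P * comp (Matrix.trace y.1) := by
    apply Matrix.SpecialLinearGroup.ext
    intro i j
    rw [Matrix.SpecialLinearGroup.coe_mul, Matrix.SpecialLinearGroup.coe_mul, hP, htr']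
    fin_cases i <;> fin_cases j <;>
      simp [comp, Matrix.mul_apply, Fin.sum_univ_two] <;>
      first | ring1 | linear_combination (-v₀) * hdet | linear_combination (-v₁) * hdet | linear_combination (v₀) * hdet | linear_combination (v₁) * hdet
  rw [mul_assoc, key, ← mul_assoc, inv_mul_cancel, one_mul]

theorem step_D_of_conic (t : F)
    (G : Matrix.SpecialLinearGroup (Fin 2) F)
    (h00 : (G : Matrix (Fin 2) (Fin 2) F) 0 0 = 0) (h10 : (G : Matrix (Fin 2) (Fin 2) F) 1 0 ≠ 0)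
    (hconic : ∃ a b : F, a ^ 2 + b ^ 2 - (G : Matrix (Fin 2) (Fin 2) F) 1 1 * a * b - t * a + t * b + 1 = 0) :
    ∃ Y : Matrix.SpecialLinearGroup (Fin 2) F,
      Matrix.trace (Y : Matrix (Fin 2) (Fin 2) F) = t ∧
      Matrix.trace ((Y⁻¹ * G : Matrix.SpecialLinearGroup (Fin 2) F) : Matrix (Fin 2) (Fin 2) F) = t := by
  have hdet := det_eq G
  obtain ⟨a, b, hab⟩ := hconic
  set g₂ := (G : Matrix (Fin 2) (Fin 2) F) 1 0 with hg₂
  set s := (G : Matrix (Fin 2) (Fin 2) F) 1 1 with hs'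
  set g₁ := (G : Matrix (Fin 2) (Fin 2) F) 0 1 with hg₁
  rw [h00] at hdet
  obtain ⟨Y, hY⟩ : ∃ Y : Matrix.SpecialLinearGroup (Fin 2) F,
      (Y : Matrix (Fin 2) (Fin 2) F) = !![a, b / g₂; g₂ * (b + t - a * s), t - a] := by
    refine ⟨⟨!![a, b / g₂; g₂ * (b + t - a * s), t - a], ?_⟩, rfl⟩
    rw [Matrix.det_fin_two]
    simp
    field_simp
    linear_combination -hab
  refine ⟨Y, ?_, ?_⟩
  · rw [hY, Matrix.trace_fin_two]; simp
  · rw [inv_mul_coe, Matrix.trace_fin_two]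
    simp only [Matrix.mul_apply, Fin.sum_univ_two]
    rw [hY]
    simp [h00]
    rw [← hg₂, ← hs', ← hg₁]
    field_simp
    linear_combination (b + t - a * s) * hdet

/-- Generic covering statement: if every element of `SL2` with the trace of `X` is conjugate to the
companion matrix, and the conic attached to `(tr G, tr X)` has a point, then the image of `G` in
`PSL2` is a product of two conjugates of the image of `X`. -/
theorem cover_of_conj_of_conic (X : Matrix.SpecialLinearGroup (Fin 2) F)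
    (hconj : ∀ Y : Matrix.SpecialLinearGroup (Fin 2) F,
      Matrix.trace (Y : Matrix (Fin 2) (Fin 2) F) = Matrix.trace (X : Matrix (Fin 2) (Fin 2) F) →
      ∃ S : Matrix.SpecialLinearGroup (Fin 2) F, S * Y * S⁻¹ = comp (Matrix.trace (X : Matrix (Fin 2) (Fin 2) F)))
    (G : Matrix.SpecialLinearGroup (Fin 2) F)
    (hG : G ∉ Subgroup.center (Matrix.SpecialLinearGroup (Fin 2) F))
    (hconic : ∃ a b : F, a ^ 2 + b ^ 2 - Matrix.trace (G : Matrix (Fin 2) (Fin 2) F) * a * b -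
      Matrix.trace (X : Matrix (Fin 2) (Fin 2) F) * a + Matrix.trace (X : Matrix (Fin 2) (Fin 2) F) * b + 1 = 0) :
    ∃ u v : Matrix.ProjectiveSpecialLinearGroup (Fin 2) F,
      (G : Matrix.ProjectiveSpecialLinearGroup (Fin 2) F) =
        (u * (X : Matrix.ProjectiveSpecialLinearGroup (Fin 2) F) * u⁻¹) * (v * X * v⁻¹) := by
  obtain ⟨S₀, hS₀⟩ := hconj X rfl
  -- Claim 1
  have claim1 : ∀ Y Z : Matrix.SpecialLinearGroup (Fin 2) F,
      Matrix.trace (Y : Matrix (Fin 2) (Fin 2) F) = Matrix.trace (X : Matrix (Fin 2) (Fin 2) F) →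
      Matrix.trace (Z : Matrix (Fin 2) (Fin 2) F) = Matrix.trace (X : Matrix (Fin 2) (Fin 2) F) →
      ∃ u v : Matrix.ProjectiveSpecialLinearGroup (Fin 2) F,
        ((Y * Z : Matrix.SpecialLinearGroup (Fin 2) F) : Matrix.ProjectiveSpecialLinearGroup (Fin 2) F) =
          (u * (X : Matrix.ProjectiveSpecialLinearGroup (Fin 2) F) * u⁻¹) * (v * X * v⁻¹) := by
    intro Y Z hY hZ
    obtain ⟨S₁, hS₁⟩ := hconj Y hY
    obtain ⟨S₂, hS₂⟩ := hconj Z hZ
    have hYX : Y = (S₁⁻¹ * S₀) * X * (S₁⁻¹ * S₀)⁻¹ := by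
      have h : S₁ * Y * S₁⁻¹ = S₀ * X * S₀⁻¹ := by rw [hS₁, hS₀]
      calc Y = S₁⁻¹ * (S₁ * Y * S₁⁻¹) * S₁ := by group
        _ = S₁⁻¹ * (S₀ * X * S₀⁻¹) * S₁ := by rw [h]
        _ = _ := by group
    have hZX : Z = (S₂⁻¹ * S₀) * X * (S₂⁻¹ * S₀)⁻¹ := by
      have h : S₂ * Z * S₂⁻¹ = S₀ * X * S₀⁻¹ := by rw [hS₂, hS₀]
      calc Z = S₂⁻¹ * (S₂ * Z * S₂⁻¹) * S₂ := by group
        _ = S₂⁻¹ * (S₀ * X * S₀⁻¹) * S₂ := by rw [h]
        _ = _ := by group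
    refine ⟨((S₁⁻¹ * S₀ : Matrix.SpecialLinearGroup (Fin 2) F) : Matrix.ProjectiveSpecialLinearGroup (Fin 2) F),
      ((S₂⁻¹ * S₀ : Matrix.SpecialLinearGroup (Fin 2) F) : Matrix.ProjectiveSpecialLinearGroup (Fin 2) F), ?_⟩
    conv_lhs => rw [hYX, hZX]
    simp only [QuotientGroup.mk_mul, QuotientGroup.mk_inv]
  -- Claim 2
  have claim2 : ∀ g w : Matrix.ProjectiveSpecialLinearGroup (Fin 2) F,
      (∃ u v : Matrix.ProjectiveSpecialLinearGroup (Fin 2) F,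
        g = (u * (X : Matrix.ProjectiveSpecialLinearGroup (Fin 2) F) * u⁻¹) * (v * X * v⁻¹)) →
      ∃ u v : Matrix.ProjectiveSpecialLinearGroup (Fin 2) F,
        w * g * w⁻¹ = (u * (X : Matrix.ProjectiveSpecialLinearGroup (Fin 2) F) * u⁻¹) * (v * X * v⁻¹) := by
    rintro g w ⟨u, v, rfl⟩
    exact ⟨w * u, w * v, by group⟩
  obtain ⟨V, hV⟩ := exists_conj_ne G hG
  obtain ⟨G', hG'⟩ : ∃ G' : Matrix.SpecialLinearGroup (Fin 2) F, G' = V * G * V⁻¹ := ⟨_, rfl⟩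
  rw [← hG'] at hV
  obtain ⟨U, hU⟩ : ∃ U : Matrix.SpecialLinearGroup (Fin 2) F,
      U = uu (-(G' : Matrix (Fin 2) (Fin 2) F) 0 0 / (G' : Matrix (Fin 2) (Fin 2) F) 1 0) := ⟨_, rfl⟩
  obtain ⟨G'', hG''⟩ : ∃ G'' : Matrix.SpecialLinearGroup (Fin 2) F, G'' = U * G' * U⁻¹ := ⟨_, rfl⟩
  have h00 : (G'' : Matrix (Fin 2) (Fin 2) F) 0 0 = 0 := by
    rw [hG'', conj_coe, hU]
    simp only [uu, Matrix.mul_apply, Fin.sum_univ_two]
    simp
    field_simp
    ring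
  have h10 : (G'' : Matrix (Fin 2) (Fin 2) F) 1 0 ≠ 0 := by
    rw [hG'', conj_coe, hU]
    simp only [uu, Matrix.mul_apply, Fin.sum_univ_two]
    simpa using hV
  have htr'' : Matrix.trace (G'' : Matrix (Fin 2) (Fin 2) F) = Matrix.trace (G : Matrix (Fin 2) (Fin 2) F) := by
    rw [hG'', Cfsg.Agent.Lib.Helper47.trace_conj, hG', Cfsg.Agent.Lib.Helper47.trace_conj]
  have h11 : (G'' : Matrix (Fin 2) (Fin 2) F) 1 1 = Matrix.trace (G : Matrix (Fin 2) (Fin 2) F) := by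
    rw [← htr'', Matrix.trace_fin_two, h00, zero_add]
  obtain ⟨Y, hY1, hY2⟩ := step_D_of_conic (Matrix.trace (X : Matrix (Fin 2) (Fin 2) F)) G'' h00 h10
    (by rw [h11]; exact hconic)
  obtain ⟨u, v, huv⟩ := claim1 Y (Y⁻¹ * G'') hY1 hY2
  rw [mul_inv_cancel_left] at huv
  have hGG : (G : Matrix.ProjectiveSpecialLinearGroup (Fin 2) F) =
      ((U * V)⁻¹ : Matrix.SpecialLinearGroup (Fin 2) F) * (G'' : Matrix.ProjectiveSpecialLinearGroup (Fin 2) F) *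
        (((U * V)⁻¹ : Matrix.SpecialLinearGroup (Fin 2) F) : Matrix.ProjectiveSpecialLinearGroup (Fin 2) F)⁻¹ := by
    rw [← QuotientGroup.mk_inv, ← QuotientGroup.mk_mul, ← QuotientGroup.mk_mul]
    congr 1
    rw [hG'', hG']
    group
  rw [hGG]
  exact claim2 _ _ ⟨u, v, huv⟩

end

end Cfsg.Agent.Lib.Helper47
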