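import Mathlib

set_option autoImplicit false

namespace Cfsg.Agent.Lib.Helper47

open scoped Pointwise

section
variable {G : Type*} [Group G]

/-- In a finite group, a subgroup of index prime to `p` contains a Sylow `p`-subgroup. -/
theorem exists_sylow_le_of_not_dvd_index {p : ℕ} [Fact p.Prime] [Finite G]
    (E : Subgroup G) (hE : ¬ p ∣ E.index) : ∃ Q : Sylow p G, (Q : Subgroup G) ≤ E := by
  obtain ⟨P⟩ : Nonempty (Sylow p E) := inferInstance
  obtain ⟨Q, hQ⟩ := P.exists_comap_subtype_eq
  refine ⟨Q, ?_⟩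
  have hcardP : Nat.card (P : Subgroup E) = p ^ (Nat.card E).factorization p :=
    P.card_eq_multiplicity
  have hcardQ : Nat.card (Q : Subgroup G) = p ^ (Nat.card G).factorization p :=
    Q.card_eq_multiplicity
  have hfac : (Nat.card G).factorization p = (Nat.card E).factorization p := by
    have h1 : Nat.card E * E.index = Nat.card G := E.card_mul_index
    have hE0 : Nat.card E ≠ 0 := Nat.card_pos.ne'
    have hi0 : E.index ≠ 0 := by
      intro h0
      rw [h0] at hE
      exact hE (dvd_zero p)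
    rw [← h1, Nat.factorization_mul hE0 hi0]
    have : (E.index).factorization p = 0 := Nat.factorization_eq_zero_of_not_dvd hE
    simp [this]
  have h2 : Nat.card ((Q : Subgroup G).subgroupOf E) = Nat.card (Q : Subgroup G) := by
    have : ((Q : Subgroup G).subgroupOf E) = (P : Subgroup E) := by
      rw [← hQ]
      rfl
    rw [this, hcardP, hcardQ, hfac]
  have h3 : Nat.card ((Q : Subgroup G).subgroupOf E) =
      Nat.card ((Q : Subgroup G) ⊓ E : Subgroup G) := by
    rw [← Subgroup.subgroupOf_map_subtype, Subgroup.card_subtype]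
  have h4 : ((Q : Subgroup G) ⊓ E : Subgroup G) = (Q : Subgroup G) := by
    apply Subgroup.eq_of_le_of_card_ge inf_le_left
    rw [← h3, h2]
  rw [← h4]
  exact inf_le_right

/-- the centralizer of the image under an isomorphism -/
theorem centralizer_map_equiv {G' : Type*} [Group G'] (H : Subgroup G) (f : G ≃* G') :
    Subgroup.centralizer ((H.map f.toMonoidHom : Subgroup G') : Set G') =
      (Subgroup.centralizer (H : Set G)).map f.toMonoidHom := by
  ext x
  rw [Subgroup.mem_map_equiv, Subgroup.mem_centralizer_iff, Subgroup.mem_centralizer_iff]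
  constructor
  · intro h y hy
    have := h (f y) (Subgroup.mem_map_of_mem _ hy)
    apply f.injective
    rw [map_mul, map_mul, MulEquiv.apply_symm_apply]
    exact this
  · intro h y hy
    obtain ⟨z, hz, rfl⟩ := hy
    have := h z hz
    have e := congrArg f this
    rw [map_mul, map_mul, MulEquiv.apply_symm_apply] at e
    exact e

/-- key abstract statement: Sylow subgroups inside an abelian "torus" -/
theorem sylow_centralizer_normalizer_of_le [Finite G] {ℓ : ℕ} [Fact ℓ.Prime] (T : Subgroup G)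
    (hTcomm : ∀ a ∈ T, ∀ b ∈ T, a * b = b * a)
    (hℓ : ℓ ∣ Nat.card T)
    (hcent : ∀ t ∈ T, t ≠ 1 → (∃ k, orderOf t = ℓ ^ k) →
      Subgroup.centralizer ({t} : Set G) = T)
    (P : Sylow ℓ G) (hPT : (P : Subgroup G) ≤ T) :
    Subgroup.centralizer ((P : Subgroup G) : Set G) = T ∧
      Subgroup.normalizer ((P : Subgroup G) : Set G) = Subgroup.normalizer (T : Set G) := by
  have hℓG : ℓ ∣ Nat.card G := hℓ.trans (Subgroup.card_subgroup_dvd_card T)
  have hPne : (P : Subgroup G) ≠ ⊥ := P.ne_bot_of_dvd_card hℓG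
  obtain ⟨x, hxP, hx1⟩ : ∃ x : G, x ∈ (P : Subgroup G) ∧ x ≠ 1 := by
    obtain ⟨x, hx⟩ := (Subgroup.ne_bot_iff_exists_ne_one).mp hPne
    exact ⟨x.1, x.2, fun h1 => hx (Subtype.ext h1)⟩
  have hxord : ∃ k, orderOf x = ℓ ^ k := by
    obtain ⟨k, hk⟩ := (IsPGroup.iff_orderOf.mp P.2) ⟨x, hxP⟩
    exact ⟨k, by rw [← hk, Subgroup.orderOf_mk]⟩
  have hC : Subgroup.centralizer ((P : Subgroup G) : Set G) = T := by
    apply le_antisymm
    · rw [← hcent x (hPT hxP) hx1 hxord]
      apply Subgroup.centralizer_le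
      intro y hy
      rw [Set.mem_singleton_iff] at hy
      rw [hy]; exact hxP
    · intro t ht
      rw [Subgroup.mem_centralizer_iff]
      intro y hy
      exact hTcomm y (hPT hy) t ht
  refine ⟨hC, ?_⟩
  -- description of `P` as torsion
  set m := Nat.card (P : Subgroup G) with hm
  have hPmem : ∀ t : G, t ∈ (P : Subgroup G) ↔ t ∈ T ∧ t ^ m = 1 := by
    let S : Subgroup G :=
      { carrier := {t | t ∈ T ∧ t ^ m = 1}
        mul_mem' := by
          rintro a b ⟨ha, ha'⟩ ⟨hb, hb'⟩
          refine ⟨T.mul_mem ha hb, ?_⟩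
          have hc : Commute a b := hTcomm a ha b hb
          rw [hc.mul_pow, ha', hb', one_mul]
        one_mem' := ⟨T.one_mem, one_pow _⟩
        inv_mem' := by
          rintro a ⟨ha, ha'⟩
          exact ⟨T.inv_mem ha, by rw [inv_pow, ha', inv_one]⟩ }
    have hPS : (P : Subgroup G) ≤ S := by
      intro t ht
      refine ⟨hPT ht, ?_⟩
      have h1 : (⟨t, ht⟩ : (P : Subgroup G)) ^ m = 1 := pow_card_eq_one'
      have h2 := congrArg Subtype.val h1
      rwa [Subgroup.coe_pow, Subgroup.coe_one] at h2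
    have hSp : IsPGroup ℓ S := by
      obtain ⟨n, hn⟩ := IsPGroup.iff_card.mp P.2
      intro s
      refine ⟨n, ?_⟩
      apply Subtype.ext
      have := s.2.2
      rw [Subgroup.coe_pow, Subgroup.coe_one, ← hn]
      exact this
    have hSP : S = (P : Subgroup G) := P.is_maximal' hSp hPS
    intro t
    rw [← hSP]
    rfl
  apply le_antisymm
  · -- normalizer of P normalizes the centralizer of P
    intro n hn
    have hfin : Finite ((T : Subgroup G) : Set G) := inferInstance
    apply Subgroup.mem_normalizer_fintype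
    intro t ht
    rw [SetLike.mem_coe, ← hC, Subgroup.mem_centralizer_iff]
    intro y hy
    have hy' : n⁻¹ * y * n ∈ (P : Subgroup G) := by
      have := (Subgroup.mem_normalizer_iff''.mp hn y).mp hy
      exact this
    have hcomm : (n⁻¹ * y * n) * t = t * (n⁻¹ * y * n) := hTcomm _ (hPT hy') t ht
    calc y * (n * t * n⁻¹) = n * ((n⁻¹ * y * n) * t) * n⁻¹ := by group
      _ = n * (t * (n⁻¹ * y * n)) * n⁻¹ := by rw [hcomm]
      _ = n * t * n⁻¹ * y := by group
  · intro n hn
    have hfin : Finite (((P : Subgroup G) : Subgroup G) : Set G) := inferInstance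
    apply Subgroup.mem_normalizer_fintype
    intro y hy
    rw [SetLike.mem_coe, hPmem] at hy ⊢
    refine ⟨(Subgroup.mem_normalizer_iff.mp hn y).mp hy.1, ?_⟩
    rw [conj_pow, hy.2]
    group

/-- Sylow subgroups when a "torus" of index prime to `ℓ` exists -/
theorem sylow_centralizer_normalizer [Finite G] {ℓ : ℕ} [Fact ℓ.Prime] (T : Subgroup G)
    (hTcomm : ∀ a ∈ T, ∀ b ∈ T, a * b = b * a)
    (hℓ : ℓ ∣ Nat.card T) (hidx : ¬ ℓ ∣ T.index)
    (hcent : ∀ t ∈ T, t ≠ 1 → (∃ k, orderOf t = ℓ ^ k) →
      Subgroup.centralizer ({t} : Set G) = T)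
    (P : Sylow ℓ G) :
    ∃ φ : G ≃* G, Subgroup.centralizer ((P : Subgroup G) : Set G) = T.map φ.toMonoidHom ∧
      Subgroup.normalizer ((P : Subgroup G) : Set G) =
        (Subgroup.normalizer (T : Set G)).map φ.toMonoidHom := by
  obtain ⟨P₀, hP₀⟩ := exists_sylow_le_of_not_dvd_index T hidx
  obtain ⟨hC, hN⟩ := sylow_centralizer_normalizer_of_le T hTcomm hℓ hcent P₀ hP₀
  obtain ⟨g, hg⟩ := MulAction.exists_smul_eq G P₀ P
  have hP : (P : Subgroup G) = (P₀ : Subgroup G).map (MulAut.conj g).toMonoidHom := by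
    rw [← hg, Sylow.coe_subgroup_smul]
    rfl
  refine ⟨MulAut.conj g, ?_, ?_⟩
  · rw [hP, centralizer_map_equiv, hC]
  · rw [hP, ← Subgroup.map_equiv_normalizer_eq, hN]

theorem card_map_equiv {G' : Type*} [Group G'] (H : Subgroup G) (f : G ≃* G') :
    Nat.card (H.map f.toMonoidHom) = Nat.card H :=
  Subgroup.card_map_of_injective f.injective

theorem isCyclic_map_equiv {G' : Type*} [Group G'] (H : Subgroup G) (f : G ≃* G')
    [hH : IsCyclic H] : IsCyclic (H.map f.toMonoidHom) := by
  have e : H ≃* H.map f.toMonoidHom := H.equivMapOfInjective f.toMonoidHom f.injective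
  exact isCyclic_of_surjective e e.surjective

end

end Cfsg.Agent.Lib.Helper47
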