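import Mathlib
import Cfsg.Agent.Lib.Helper45.SLCard
import Cfsg.Agent.Lib.Helper47.SylowTorus
import Cfsg.Agent.Lib.Helper47.MonomialCount
import Cfsg.Agent.Lib.Helper47.NonSplitConj

set_option autoImplicit false

namespace Cfsg.Agent.Lib.Helper47

open Matrix

section general
variable {G : Type*} [Group G]

theorem eq_one_of_mul_self_of_odd_prime_pow {ℓ : ℕ} (hℓ : ℓ.Prime) (hℓ2 : ℓ ≠ 2) {t : G}
    (htt : t * t = 1) (hord : ∃ k, orderOf t = ℓ ^ k) : t = 1 := by
  obtain ⟨k, hk⟩ := hord
  have h2 : orderOf t ∣ 2 := orderOf_dvd_of_pow_eq_one (by rw [pow_two]; exact htt)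
  rcases Nat.eq_zero_or_pos k with h0 | hpos
  · rw [h0, pow_zero] at hk
    exact orderOf_eq_one_iff.mp hk
  · exfalso
    have : ℓ ∣ 2 := by
      rw [hk] at h2
      exact (dvd_pow_self ℓ hpos.ne').trans h2
    exact hℓ2 ((Nat.prime_dvd_prime_iff_eq hℓ Nat.prime_two).mp this)

end general

section
variable {F : Type*} [Field F]

/-- the torus as the image of the units -/
def diagHom (F : Type*) [Field F] : Fˣ →* torus F where
  toFun a := ⟨diagSL a, (isDiag_iff _).mpr ⟨a, rfl⟩⟩
  map_one' := by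
    apply Subtype.ext
    apply Matrix.SpecialLinearGroup.ext
    intro i j
    change (diagSL (1 : Fˣ) : Matrix (Fin 2) (Fin 2) F) i j = (1 : Matrix (Fin 2) (Fin 2) F) i j
    rw [diagSL_coe]
    fin_cases i <;> fin_cases j <;> simp
  map_mul' a b := by
    apply Subtype.ext
    exact (diagSL_mul_diagSL a b).symm

theorem diagHom_bijective : Function.Bijective (diagHom F) := by
  constructor
  · intro a b h
    exact diagSL_injective (congrArg Subtype.val h)
  · rintro ⟨g, hg⟩
    obtain ⟨a, rfl⟩ := (isDiag_iff g).mp hg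
    exact ⟨a, rfl⟩

theorem card_torus [Fintype F] : Nat.card (torus F) = Fintype.card F - 1 := by
  classical
  rw [← Nat.card_congr (Equiv.ofBijective _ (diagHom_bijective (F := F))),
    Nat.card_eq_fintype_card, Fintype.card_units]

theorem torus_isCyclic [Finite F] : IsCyclic (torus F) :=
  isCyclic_of_surjective (diagHom F) diagHom_bijective.2

theorem torus_comm : ∀ a ∈ torus F, ∀ b ∈ torus F, a * b = b * a := by
  intro a ha b hb
  obtain ⟨x, rfl⟩ := (isDiag_iff a).mp ha
  obtain ⟨y, rfl⟩ := (isDiag_iff b).mp hb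
  exact commute_diag_diag x y

theorem centralizer_torus_elt {ℓ : ℕ} (hℓ : ℓ.Prime) (hℓ2 : ℓ ≠ 2)
    (t : Matrix.SpecialLinearGroup (Fin 2) F) (ht : t ∈ torus F) (ht1 : t ≠ 1)
    (hord : ∃ k, orderOf t = ℓ ^ k) :
    Subgroup.centralizer ({t} : Set (Matrix.SpecialLinearGroup (Fin 2) F)) = torus F ∧
      (t : Matrix (Fin 2) (Fin 2) F) 0 0 ^ 2 ≠ 1 := by
  have hsq : (t : Matrix (Fin 2) (Fin 2) F) 0 0 ^ 2 ≠ 1 := by
    intro h
    apply ht1
    apply eq_one_of_mul_self_of_odd_prime_pow hℓ hℓ2 _ hord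
    obtain ⟨a, rfl⟩ := (isDiag_iff t).mp ht
    rw [diagSL_mul_diagSL]
    rw [diagSL_coe] at h
    simp only [of_apply, cons_val', cons_val_zero, cons_val_fin_one] at h
    have : a * a = 1 := by
      apply Units.ext
      rw [Units.val_mul, Units.val_one, ← pow_two]
      exact h
    rw [this]
    apply Matrix.SpecialLinearGroup.ext
    intro i j
    rw [diagSL_coe]
    fin_cases i <;> fin_cases j <;> simp
  exact ⟨centralizer_diag_eq_torus t ht.1 ht.2 hsq, hsq⟩

end

section finite
variable {F : Type*} [Field F] [Fintype F]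

theorem card_SL2' : Nat.card (Matrix.SpecialLinearGroup (Fin 2) F) =
    Fintype.card F * (Fintype.card F - 1) * (Fintype.card F + 1) := by
  rw [Cfsg.Agent.Lib.Helper45.card_SL2]
  have hq : 1 ≤ Fintype.card F := Fintype.card_pos
  obtain ⟨n, hn⟩ : ∃ n, Fintype.card F = n + 1 := ⟨Fintype.card F - 1, by omega⟩
  rw [hn]
  have : (n + 1) ^ 2 - 1 = n * (n + 2) := by
    have : (n + 1) ^ 2 = n * (n + 2) + 1 := by ring
    omega
  rw [this]
  simp only [Nat.add_sub_cancel]
  ring

theorem index_torus : (torus F).index = Fintype.card F * (Fintype.card F + 1) := by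
  have h := (torus F).card_mul_index
  rw [card_torus, card_SL2'] at h
  have hq : 2 ≤ Fintype.card F := Fintype.one_lt_card
  have hpos : 0 < Fintype.card F - 1 := by omega
  have : (Fintype.card F - 1) * (torus F).index =
      (Fintype.card F - 1) * (Fintype.card F * (Fintype.card F + 1)) := by
    rw [h]; ring
  exact Nat.eq_of_mul_eq_mul_left hpos this

theorem index_nsTorus {δ : F} (hodd : Fintype.card F % 2 = 1) (hδ : ¬ IsSquare δ) :
    (nsTorus δ).index = Fintype.card F * (Fintype.card F - 1) := by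
  have h := (nsTorus δ).card_mul_index
  rw [card_nsTorus hodd hδ, card_SL2'] at h
  have hpos : 0 < Fintype.card F + 1 := by omega
  have : (Fintype.card F + 1) * (nsTorus δ).index =
      (Fintype.card F + 1) * (Fintype.card F * (Fintype.card F - 1)) := by
    rw [h]; ring
  exact Nat.eq_of_mul_eq_mul_left hpos this

/-- Sylow `ℓ`-subgroups of `SL2(q)` for odd `ℓ` dividing `q - 1` -/
theorem sylow_split (hodd : Fintype.card F % 2 = 1) {ℓ : ℕ} [Fact ℓ.Prime] (hℓ2 : ℓ ≠ 2)
    (hdvd : ℓ ∣ Fintype.card F - 1) (P : Sylow ℓ (Matrix.SpecialLinearGroup (Fin 2) F)) :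
    Nat.card (Subgroup.centralizer ((P : Subgroup (Matrix.SpecialLinearGroup (Fin 2) F)) :
      Set (Matrix.SpecialLinearGroup (Fin 2) F))) = Fintype.card F - 1 ∧
    IsCyclic (Subgroup.centralizer ((P : Subgroup (Matrix.SpecialLinearGroup (Fin 2) F)) :
      Set (Matrix.SpecialLinearGroup (Fin 2) F))) ∧
    Nat.card (Subgroup.normalizer ((P : Subgroup (Matrix.SpecialLinearGroup (Fin 2) F)) :
      Set (Matrix.SpecialLinearGroup (Fin 2) F))) = 2 * (Fintype.card F - 1) := by
  classical
  have hℓ : ℓ.Prime := Fact.out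
  have hq : 2 ≤ Fintype.card F := Fintype.one_lt_card
  have hidx : ¬ ℓ ∣ (torus F).index := by
    rw [index_torus]
    intro h
    rcases (Nat.Prime.dvd_mul hℓ).mp h with h | h
    · have : ℓ ∣ 1 := by
        have := Nat.dvd_sub h hdvd
        have e : Fintype.card F - (Fintype.card F - 1) = 1 := by omega
        rwa [e] at this
      exact hℓ.one_lt.ne' (Nat.dvd_one.mp this)
    · have : ℓ ∣ 2 := by
        have := Nat.dvd_sub h hdvd
        have e : Fintype.card F + 1 - (Fintype.card F - 1) = 2 := by omega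
        rwa [e] at this
      exact hℓ2 ((Nat.prime_dvd_prime_iff_eq hℓ Nat.prime_two).mp this)
  have hℓT : ℓ ∣ Nat.card (torus F) := by rw [card_torus]; exact hdvd
  obtain ⟨φ, hC, hN⟩ := sylow_centralizer_normalizer (torus F) torus_comm hℓT hidx
    (fun t ht ht1 hord => (centralizer_torus_elt hℓ hℓ2 t ht ht1 hord).1) P
  -- an element of order ℓ in the torus
  obtain ⟨x, hx⟩ := exists_prime_orderOf_dvd_card' (G := torus F) ℓ hℓT
  have hx1 : (x : Matrix.SpecialLinearGroup (Fin 2) F) ≠ 1 := by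
    intro h
    have : x = 1 := Subtype.ext h
    rw [this, orderOf_one] at hx
    exact hℓ.one_lt.ne hx
  have hxord : ∃ k, orderOf (x : Matrix.SpecialLinearGroup (Fin 2) F) = ℓ ^ k :=
    ⟨1, by rw [Subgroup.orderOf_coe, hx, pow_one]⟩
  have hsq := (centralizer_torus_elt hℓ hℓ2 x.1 x.2 hx1 hxord).2
  have hNT := normalizer_torus_eq x.1 x.2.1 x.2.2 hsq
  refine ⟨?_, ?_, ?_⟩
  · rw [hC, card_map_equiv, card_torus]
  · rw [hC]
    have := torus_isCyclic (F := F)
    exact isCyclic_map_equiv _ _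
  · rw [hN, card_map_equiv, hNT, card_monomial]

/-- Sylow `ℓ`-subgroups of `SL2(q)` for odd `ℓ` dividing `q + 1` -/
theorem sylow_nonsplit (hodd : Fintype.card F % 2 = 1) {ℓ : ℕ} [Fact ℓ.Prime] (hℓ2 : ℓ ≠ 2)
    (hdvd : ℓ ∣ Fintype.card F + 1) (P : Sylow ℓ (Matrix.SpecialLinearGroup (Fin 2) F)) :
    Nat.card (Subgroup.centralizer ((P : Subgroup (Matrix.SpecialLinearGroup (Fin 2) F)) :
      Set (Matrix.SpecialLinearGroup (Fin 2) F))) = Fintype.card F + 1 ∧
    IsCyclic (Subgroup.centralizer ((P : Subgroup (Matrix.SpecialLinearGroup (Fin 2) F)) :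
      Set (Matrix.SpecialLinearGroup (Fin 2) F))) ∧
    Nat.card (Subgroup.normalizer ((P : Subgroup (Matrix.SpecialLinearGroup (Fin 2) F)) :
      Set (Matrix.SpecialLinearGroup (Fin 2) F))) = 2 * (Fintype.card F + 1) := by
  classical
  have hℓ : ℓ.Prime := Fact.out
  have hq : 2 ≤ Fintype.card F := Fintype.one_lt_card
  have h2 : (2 : F) ≠ 0 := two_ne_zero_of_odd_card hodd
  have hchar : ringChar F ≠ 2 := fun h => by
    have := FiniteField.even_card_of_char_two h
    omega
  obtain ⟨δ, hδ⟩ := FiniteField.exists_nonsquare hchar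
  have hδ0 := ns_delta_ne_zero hδ
  have hidx : ¬ ℓ ∣ (nsTorus δ).index := by
    rw [index_nsTorus hodd hδ]
    intro h
    rcases (Nat.Prime.dvd_mul hℓ).mp h with h | h
    · have : ℓ ∣ 1 := by
        have := Nat.dvd_sub hdvd h
        have e : Fintype.card F + 1 - Fintype.card F = 1 := by omega
        rwa [e] at this
      exact hℓ.one_lt.ne' (Nat.dvd_one.mp this)
    · have : ℓ ∣ 2 := by
        have := Nat.dvd_sub hdvd h
        have e : Fintype.card F + 1 - (Fintype.card F - 1) = 2 := by omega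
        rwa [e] at this
      exact hℓ2 ((Nat.prime_dvd_prime_iff_eq hℓ Nat.prime_two).mp this)
  have hℓT : ℓ ∣ Nat.card (nsTorus δ) := by rw [card_nsTorus hodd hδ]; exact hdvd
  obtain ⟨φ, hC, hN⟩ := sylow_centralizer_normalizer (nsTorus δ)
    (fun a ha b hb => IsNs.comm ha hb) hℓT hidx
    (fun t ht ht1 hord => by
      apply centralizer_ns_eq ht
      intro hy
      apply ht1
      have htt : t * t = 1 := by
        rcases IsNs.eq_of_zero ht hy with h | h
        · have : t = 1 := Subtype.ext (by rw [h]; rfl)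
          rw [this, mul_one]
        · have : t = negOne := by
            apply Subtype.ext
            rw [h]
            ext i j
            fin_cases i <;> fin_cases j <;> simp [negOne]
          rw [this, negOne_mul_self]
      exact eq_one_of_mul_self_of_odd_prime_pow hℓ hℓ2 htt hord) P
  obtain ⟨hN1, -⟩ := card_normalizer_nsTorus hodd hδ
  refine ⟨?_, ?_, ?_⟩
  · rw [hC, card_map_equiv, card_nsTorus hodd hδ]
  · rw [hC]
    have := nsTorus_isCyclic hδ
    exact isCyclic_map_equiv _ _
  · rw [hN, card_map_equiv, hN1]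

end finite

end Cfsg.Agent.Lib.Helper47
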