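import Mathlib
import Cfsg.Prelude.Def_Characters
import Cfsg.Agent.Lib.Helper47.BorelCount
import Cfsg.Agent.Lib.Helper47.SylowSL2

set_option autoImplicit false

namespace Cfsg.Agent.Lib.Helper47

open Matrix

section
variable {F : Type*} [Field F]

/-- the linear character `b ↦ α (b₀₀)` of the Borel subgroup, extended by zero -/
noncomputable def thetaExt [DecidableEq F] (α : MulChar F ℂ)
    (g : Matrix.SpecialLinearGroup (Fin 2) F) : ℂ :=
  if g.1 1 0 = 0 then α (g.1 0 0) else 0

theorem extendByZero_borel [DecidableEq F] (α : MulChar F ℂ) :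
    Cfsg.extendByZero (borel F)
      (fun b => α (((b : Matrix.SpecialLinearGroup (Fin 2) F) : Matrix (Fin 2) (Fin 2) F) 0 0)) =
      thetaExt α := by
  funext g
  unfold Cfsg.extendByZero thetaExt
  by_cases hg : g ∈ borel F
  · have : g = ((⟨g, hg⟩ : borel F) : Matrix.SpecialLinearGroup (Fin 2) F) := rfl
    rw [this, Function.Injective.extend_apply Subtype.val_injective]
    rw [if_pos ((mem_borel_iff _).mp hg)]
  · rw [Function.extend_apply']
    · rw [if_neg (fun h => hg ((mem_borel_iff _).mpr h))]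
      rfl
    · rintro ⟨a, rfl⟩
      exact hg a.2

/-- lower left entry of a conjugate -/
theorem conj_inv_10 (x g : Matrix.SpecialLinearGroup (Fin 2) F) :
    (x⁻¹ * g * x).1 1 0 = -(x.1 1 0 * x.1 0 0 * g.1 0 0) + x.1 0 0 ^ 2 * g.1 1 0 -
      x.1 1 0 ^ 2 * g.1 0 1 + x.1 0 0 * x.1 1 0 * g.1 1 1 := by
  simp only [sl2_mul_apply, sl2_inv_10, sl2_inv_11]
  ring

/-- upper left entry of a conjugate -/
theorem conj_inv_00 (x g : Matrix.SpecialLinearGroup (Fin 2) F) :
    (x⁻¹ * g * x).1 0 0 = (x.1 1 1 * g.1 0 0 - x.1 0 1 * g.1 1 0) * x.1 0 0 +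
      (x.1 1 1 * g.1 0 1 - x.1 0 1 * g.1 1 1) * x.1 1 0 := by
  simp only [sl2_mul_apply, sl2_inv_00, sl2_inv_01]
  ring

/-- if a conjugate of `g` is upper triangular, then `g` has an eigenvector -/
theorem exists_eigenvector_of_conj (x g : Matrix.SpecialLinearGroup (Fin 2) F)
    (h : (x⁻¹ * g * x).1 1 0 = 0) :
    ∃ (c : F) (v : Fin 2 → F), v ≠ 0 ∧ g.1.mulVec v = c • v := by
  set y := x⁻¹ * g * x with hy
  have hgx : g * x = x * y := by rw [hy]; group
  refine ⟨y.1 0 0, fun i => x.1 i 0, ?_, ?_⟩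
  · intro hv
    have h0 : x.1 0 0 = 0 := congrFun hv 0
    have h1 : x.1 1 0 = 0 := congrFun hv 1
    have hdet := det_eq x
    rw [h0, h1] at hdet
    simp at hdet
  · funext i
    have := congrArg (fun M : Matrix.SpecialLinearGroup (Fin 2) F => M.1 i 0) hgx
    simp only [sl2_mul_apply, h, mul_zero, add_zero] at this
    rw [Matrix.mulVec, dotProduct, Fin.sum_univ_two, Pi.smul_apply, smul_eq_mul, this, mul_comm]

end

section finite
variable {F : Type*} [Field F] [Fintype F] [DecidableEq F]

theorem card_filter_10 :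
    (Finset.univ.filter (fun x : Matrix.SpecialLinearGroup (Fin 2) F => x.1 1 0 = 0)).card =
      (Fintype.card F - 1) * Fintype.card F := by
  have e : {x : Matrix.SpecialLinearGroup (Fin 2) F // x.1 1 0 = 0} ≃ borel F :=
    Equiv.subtypeEquivRight (fun x => (mem_borel_iff x).symm)
  rw [← card_borel, ← Nat.card_congr e, Nat.card_eq_fintype_card, Fintype.card_subtype]

theorem card_filter_00 :
    (Finset.univ.filter (fun x : Matrix.SpecialLinearGroup (Fin 2) F => x.1 0 0 = 0)).card =
      (Fintype.card F - 1) * Fintype.card F := by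
  rw [← card_filter_10]
  apply Finset.card_bij (fun x _ => ww * x)
  · intro x hx
    simp only [Finset.mem_filter, Finset.mem_univ, true_and] at hx ⊢
    rw [sl2_mul_apply, hx]
    simp [ww]
  · intro x _ y _ h
    exact mul_left_cancel h
  · intro y hy
    simp only [Finset.mem_filter, Finset.mem_univ, true_and] at hy
    refine ⟨ww⁻¹ * y, ?_, by group⟩
    simp only [Finset.mem_filter, Finset.mem_univ, true_and]
    rw [sl2_mul_apply, sl2_inv_00, sl2_inv_01, hy]
    simp [ww]

theorem indFun_borel (α : MulChar F ℂ) (g : Matrix.SpecialLinearGroup (Fin 2) F) :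
    Cfsg.indFun (borel F)
      (fun b => α (((b : Matrix.SpecialLinearGroup (Fin 2) F) : Matrix (Fin 2) (Fin 2) F) 0 0)) g =
      (((Fintype.card F - 1) * Fintype.card F : ℕ) : ℂ)⁻¹ *
        ∑ x : Matrix.SpecialLinearGroup (Fin 2) F, thetaExt α (x⁻¹ * g * x) := by
  unfold Cfsg.indFun
  rw [extendByZero_borel, card_borel]

end finite

end Cfsg.Agent.Lib.Helper47
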