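import Mathlib
import Cfsg.Agent.Lib.Helper47.PrincipalSeries

set_option autoImplicit false

namespace Cfsg.Agent.Lib.Helper47

open Matrix
open scoped ComplexConjugate

section general
variable {G : Type*} [Group G] [Fintype G]

/-- the basic identity behind the Mackey formula -/
theorem sum_conj_sums (φ ψ : G → ℂ) :
    ∑ g : G, (∑ x : G, φ (x⁻¹ * g * x)) * conj (∑ y : G, ψ (y⁻¹ * g * y)) =
      (Fintype.card G : ℂ) * ∑ z : G, ∑ h : G, φ h * conj (ψ (z⁻¹ * h * z)) := by
  simp_rw [map_sum, Finset.sum_mul_sum]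
  rw [Finset.sum_comm]
  have key : ∀ x : G, ∑ g : G, ∑ y : G, φ (x⁻¹ * g * x) * conj (ψ (y⁻¹ * g * y)) =
      ∑ z : G, ∑ h : G, φ h * conj (ψ (z⁻¹ * h * z)) := by
    intro x
    rw [Finset.sum_comm]
    rw [← Equiv.sum_comp (Equiv.mulLeft x)]
    apply Finset.sum_congr rfl
    intro z _
    rw [← Equiv.sum_comp (MulAut.conj x).toEquiv]
    apply Finset.sum_congr rfl
    intro h _
    simp only [Equiv.coe_mulLeft, MulEquiv.toEquiv_eq_coe, EquivLike.coe_coe, MulAut.conj_apply]
    congr 2
    · group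
    · congr 1
      group
  simp_rw [key]
  rw [Finset.sum_const, Finset.card_univ, nsmul_eq_mul]

end general

section
variable {F : Type*} [Field F] [Fintype F] [DecidableEq F]

/-- sums against `thetaExt` are sums over the Borel subgroup -/
theorem sum_thetaExt_mul (α : MulChar F ℂ) (X : Matrix.SpecialLinearGroup (Fin 2) F → ℂ) :
    ∑ h : Matrix.SpecialLinearGroup (Fin 2) F, thetaExt α h * X h =
      ∑ p : Fˣ × F, α (p.1 : F) * X (borelSL p.1 p.2) := by
  have h1 : ∑ h : Matrix.SpecialLinearGroup (Fin 2) F, thetaExt α h * X h =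
      ∑ h ∈ Finset.univ.filter (fun h : Matrix.SpecialLinearGroup (Fin 2) F => h.1 1 0 = 0),
        α (h.1 0 0) * X h := by
    rw [Finset.sum_filter]
    apply Finset.sum_congr rfl
    intro h _
    unfold thetaExt
    split_ifs <;> simp
  rw [h1]
  symm
  apply Finset.sum_bij (fun p _ => borelSL p.1 p.2)
  · intro p _
    simp only [Finset.mem_filter, Finset.mem_univ, true_and]
    exact (mem_borel_iff _).mp (borelSL_mem p.1 p.2)
  · intro p _ p' _ h
    have := (borelEquiv F).injective (a₁ := p) (a₂ := p') (Subtype.ext h)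
    exact this
  · intro h hh
    simp only [Finset.mem_filter, Finset.mem_univ, true_and] at hh
    obtain ⟨p, hp⟩ := (borelEquiv F).surjective ⟨h, (mem_borel_iff h).mpr hh⟩
    exact ⟨p, Finset.mem_univ _, congrArg Subtype.val hp⟩
  · intro p _
    rfl

omit [Fintype F] [DecidableEq F] in
theorem borelSL_00 (a : Fˣ) (b : F) : (borelSL a b).1 0 0 = (a : F) := rfl
omit [Fintype F] [DecidableEq F] in
theorem borelSL_01 (a : Fˣ) (b : F) : (borelSL a b).1 0 1 = b := rfl
omit [Fintype F] [DecidableEq F] in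
theorem borelSL_10 (a : Fˣ) (b : F) : (borelSL a b).1 1 0 = 0 := rfl
omit [Fintype F] [DecidableEq F] in
theorem borelSL_11 (a : Fˣ) (b : F) : (borelSL a b).1 1 1 = (a : F)⁻¹ := rfl

/-- the inner sum for `z` in the Borel subgroup -/
theorem inner_sum_borel (α β : MulChar F ℂ) (z : Matrix.SpecialLinearGroup (Fin 2) F)
    (hz : z.1 1 0 = 0) :
    ∑ h : Matrix.SpecialLinearGroup (Fin 2) F, thetaExt α h * conj (thetaExt β (z⁻¹ * h * z)) =
      (Fintype.card F : ℂ) * ∑ a : Fˣ, α (a : F) * conj (β (a : F)) := by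
  rw [sum_thetaExt_mul, Fintype.sum_prod_type]
  have hdz := det_eq z
  rw [hz, mul_zero, sub_zero] at hdz
  have key : ∀ (a : Fˣ) (b : F), thetaExt β (z⁻¹ * borelSL a b * z) = β (a : F) := by
    intro a b
    unfold thetaExt
    rw [if_pos, conj_inv_00, hz, borelSL_10, borelSL_00]
    · congr 1
      linear_combination (a : F) * hdz
    · rw [conj_inv_10, hz, borelSL_10]; ring
  simp only [key, Finset.sum_const, Finset.card_univ, nsmul_eq_mul]
  rw [Finset.mul_sum]

/-- the inner sum for `z` outside the Borel subgroup -/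
theorem inner_sum_not_borel (α β : MulChar F ℂ) (z : Matrix.SpecialLinearGroup (Fin 2) F)
    (hz : z.1 1 0 ≠ 0) :
    ∑ h : Matrix.SpecialLinearGroup (Fin 2) F, thetaExt α h * conj (thetaExt β (z⁻¹ * h * z)) =
      ∑ a : Fˣ, α (a : F) * conj (β ((a : F)⁻¹)) := by
  rw [sum_thetaExt_mul, Fintype.sum_prod_type]
  have hdz := det_eq z
  apply Finset.sum_congr rfl
  intro a _
  have key : ∀ b : F, thetaExt β (z⁻¹ * borelSL a b * z) =
      if b = z.1 0 0 * ((a : F)⁻¹ - (a : F)) / z.1 1 0 then β ((a : F)⁻¹) else 0 := by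
    intro b
    unfold thetaExt
    have e10 : (z⁻¹ * borelSL a b * z).1 1 0 =
        z.1 1 0 * (z.1 0 0 * ((a : F)⁻¹ - (a : F)) - z.1 1 0 * b) := by
      rw [conj_inv_10, borelSL_00, borelSL_01, borelSL_10, borelSL_11]; ring
    by_cases hb : b = z.1 0 0 * ((a : F)⁻¹ - (a : F)) / z.1 1 0
    · have hb' : z.1 1 0 * b = z.1 0 0 * ((a : F)⁻¹ - (a : F)) := by
        rw [hb]; field_simp
      rw [if_pos hb, if_pos (by rw [e10, hb']; ring), conj_inv_00, borelSL_00, borelSL_01,
        borelSL_10, borelSL_11]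
      congr 1
      linear_combination (a : F)⁻¹ * hdz + z.1 1 1 * hb'
    · rw [if_neg hb, if_neg]
      rw [e10]
      apply mul_ne_zero hz
      intro h
      apply hb
      rw [eq_div_iff hz]
      linear_combination -h
  simp only [key]
  rw [← Finset.mul_sum]
  congr 1
  simp only [apply_ite conj, map_zero]
  rw [Finset.sum_ite_eq' Finset.univ]
  simp

/-- orthogonality of multiplicative characters, summed over the units -/
theorem sum_units_mulChar (χ : MulChar F ℂ) [Decidable (χ = 1)] :
    ∑ a : Fˣ, χ (a : F) = if χ = 1 then ((Fintype.card F : ℂ) - 1) else 0 := by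
  classical
  let f : Fˣ →* ℂ := (χ.toMonoidHom).comp (Units.coeHom F)
  have hf : (f = 1) ↔ χ = 1 := by
    constructor
    · intro h
      apply MulChar.ext
      intro a
      have := DFunLike.congr_fun h a
      simpa [f] using this
    · intro h
      ext a
      simp [f, h]
  have := sum_hom_units f
  simp only [hf] at this
  have e : ∑ a : Fˣ, χ (a : F) = ∑ a : Fˣ, f a := rfl
  rw [e, this]
  split_ifs
  · rw [Fintype.card_units, Nat.cast_sub Fintype.card_pos, Nat.cast_one]
  · exact Nat.cast_zero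

end

end Cfsg.Agent.Lib.Helper47
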