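import Cfsg.Agent.Lib.Helper47.McKayCount

set_option autoImplicit false

/-!
# A generalized quaternion group has exactly four irreducible characters of odd degree
-/

namespace Cfsg.Agent.Lib.Helper47

open Cfsg QuaternionGroup

section
variable {n : ℕ}

theorem quat_two_mul_eq_zero : ((n : ZMod (2 * n)) + (n : ZMod (2 * n))) = 0 := by
  have : ((2 * n : ℕ) : ZMod (2 * n)) = 0 := ZMod.natCast_self _
  rw [← this]
  push_cast
  ring

theorem quat_a_inv (i : ZMod (2 * n)) : (a i : QuaternionGroup n)⁻¹ = a (-i) := by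
  apply inv_eq_of_mul_eq_one_right
  rw [a_mul_a, add_neg_cancel, a_zero]

theorem quat_xa_inv (i : ZMod (2 * n)) : (xa i : QuaternionGroup n)⁻¹ = xa ((n : ZMod (2 * n)) + i) := by
  apply inv_eq_of_mul_eq_one_right
  rw [xa_mul_xa]
  have : (n : ZMod (2 * n)) + (n + i) - i = 0 := by
    have h := quat_two_mul_eq_zero (n := n)
    linear_combination h
  rw [this, a_zero]

/-- the cyclic subgroup of index two -/
def quatRot (n : ℕ) : Subgroup (QuaternionGroup n) where
  carrier := Set.range a
  mul_mem' := by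
    rintro _ _ ⟨i, rfl⟩ ⟨j, rfl⟩
    exact ⟨i + j, (a_mul_a i j).symm⟩
  one_mem' := ⟨0, a_zero⟩
  inv_mem' := by
    rintro _ ⟨i, rfl⟩
    exact ⟨-i, (quat_a_inv i).symm⟩

theorem mem_quatRot_iff (g : QuaternionGroup n) : g ∈ quatRot n ↔ ∃ i, a i = g := Iff.rfl

theorem xa_not_mem_quatRot (i : ZMod (2 * n)) : (xa i : QuaternionGroup n) ∉ quatRot n := by
  rintro ⟨j, hj⟩
  cases hj

theorem card_quatRot [NeZero n] : Nat.card (quatRot n) = 2 * n := by
  have e : ZMod (2 * n) ≃ quatRot n :=
    { toFun := fun i => ⟨a i, ⟨i, rfl⟩⟩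
      invFun := fun g => match g.1 with
        | a i => i
        | xa _ => 0
      left_inv := fun i => rfl
      right_inv := by
        rintro ⟨g, i, rfl⟩
        rfl }
  rw [← Nat.card_congr e, Nat.card_eq_fintype_card, ZMod.card]

theorem quat_hall [NeZero n] (i : ZMod (2 * n)) (h : i + i = 0) : i = 0 ∨ i = n := by
  have hn : n ≠ 0 := NeZero.ne n
  have hi : ((i.val : ℕ) : ZMod (2 * n)) = i := ZMod.natCast_zmod_val i
  have hlt : i.val < 2 * n := ZMod.val_lt i
  have h2 : ((i.val + i.val : ℕ) : ZMod (2 * n)) = 0 := by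
    push_cast
    rw [hi]
    exact h
  have h3 : 2 * n ∣ i.val + i.val := (ZMod.natCast_eq_zero_iff _ _).mp h2
  obtain ⟨k, hk⟩ := h3
  have hk2 : k < 2 := by
    by_contra hcon
    have hcon := Nat.le_of_not_lt hcon
    have : 2 * n * 2 ≤ 2 * n * k := Nat.mul_le_mul_left _ hcon
    omega
  interval_cases k
  · left
    rw [← hi]
    have : i.val = 0 := by omega
    rw [this, Nat.cast_zero]
  · right
    rw [← hi]
    have : i.val = n := by omega
    rw [this]

/-- a generalized quaternion group (dicyclic group) has exactly four irreducible characters of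
odd degree -/
theorem card_irr_odd_quaternionGroup [NeZero n] :
    Nat.card {χ : IrrCharacter (QuaternionGroup n) //
      ¬ 2 ∣ charDegree (χ : QuaternionGroup n → ℂ)} = 4 := by
  have hn : n ≠ 0 := NeZero.ne n
  have key := (card_irr_not_dvd_of_indexTwo (⊤ : Subgroup (QuaternionGroup n)) (quatRot n) le_top
    (xa 0) (Subgroup.mem_top _) (xa_not_mem_quatRot 0)
    (by
      intro g _ hg
      cases g with
      | a i => exact absurd ⟨i, rfl⟩ hg
      | xa i =>
        rw [quat_xa_inv, xa_mul_xa]
        exact ⟨_, rfl⟩)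
    (by
      rintro _ ⟨i, rfl⟩ _ ⟨j, rfl⟩
      rw [a_mul_a, a_mul_a, add_comm])
    (by
      rintro _ ⟨i, rfl⟩
      rw [quat_xa_inv, xa_mul_a, xa_mul_xa, quat_a_inv]
      congr 1
      have h := quat_two_mul_eq_zero (n := n)
      linear_combination h)
    (a n) ⟨n, rfl⟩
    (by
      intro h
      rw [one_def] at h
      have h1 : ((n : ℕ) : ZMod (2 * n)) = 0 := by
        injection h
      have h2 := (ZMod.natCast_eq_zero_iff _ _).mp h1
      have := Nat.le_of_dvd (Nat.pos_of_ne_zero hn) h2
      omega)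
    (by rw [a_mul_a, quat_two_mul_eq_zero, a_zero])
    (by
      rintro _ ⟨i, rfl⟩ h
      rw [a_mul_a, one_def] at h
      have h1 : i + i = 0 := by injection h
      rcases quat_hall i h1 with h | h
      · left; rw [h, a_zero]
      · right; rw [h])).1
  rw [← card_irr_not_dvd_congr (Subgroup.topEquiv (G := QuaternionGroup n)) 2]
  exact key

end

end Cfsg.Agent.Lib.Helper47
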