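import Mathlib
import Cfsg.Agent.Lib.Helper48.RSpDefs2

/-!
# K-RSp-P4 (keystone 228113, S2281 pack of helper48), parallel hand

`n = 2`, characteristic `2`, `|F| ≥ 4`: the additive group `X` of symmetric `2 × 2` matrices closed under the three
operations is everything.
-/

set_option autoImplicit false
set_option linter.unusedSectionVars false
set_option linter.unusedVariables false
set_option linter.unnecessarySeqFocus false

namespace Cfsg.Agent.Lib.Helper47.RSp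

open Matrix Cfsg.Agent.Lib.Helper48.RSp Cfsg.Agent.Lib.Helper18

variable {F : Type*} [Field F]

/-- the symmetric `2 × 2` matrix with coordinates `(α, β, γ)` -/
def sy (α β γ : F) : SM 0 F := !![α, β; β, γ]

theorem sy_transpose (α β γ : F) : (sy α β γ)ᵀ = sy α β γ := by
  ext i j
  fin_cases i <;> fin_cases j <;> simp [sy]

theorem sy_add (α β γ α' β' γ' : F) : sy α β γ + sy α' β' γ' = sy (α + α') (β + β') (γ + γ') := by
  ext i j
  fin_cases i <;> fin_cases j <;> simp [sy]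

theorem sy_sub (α β γ α' β' γ' : F) : sy α β γ - sy α' β' γ' = sy (α - α') (β - β') (γ - γ') := by
  ext i j
  fin_cases i <;> fin_cases j <;> simp [sy]

theorem sy_zero : sy (0 : F) 0 0 = 0 := by
  ext i j
  fin_cases i <;> fin_cases j <;> simp [sy]

theorem eq_sy (S : SM 0 F) (hS : Sᵀ = S) : S = sy (S 0 0) (S 0 1) (S 1 1) := by
  have h10 : S 1 0 = S 0 1 := by
    have := congrFun (congrFun hS 0) 1
    simpa [Matrix.transpose_apply] using this
  ext i j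
  fin_cases i <;> fin_cases j <;> simp [sy, h10]

theorem smul_E00 (l : F) : l • E00 0 F = sy l 0 0 := by
  ext i j
  fin_cases i <;> fin_cases j <;> simp [sy, E00, Matrix.single]

theorem U_sy (h2 : (2 : F) = 0) (α β γ : F) :
    Uup 0 F * sy α β γ * (Uup 0 F)ᵀ = sy (α + γ) (β + γ) γ := by
  ext i j
  fin_cases i <;> fin_cases j <;>
    simp [sy, Uup, Nup, Matrix.mul_apply, Fin.sum_univ_two, Matrix.one_apply] <;>
    linear_combination β * h2

theorem L_sy (t α : F) :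
    Lbi 0 (fun j : Fin (0 + 2) => if j = 0 then t else 1) * sy α 0 0 *
      (Lbi 0 (fun j : Fin (0 + 2) => if j = 0 then t else 1))ᵀ = sy α (α * t) (α * t ^ 2) := by
  ext i j
  fin_cases i <;> fin_cases j <;>
    simp [sy, Lbi, Matrix.mul_apply, Fin.sum_univ_two] <;> ring

theorem tau_sy (h2 : (2 : F) = 0) (t σ β a b : F) :
    tauMat t σ β * sy a b 0 * (tauMat t σ β)ᵀ =
      sy (a + (σ * β * t) ^ 2 * a) (b + (1 + σ * β * t) * (σ * β * t) * t * a) ((σ * β * t) ^ 2 * t ^ 2 * a) := by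
  ext i j
  fin_cases i <;> fin_cases j <;>
    simp [sy, tauMat, Matrix.mul_apply, Fin.sum_univ_two]
  · linear_combination (σ * β * t * a - σ * β * b * (1 + σ * β * t)) * h2
  · linear_combination (-(σ * β * t) ^ 2 * b) * h2
  · linear_combination (-(σ * β * t) ^ 2 * b) * h2
  · linear_combination ((1 - σ * β * t) * b * σ * β * t ^ 2) * h2


theorem sym_all_two {F : Type*} [Field F] (X : AddSubgroup (SM 0 F)) (t σ l : F)
    (ht : t ≠ 0) (hσ : σ ≠ 0) (hl0 : l ≠ 0)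
    (hU : ∀ S ∈ X, Uup 0 F * S * (Uup 0 F)ᵀ ∈ X)
    (hL : ∀ S ∈ X, Sᵀ = S → (∀ j, S (Fin.last 1) j = 0) →
      Lbi 0 (fun j => if j = 0 then t else 1) * S * (Lbi 0 (fun j => if j = 0 then t else 1))ᵀ ∈ X)
    (hτ : ∀ S ∈ X, Sᵀ = S → S 1 1 = 0 → ∀ S₂ ∈ X,
      tauMat t σ (S 0 1) * S₂ * (tauMat t σ (S 0 1))ᵀ ∈ X)
    (h2 : (2 : F) = 0) (hl : l • E00 0 F ∈ X)
    (hgen : ∀ x : F, x ≠ 0 → ∃ k : ℕ, x = (σ * t ^ 4 * l) ^ (2 * k + 1))
    (h4 : ∃ ρ₁ ρ₂ : F, ρ₁ ≠ 0 ∧ ρ₂ ≠ 0 ∧ ρ₁ ≠ ρ₂) :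
    ∀ S : SM 0 F, Sᵀ = S → S ∈ X := by
  -- F1': `(α,β,γ) ∈ X ⇒ (γ,γ,0) ∈ X`
  have F1 : ∀ α β γ : F, sy α β γ ∈ X → sy γ γ 0 ∈ X := by
    intro α β γ h
    have h1 := hU _ h
    rw [U_sy h2] at h1
    have h3 := X.sub_mem h1 h
    rw [sy_sub] at h3
    have e1 : α + γ - α = γ := by ring
    have e2 : β + γ - β = γ := by ring
    have e3 : γ - γ = 0 := by ring
    rwa [e1, e2, e3] at h3
  -- F2: `(α,0,0) ∈ X ⇒ (α, αt, αt²) ∈ X`
  have F2 : ∀ α : F, sy α 0 0 ∈ X → sy α (α * t) (α * t ^ 2) ∈ X := by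
    intro α h
    have h1 := hL _ h (sy_transpose _ _ _) (by
      intro j
      fin_cases j <;> simp [sy, Fin.last])
    rwa [L_sy] at h1
  -- F3
  have F3 : ∀ β' β a b : F, sy β' β 0 ∈ X → sy a b 0 ∈ X →
      sy (a + (σ * β * t) ^ 2 * a) (b + (1 + σ * β * t) * (σ * β * t) * t * a)
        ((σ * β * t) ^ 2 * t ^ 2 * a) ∈ X := by
    intro β' β a b h h'
    have h1 := hτ _ h (sy_transpose _ _ _) (by simp [sy]) _ h'
    have e : (sy β' β 0 : SM 0 F) 0 1 = β := by simp [sy]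
    rw [e, tau_sy h2] at h1
    exact h1
  -- the set `C`
  have C_add : ∀ c c' : F, sy c c 0 ∈ X → sy c' c' 0 ∈ X → sy (c + c') (c + c') 0 ∈ X := by
    intro c c' h h'
    have := X.add_mem h h'
    rw [sy_add] at this
    simpa using this
  have C_step : ∀ α β : F, sy α α 0 ∈ X → sy β β 0 ∈ X →
      sy (σ ^ 2 * t ^ 4 * α * β ^ 2) (σ ^ 2 * t ^ 4 * α * β ^ 2) 0 ∈ X := by
    intro α β hα hβ
    have h1 := F1 _ _ _ (F3 β β α α hβ hα)
    have e : (σ * β * t) ^ 2 * t ^ 2 * α = σ ^ 2 * t ^ 4 * α * β ^ 2 := by ring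
    rwa [e] at h1
  have C_base : sy (l * t ^ 2) (l * t ^ 2) 0 ∈ X := by
    have h0 : sy l 0 0 ∈ X := by rw [← smul_E00]; exact hl
    exact F1 _ _ _ (F2 l h0)
  -- odd powers
  set u : F := σ * t ^ 2 with hu
  have hu0 : u ≠ 0 := mul_ne_zero hσ (pow_ne_zero 2 ht)
  have C_pow : ∀ k : ℕ, sy ((σ * t ^ 4 * l) ^ (2 * k + 1) / u) ((σ * t ^ 4 * l) ^ (2 * k + 1) / u) 0 ∈ X := by
    intro k
    induction k with
    | zero =>
      have e : (σ * t ^ 4 * l) ^ (2 * 0 + 1) / u = l * t ^ 2 := by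
        rw [hu]; field_simp; ring
      rw [e]; exact C_base
    | succ k ih =>
      have h1 := C_step _ _ ih C_base
      have e : σ ^ 2 * t ^ 4 * ((σ * t ^ 4 * l) ^ (2 * k + 1) / u) * (l * t ^ 2) ^ 2 =
          (σ * t ^ 4 * l) ^ (2 * (k + 1) + 1) / u := by
        rw [hu]; field_simp; ring
      rwa [e] at h1
  have C_all : ∀ c : F, sy c c 0 ∈ X := by
    intro c
    by_cases hc : c = 0
    · rw [hc, sy_zero]; exact X.zero_mem
    · obtain ⟨k, hk⟩ := hgen (c * u) (mul_ne_zero hc hu0)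
      have h1 := C_pow k
      rw [← hk] at h1
      have e : c * u / u = c := by field_simp
      rwa [e] at h1
  -- `h(a, ρ) ∈ X`
  have H : ∀ a ρ : F, sy (ρ ^ 2 * a) ((1 + ρ) * ρ * t * a) (ρ ^ 2 * t ^ 2 * a) ∈ X := by
    intro a ρ
    have h1 := F3 (ρ / (σ * t)) (ρ / (σ * t)) a a (C_all _) (C_all _)
    have e : σ * (ρ / (σ * t)) * t = ρ := by field_simp
    rw [e] at h1
    have h3 := X.sub_mem h1 (C_all a)
    rw [sy_sub] at h3
    have e1 : a + ρ ^ 2 * a - a = ρ ^ 2 * a := by ring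
    have e2 : a + (1 + ρ) * ρ * t * a - a = (1 + ρ) * ρ * t * a := by ring
    have e3 : ρ ^ 2 * t ^ 2 * a - 0 = ρ ^ 2 * t ^ 2 * a := by ring
    rwa [e1, e2, e3] at h3
  obtain ⟨ρ₁, ρ₂, h1, h2', h12⟩ := h4
  -- `(0, x, 0) ∈ X`
  have B : ∀ x : F, sy 0 x 0 ∈ X := by
    intro x
    set d : F := t * (1 / ρ₁ - 1 / ρ₂) with hd
    have hd0 : d ≠ 0 := by
      rw [hd]
      refine mul_ne_zero ht ?_
      intro h
      apply h12
      have : 1 / ρ₁ = 1 / ρ₂ := sub_eq_zero.mp h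
      field_simp at this
      exact this.symm
    have hh := X.sub_mem (H (x / d / ρ₁ ^ 2) ρ₁) (H (x / d / ρ₂ ^ 2) ρ₂)
    rw [sy_sub] at hh
    have e1 : ρ₁ ^ 2 * (x / d / ρ₁ ^ 2) - ρ₂ ^ 2 * (x / d / ρ₂ ^ 2) = 0 := by
      field_simp; ring
    have e2 : (1 + ρ₁) * ρ₁ * t * (x / d / ρ₁ ^ 2) - (1 + ρ₂) * ρ₂ * t * (x / d / ρ₂ ^ 2) = x := by
      have : (1 + ρ₁) * ρ₁ * t * (x / d / ρ₁ ^ 2) - (1 + ρ₂) * ρ₂ * t * (x / d / ρ₂ ^ 2) =
          (x / d) * (t * (1 / ρ₁ - 1 / ρ₂)) := by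
        field_simp; ring
      rw [this, ← hd]; field_simp
    have e3 : ρ₁ ^ 2 * t ^ 2 * (x / d / ρ₁ ^ 2) - ρ₂ ^ 2 * t ^ 2 * (x / d / ρ₂ ^ 2) = 0 := by
      field_simp; ring
    rwa [e1, e2, e3] at hh
  have A : ∀ x : F, sy x 0 0 ∈ X := by
    intro x
    have := X.sub_mem (C_all x) (B x)
    rw [sy_sub] at this
    simpa using this
  have Cc : ∀ x : F, sy 0 0 x ∈ X := by
    intro x
    have h3 := F2 (x / t ^ 2) (A _)
    have h4 := X.sub_mem (X.sub_mem h3 (A (x / t ^ 2))) (B (x / t ^ 2 * t))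
    rw [sy_sub, sy_sub] at h4
    have e1 : x / t ^ 2 - x / t ^ 2 - 0 = 0 := by ring
    have e2 : x / t ^ 2 * t - 0 - x / t ^ 2 * t = 0 := by ring
    have e3 : x / t ^ 2 * t ^ 2 - 0 - 0 = x := by
      have : x / t ^ 2 * t ^ 2 = x := by field_simp
      rw [this]; ring
    rwa [e1, e2, e3] at h4
  intro S hS
  rw [eq_sy S hS]
  have := X.add_mem (X.add_mem (A (S 0 0)) (B (S 0 1))) (Cc (S 1 1))
  rw [sy_add, sy_add] at this
  simpa using this

end Cfsg.Agent.Lib.Helper47.RSp
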