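import Cfsg.Agent.Lib.Helper47.McKayCount
import Cfsg.Agent.Lib.Helper47.SylowSL2
import Cfsg.Agent.Lib.Helper47.BorelCount
import Cfsg.Agent.Lib.Helper47.NonSplitTorus
import Cfsg.Agent.S2437

set_option autoImplicit false
set_option linter.unusedSimpArgs false

/-!
# The normalizer of a Sylow `p`-subgroup of `SL₂(q)`, `q` a power of `p`: the Borel subgroup
-/

namespace Cfsg.Agent.Lib.Helper47

open Matrix Cfsg

section
variable {F : Type*} [Field F]

/-- the upper unitriangular subgroup of `SL₂` -/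
def unip (F : Type*) [Field F] : Subgroup (Matrix.SpecialLinearGroup (Fin 2) F) where
  carrier := {g | g.1 1 0 = 0 ∧ g.1 0 0 = 1 ∧ g.1 1 1 = 1}
  mul_mem' := by
    rintro a b ⟨ha1, ha2, ha3⟩ ⟨hb1, hb2, hb3⟩
    refine ⟨?_, ?_, ?_⟩ <;> rw [sl2_mul_apply] <;> simp [ha1, ha2, ha3, hb1, hb2, hb3]
  one_mem' := by simp
  inv_mem' := by
    rintro a ⟨ha1, ha2, ha3⟩
    refine ⟨?_, ?_, ?_⟩
    · rw [sl2_inv_10, ha1, neg_zero]
    · rw [sl2_inv_00, ha3]
    · rw [sl2_inv_11, ha2]

theorem mem_unip_iff (g : Matrix.SpecialLinearGroup (Fin 2) F) :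
    g ∈ unip F ↔ g.1 1 0 = 0 ∧ g.1 0 0 = 1 ∧ g.1 1 1 = 1 := Iff.rfl

/-- the element `[[1, t], [0, 1]]` -/
def unipSL (t : F) : Matrix.SpecialLinearGroup (Fin 2) F :=
  ⟨!![1, t; 0, 1], by simp [Matrix.det_fin_two_of]⟩

theorem unipSL_mem (t : F) : unipSL t ∈ unip F := by
  rw [mem_unip_iff]
  simp [unipSL]

theorem unipSL_injective : Function.Injective (unipSL : F → Matrix.SpecialLinearGroup (Fin 2) F) := by
  intro a b h
  have := congrArg (fun A : Matrix.SpecialLinearGroup (Fin 2) F => A.1 0 1) h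
  simpa [unipSL] using this

theorem eq_unipSL_of_mem {g : Matrix.SpecialLinearGroup (Fin 2) F} (hg : g ∈ unip F) :
    g = unipSL (g.1 0 1) := by
  obtain ⟨h1, h2, h3⟩ := hg
  apply sl2_ext <;> simp [unipSL, h1, h2, h3]

/-- `F ≃ U` -/
noncomputable def unipEquiv (F : Type*) [Field F] : F ≃ unip F where
  toFun t := ⟨unipSL t, unipSL_mem t⟩
  invFun g := g.1.1 0 1
  left_inv t := by simp [unipSL]
  right_inv g := by
    apply Subtype.ext
    exact (eq_unipSL_of_mem g.2).symm

theorem unip_comm : ∀ a ∈ unip F, ∀ b ∈ unip F, a * b = b * a := by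
  intro a ha b hb
  rw [eq_unipSL_of_mem ha, eq_unipSL_of_mem hb]
  apply sl2_ext <;> rw [sl2_mul_apply, sl2_mul_apply] <;> simp [unipSL, add_comm]

theorem unip_le_borel : unip F ≤ borel F := by
  intro g hg
  rw [mem_borel_iff]
  exact hg.1

/-- the normalizer of the unitriangular subgroup is the Borel subgroup -/
theorem normalizer_unip : Subgroup.normalizer ((unip F : Subgroup _) : Set _) = borel F := by
  ext g
  rw [mem_borel_iff]
  constructor
  · intro hg
    have h1 := (Subgroup.mem_normalizer_iff.mp hg (unipSL 1)).mp (unipSL_mem 1)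
    have h10 := h1.1
    simp only [sl2_mul_apply, sl2_inv_00, sl2_inv_10, sl2_inv_01, sl2_inv_11] at h10
    simp only [unipSL, Fin.isValue, of_apply, cons_val', cons_val_zero, cons_val_fin_one,
      cons_val_one, mul_one, mul_zero, add_zero, zero_add] at h10
    have : g.1 1 0 * g.1 1 0 = 0 := by linear_combination -h10
    exact mul_self_eq_zero.mp this
  · intro h10
    have hdet := det_eq g
    rw [h10, mul_zero, sub_zero] at hdet
    apply Subgroup.mem_normalizer_iff.mpr
    intro u
    constructor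
    · rintro ⟨hu1, hu2, hu3⟩
      refine ⟨?_, ?_, ?_⟩
      · simp only [sl2_mul_apply, sl2_inv_00, sl2_inv_10, sl2_inv_01, sl2_inv_11, h10, hu1]
        ring
      · simp only [sl2_mul_apply, sl2_inv_00, sl2_inv_10, sl2_inv_01, sl2_inv_11, h10, hu1, hu2]
        linear_combination hdet
      · simp only [sl2_mul_apply, sl2_inv_00, sl2_inv_10, sl2_inv_01, sl2_inv_11, h10, hu1, hu3]
        linear_combination hdet
    · rintro ⟨hu1, hu2, hu3⟩
      simp only [sl2_mul_apply, sl2_inv_00, sl2_inv_10, sl2_inv_01, sl2_inv_11, h10]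
        at hu1 hu2 hu3
      have hg00 : g.1 0 0 ≠ 0 := left_ne_zero_of_mul_eq_one hdet
      have hg11 : g.1 1 1 ≠ 0 := right_ne_zero_of_mul_eq_one hdet
      have e1 : u.1 1 0 = 0 := by
        have : g.1 1 1 * g.1 1 1 * u.1 1 0 = 0 := by linear_combination hu1
        rcases mul_eq_zero.mp this with h | h
        · exact absurd (mul_self_eq_zero.mp h) hg11
        · exact h
      refine ⟨e1, ?_, ?_⟩
      · rw [e1] at hu2
        linear_combination hu2 - u.1 0 0 * hdet
      · rw [e1] at hu3
        linear_combination hu3 - u.1 1 1 * hdet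

end

section finite
variable {F : Type*} [Field F] [Fintype F]

theorem card_unip : Nat.card (unip F) = Fintype.card F := by
  rw [← Nat.card_congr (unipEquiv F), Nat.card_eq_fintype_card]

theorem index_unip : (unip F).index = (Fintype.card F - 1) * (Fintype.card F + 1) := by
  have h := (unip F).card_mul_index
  rw [card_unip, card_SL2'] at h
  have hpos : 0 < Fintype.card F := Fintype.card_pos
  have : Fintype.card F * (unip F).index =
      Fintype.card F * ((Fintype.card F - 1) * (Fintype.card F + 1)) := by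
    rw [h]; ring
  exact Nat.eq_of_mul_eq_mul_left hpos this

/-- a prime dividing `q` has `q` as a power -/
theorem exists_card_eq_pow_of_dvd {ℓ : ℕ} (hℓ : ℓ.Prime) (hdvd : ℓ ∣ Fintype.card F) :
    ∃ n : ℕ, Fintype.card F = ℓ ^ n := by
  have : CharP F (ringChar F) := ringChar.charP F
  obtain ⟨n, hp, hn⟩ := FiniteField.card F (ringChar F)
  rw [hn] at hdvd
  have := (Nat.prime_dvd_prime_iff_eq hℓ hp).mp (hℓ.dvd_of_dvd_pow hdvd)
  exact ⟨n, by rw [hn, this]⟩

/-- `U` is a Sylow `ℓ`-subgroup when `ℓ ∣ q` -/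
theorem exists_sylow_eq_unip {ℓ : ℕ} [Fact ℓ.Prime] (hdvd : ℓ ∣ Fintype.card F) :
    ∃ P : Sylow ℓ (Matrix.SpecialLinearGroup (Fin 2) F),
      (P : Subgroup (Matrix.SpecialLinearGroup (Fin 2) F)) = unip F := by
  have hℓ : ℓ.Prime := Fact.out
  have hq : 2 ≤ Fintype.card F := Fintype.one_lt_card
  have h1 : ¬ ℓ ∣ 1 := fun h => hℓ.one_lt.ne' (Nat.dvd_one.mp h)
  have hidx : ¬ ℓ ∣ (unip F).index := by
    rw [index_unip]
    intro h
    rcases (Nat.Prime.dvd_mul hℓ).mp h with h | h
    · apply h1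
      have := Nat.dvd_sub hdvd h
      have e : Fintype.card F - (Fintype.card F - 1) = 1 := by omega
      rwa [e] at this
    · apply h1
      have := Nat.dvd_sub h hdvd
      have e : Fintype.card F + 1 - Fintype.card F = 1 := by omega
      rwa [e] at this
  obtain ⟨P, hP⟩ := exists_sylow_le_of_not_dvd_index (unip F) hidx
  obtain ⟨n, hn⟩ := exists_card_eq_pow_of_dvd hℓ hdvd
  have hpg : IsPGroup ℓ (unip F) := IsPGroup.of_card (n := n) (by rw [card_unip, hn])
  exact ⟨P, (P.is_maximal' hpg hP).symm⟩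

/-- the normalizer of any Sylow `ℓ`-subgroup, `ℓ ∣ q`, is isomorphic to the Borel subgroup -/
theorem nonempty_normalizer_equiv_borel {ℓ : ℕ} [Fact ℓ.Prime] (hdvd : ℓ ∣ Fintype.card F)
    (P : Sylow ℓ (Matrix.SpecialLinearGroup (Fin 2) F)) :
    Nonempty (↥(Subgroup.normalizer ((P : Subgroup (Matrix.SpecialLinearGroup (Fin 2) F)) :
      Set (Matrix.SpecialLinearGroup (Fin 2) F))) ≃* ↥(borel F)) := by
  obtain ⟨P₀, hP₀⟩ := exists_sylow_eq_unip (F := F) hdvd
  obtain ⟨e⟩ := nonempty_normalizer_sylow_equiv P₀ P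
  have hN : Subgroup.normalizer ((P₀ : Subgroup (Matrix.SpecialLinearGroup (Fin 2) F)) :
      Set (Matrix.SpecialLinearGroup (Fin 2) F)) = borel F := by
    rw [hP₀, normalizer_unip]
  exact ⟨e.trans (MulEquiv.subgroupCongr hN)⟩

/-- every irreducible character of the Borel subgroup has degree dividing `q - 1` -/
theorem charDegree_borel_dvd (χ : IrrCharacter (borel F)) :
    charDegree (χ : borel F → ℂ) ∣ Fintype.card F - 1 := by
  have hUB : unip F ≤ borel F := unip_le_borel
  have hnormal : ((unip F).subgroupOf (borel F)).Normal := by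
    have h1 : borel F ≤ Subgroup.normalizer ((unip F : Subgroup _) : Set _) := by
      rw [normalizer_unip]
    exact (Subgroup.normal_subgroupOf_iff_le_normalizer hUB).mpr h1
  have hab : ∀ a ∈ (unip F).subgroupOf (borel F), ∀ b ∈ (unip F).subgroupOf (borel F),
      a * b = b * a := by
    intro a ha b hb
    rw [Subgroup.mem_subgroupOf] at ha hb
    apply Subtype.ext
    exact unip_comm _ ha _ hb
  have hcardU : Nat.card ((unip F).subgroupOf (borel F)) = Fintype.card F := by
    rw [Nat.card_congr (Subgroup.subgroupOfEquivOfLe hUB).toEquiv, card_unip]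
  have hidx : ((unip F).subgroupOf (borel F)).index = Fintype.card F - 1 := by
    have h1 := Subgroup.card_mul_index ((unip F).subgroupOf (borel F))
    rw [hcardU, card_borel] at h1
    have hpos : 0 < Fintype.card F := Fintype.card_pos
    have : Fintype.card F * ((unip F).subgroupOf (borel F)).index =
        Fintype.card F * (Fintype.card F - 1) := by rw [h1]; ring
    exact Nat.eq_of_mul_eq_mul_left hpos this
  have := Cfsg.Agent.Lib.Helper83.ito_charDegree χ ((unip F).subgroupOf (borel F)) hab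
  rwa [hidx] at this

/-- all `q + 3` irreducible characters of the Borel subgroup have degree prime to `p` -/
theorem card_irr_not_dvd_borel (hodd : Odd (Fintype.card F)) {ℓ : ℕ} (hℓ : ℓ.Prime)
    (hdvd : ℓ ∣ Fintype.card F) :
    Nat.card {χ : IrrCharacter (borel F) // ¬ ℓ ∣ charDegree (χ : borel F → ℂ)} =
      Fintype.card F + 3 := by
  classical
  have : Fintype (borel F) := Fintype.ofFinite _
  have : Fintype (IrrCharacter (borel F)) := Fintype.ofFinite _
  rw [← Cfsg.Agent.S2437.result hodd, ← Cfsg.Agent.Lib.Helper83.card_irr_eq_card_conjClasses]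
  apply Nat.card_congr
  refine Equiv.subtypeUnivEquiv ?_
  intro χ h
  have h1 := h.trans (charDegree_borel_dvd χ)
  have hq : 2 ≤ Fintype.card F := Fintype.one_lt_card
  have := Nat.dvd_sub hdvd h1
  have e : Fintype.card F - (Fintype.card F - 1) = 1 := by omega
  rw [e] at this
  exact hℓ.one_lt.ne' (Nat.dvd_one.mp this)

end finite

end Cfsg.Agent.Lib.Helper47
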