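import Cfsg.Agent.Lib.Helper45.SL2CountOdd
import Cfsg.Agent.Lib.Helper45.IrrDegCard
import Cfsg.Agent.S2299

set_option autoImplicit false

/-!
# The number of irreducible characters of `SL₂(q)` of degree prime to `ℓ` (`q` odd)
-/

namespace Cfsg.Agent.Lib.Helper47

open Matrix Cfsg Cfsg.Agent.Lib.Helper45

universe u

variable {F : Type u} [Field F] [Fintype F]

open Classical in
/-- counting by the six degrees -/
theorem card_irr_not_dvd_SL2_aux (hodd : Fintype.card F % 2 = 1) (hq : 5 ≤ Fintype.card F)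
    (ℓ : ℕ) :
    Nat.card {χ : IrrCharacter (Matrix.SpecialLinearGroup (Fin 2) F) //
        ¬ ℓ ∣ charDegree (χ : Matrix.SpecialLinearGroup (Fin 2) F → ℂ)} =
      (if ℓ ∣ 1 then 0 else 1) + (if ℓ ∣ Fintype.card F then 0 else 1) +
      (if ℓ ∣ Fintype.card F + 1 then 0 else (Fintype.card F - 3) / 2) +
      (if ℓ ∣ (Fintype.card F + 1) / 2 then 0 else 2) +
      (if ℓ ∣ Fintype.card F - 1 then 0 else (Fintype.card F - 1) / 2) +
      (if ℓ ∣ (Fintype.card F - 1) / 2 then 0 else 2) := by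
  have : Fintype (GL (Fin 2) F) := Fintype.ofFinite _
  have : Fintype (IrrCharacter (Matrix.SpecialLinearGroup (Fin 2) F)) := Fintype.ofFinite _
  obtain ⟨c, hcq⟩ : ∃ c, Fintype.card F = 2 * c + 1 := ⟨Fintype.card F / 2, by omega⟩
  have hc2 : 2 ≤ c := by omega
  obtain ⟨h1, h2, h3, h4, h5, h6⟩ := card_irr_SL2_odd (F := F) hodd hq
  obtain ⟨ε, hε⟩ := exists_nonsquare_of_odd (F := F) hodd
  have hcases := irr_cases_SL2_odd (F := F) hodd hε
  have hd : ∀ θ : IrrCharacter (Matrix.SpecialLinearGroup (Fin 2) F),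
      irrDeg θ = 1 ∨ irrDeg θ = Fintype.card F ∨ irrDeg θ = Fintype.card F + 1 ∨
        irrDeg θ = (Fintype.card F + 1) / 2 ∨ irrDeg θ = Fintype.card F - 1 ∨
        irrDeg θ = (Fintype.card F - 1) / 2 := by
    intro θ
    rcases hcases θ with ⟨h1, -⟩ | ⟨h1, -⟩ | ⟨h1, -⟩ | ⟨h1, -⟩ | ⟨h1, -⟩ | ⟨h1, -⟩
    · exact Or.inl h1
    · exact Or.inr (Or.inl h1)
    · exact Or.inr (Or.inr (Or.inl h1))
    · exact Or.inr (Or.inr (Or.inr (Or.inl h1)))
    · exact Or.inr (Or.inr (Or.inr (Or.inr (Or.inl h1))))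
    · exact Or.inr (Or.inr (Or.inr (Or.inr (Or.inr h1))))
  have hnd : [1, Fintype.card F, Fintype.card F + 1, (Fintype.card F + 1) / 2,
      Fintype.card F - 1, (Fintype.card F - 1) / 2].Nodup := by
    have e1' : (Fintype.card F + 1) / 2 = c + 1 := by omega
    have e2' : (Fintype.card F - 1) / 2 = c := by omega
    have e3' : Fintype.card F - 1 = 2 * c := by omega
    rw [e1', e2', e3', hcq]
    simp only [List.nodup_cons, List.mem_cons, List.not_mem_nil, or_false, not_or,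
      List.nodup_nil, and_true]
    refine ⟨⟨?_, ?_, ?_, ?_, ?_⟩, ⟨?_, ?_, ?_, ?_⟩, ⟨?_, ?_, ?_⟩, ⟨?_, ?_⟩, ?_, not_false⟩ <;> omega
  have hsplit := sum_by_six (irrDeg (G := Matrix.SpecialLinearGroup (Fin 2) F)) 1 (Fintype.card F)
    (Fintype.card F + 1) ((Fintype.card F + 1) / 2) (Fintype.card F - 1)
    ((Fintype.card F - 1) / 2) hnd hd
    (fun θ => if ¬ ℓ ∣ irrDeg θ then (1 : ℂ) else 0)
  have hconst : ∀ v : ℕ, ∑ θ ∈ Finset.univ.filter
      (fun θ : IrrCharacter (Matrix.SpecialLinearGroup (Fin 2) F) => irrDeg θ = v),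
      (if ¬ ℓ ∣ irrDeg θ then (1 : ℂ) else 0) =
      ((if ℓ ∣ v then 0 else (Finset.univ.filter
        (fun θ : IrrCharacter (Matrix.SpecialLinearGroup (Fin 2) F) => irrDeg θ = v)).card : ℕ) : ℂ) := by
    intro v
    rw [Finset.sum_congr rfl (fun θ hθ => by rw [(Finset.mem_filter.mp hθ).2])]
    by_cases hv : ℓ ∣ v
    · simp [hv]
    · simp [hv]
  rw [hconst, hconst, hconst, hconst, hconst, hconst, h1, h2, h3, h4, h5, h6] at hsplit
  rw [Nat.card_eq_fintype_card, Fintype.card_subtype]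
  have hlhs : ((Finset.univ.filter (fun χ : IrrCharacter (Matrix.SpecialLinearGroup (Fin 2) F) =>
      ¬ ℓ ∣ charDegree (χ : Matrix.SpecialLinearGroup (Fin 2) F → ℂ))).card : ℂ) =
      ∑ θ : IrrCharacter (Matrix.SpecialLinearGroup (Fin 2) F),
        (if ¬ ℓ ∣ irrDeg θ then (1 : ℂ) else 0) := by
    rw [Finset.sum_boole]
    rfl
  have : ((Finset.univ.filter (fun χ : IrrCharacter (Matrix.SpecialLinearGroup (Fin 2) F) =>
      ¬ ℓ ∣ charDegree (χ : Matrix.SpecialLinearGroup (Fin 2) F → ℂ))).card : ℂ) =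
      (((if ℓ ∣ 1 then 0 else 1) + (if ℓ ∣ Fintype.card F then 0 else 1) +
      (if ℓ ∣ Fintype.card F + 1 then 0 else (Fintype.card F - 3) / 2) +
      (if ℓ ∣ (Fintype.card F + 1) / 2 then 0 else 2) +
      (if ℓ ∣ Fintype.card F - 1 then 0 else (Fintype.card F - 1) / 2) +
      (if ℓ ∣ (Fintype.card F - 1) / 2 then 0 else 2) : ℕ) : ℂ) := by
    rw [hlhs, hsplit]
    push_cast
    ring
  exact_mod_cast this

/-- `ℓ = p`: all but the Steinberg character -/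
theorem card_irr_not_dvd_SL2_char (hodd : Fintype.card F % 2 = 1) (hq : 5 ≤ Fintype.card F)
    (ℓ : ℕ) (hℓ : ℓ.Prime) (hdvd : ℓ ∣ Fintype.card F) :
    Nat.card {χ : IrrCharacter (Matrix.SpecialLinearGroup (Fin 2) F) //
        ¬ ℓ ∣ charDegree (χ : Matrix.SpecialLinearGroup (Fin 2) F → ℂ)} =
      Fintype.card F + 3 := by
  rw [card_irr_not_dvd_SL2_aux hodd hq]
  have h1 : ¬ ℓ ∣ 1 := by
    intro h
    exact hℓ.one_lt.ne' (Nat.dvd_one.mp h)
  have h2 : ¬ ℓ ∣ Fintype.card F + 1 := by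
    intro h
    exact h1 ((Nat.dvd_add_right hdvd).mp h)
  have h3 : ¬ ℓ ∣ (Fintype.card F + 1) / 2 := by
    intro h
    apply h2
    have : (Fintype.card F + 1) / 2 ∣ Fintype.card F + 1 := Nat.div_dvd_of_dvd (by omega)
    exact h.trans this
  have h4 : ¬ ℓ ∣ Fintype.card F - 1 := by
    intro h
    apply h1
    have h5 : Fintype.card F = (Fintype.card F - 1) + 1 := by omega
    rw [h5] at hdvd
    exact (Nat.dvd_add_right h).mp hdvd
  have h5 : ¬ ℓ ∣ (Fintype.card F - 1) / 2 := by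
    intro h
    apply h4
    have : (Fintype.card F - 1) / 2 ∣ Fintype.card F - 1 := Nat.div_dvd_of_dvd (by omega)
    exact h.trans this
  rw [if_neg h1, if_pos hdvd, if_neg h2, if_neg h3, if_neg h4, if_neg h5]
  omega

/-- an odd prime dividing `2 m` divides `m` -/
theorem dvd_half_of_odd_prime {ℓ n : ℕ} (hℓ : ℓ.Prime) (hℓ2 : ℓ ≠ 2) (hn : 2 ∣ n) (h : ℓ ∣ n) :
    ℓ ∣ n / 2 := by
  obtain ⟨m, rfl⟩ := hn
  rw [Nat.mul_div_cancel_left _ (by norm_num)]
  rcases (Nat.Prime.dvd_mul hℓ).mp h with h | h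
  · exact absurd ((Nat.prime_dvd_prime_iff_eq hℓ Nat.prime_two).mp h) hℓ2
  · exact h

/-- `ℓ` odd dividing `q - 1` -/
theorem card_irr_not_dvd_SL2_split (hodd : Fintype.card F % 2 = 1) (hq : 5 ≤ Fintype.card F)
    (ℓ : ℕ) (hℓ : ℓ.Prime) (hℓ2 : ℓ ≠ 2) (hdvd : ℓ ∣ Fintype.card F - 1) :
    2 * Nat.card {χ : IrrCharacter (Matrix.SpecialLinearGroup (Fin 2) F) //
        ¬ ℓ ∣ charDegree (χ : Matrix.SpecialLinearGroup (Fin 2) F → ℂ)} =
      Fintype.card F + 5 := by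
  rw [card_irr_not_dvd_SL2_aux hodd hq]
  have hℓ3 : 3 ≤ ℓ := by
    have := hℓ.two_le
    omega
  have h1 : ¬ ℓ ∣ 1 := by
    intro h
    exact hℓ.one_lt.ne' (Nat.dvd_one.mp h)
  have hq1 : Fintype.card F = (Fintype.card F - 1) + 1 := by omega
  have h0 : ¬ ℓ ∣ Fintype.card F := by
    intro h
    apply h1
    rw [hq1] at h
    exact (Nat.dvd_add_right hdvd).mp h
  have h2 : ¬ ℓ ∣ Fintype.card F + 1 := by
    intro h
    have h5 : Fintype.card F + 1 = (Fintype.card F - 1) + 2 := by omega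
    rw [h5] at h
    have := (Nat.dvd_add_right hdvd).mp h
    have := Nat.le_of_dvd (by norm_num) this
    omega
  have h3 : ¬ ℓ ∣ (Fintype.card F + 1) / 2 := by
    intro h
    apply h2
    have : (Fintype.card F + 1) / 2 ∣ Fintype.card F + 1 := Nat.div_dvd_of_dvd (by omega)
    exact h.trans this
  have h5 : ℓ ∣ (Fintype.card F - 1) / 2 := dvd_half_of_odd_prime hℓ hℓ2 (by omega) hdvd
  rw [if_neg h1, if_neg h0, if_neg h2, if_neg h3, if_pos hdvd, if_pos h5]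
  omega

/-- `ℓ` odd dividing `q + 1` -/
theorem card_irr_not_dvd_SL2_nonsplit (hodd : Fintype.card F % 2 = 1) (hq : 5 ≤ Fintype.card F)
    (ℓ : ℕ) (hℓ : ℓ.Prime) (hℓ2 : ℓ ≠ 2) (hdvd : ℓ ∣ Fintype.card F + 1) :
    2 * Nat.card {χ : IrrCharacter (Matrix.SpecialLinearGroup (Fin 2) F) //
        ¬ ℓ ∣ charDegree (χ : Matrix.SpecialLinearGroup (Fin 2) F → ℂ)} =
      Fintype.card F + 7 := by
  rw [card_irr_not_dvd_SL2_aux hodd hq]
  have hℓ3 : 3 ≤ ℓ := by
    have := hℓ.two_le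
    omega
  have h1 : ¬ ℓ ∣ 1 := by
    intro h
    exact hℓ.one_lt.ne' (Nat.dvd_one.mp h)
  have h0 : ¬ ℓ ∣ Fintype.card F := by
    intro h
    apply h1
    exact (Nat.dvd_add_right h).mp hdvd
  have h4 : ¬ ℓ ∣ Fintype.card F - 1 := by
    intro h
    have h5 : Fintype.card F + 1 = (Fintype.card F - 1) + 2 := by omega
    rw [h5] at hdvd
    have := (Nat.dvd_add_right h).mp hdvd
    have := Nat.le_of_dvd (by norm_num) this
    omega
  have h5 : ¬ ℓ ∣ (Fintype.card F - 1) / 2 := by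
    intro h
    apply h4
    have : (Fintype.card F - 1) / 2 ∣ Fintype.card F - 1 := Nat.div_dvd_of_dvd (by omega)
    exact h.trans this
  have h3 : ℓ ∣ (Fintype.card F + 1) / 2 := dvd_half_of_odd_prime hℓ hℓ2 (by omega) hdvd
  rw [if_neg h1, if_neg h0, if_pos hdvd, if_pos h3, if_neg h4, if_neg h5]
  omega

/-- `ℓ = 2` -/
theorem card_irr_not_dvd_SL2_two (hodd : Fintype.card F % 2 = 1) (hq : 5 ≤ Fintype.card F) :
    Nat.card {χ : IrrCharacter (Matrix.SpecialLinearGroup (Fin 2) F) //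
        ¬ 2 ∣ charDegree (χ : Matrix.SpecialLinearGroup (Fin 2) F → ℂ)} = 4 := by
  rw [card_irr_not_dvd_SL2_aux hodd hq]
  have h1 : ¬ 2 ∣ 1 := by norm_num
  have h0 : ¬ 2 ∣ Fintype.card F := by omega
  have h2 : 2 ∣ Fintype.card F + 1 := by omega
  have h4 : 2 ∣ Fintype.card F - 1 := by omega
  rw [if_neg h1, if_neg h0, if_pos h2, if_pos h4]
  by_cases h3 : 2 ∣ (Fintype.card F + 1) / 2
  · have h5 : ¬ 2 ∣ (Fintype.card F - 1) / 2 := by omega
    rw [if_pos h3, if_neg h5]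
  · have h5 : 2 ∣ (Fintype.card F - 1) / 2 := by omega
    rw [if_neg h3, if_pos h5]

end Cfsg.Agent.Lib.Helper47
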