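import Cfsg.Agent.Lib.Helper47.SL2McKayG

set_option autoImplicit false

/-!
# Degrees of the irreducible characters of `SL₂(3)`: `1, 1, 1, 2, 2, 2, 3`
-/

namespace Cfsg.Agent.Lib.Helper47

open Matrix Cfsg Cfsg.Agent.Lib.Helper45

universe u

variable {F : Type u} [Field F] [Fintype F]

open Classical in
theorem card_irr_SL2_three [Fintype (IrrCharacter (Matrix.SpecialLinearGroup (Fin 2) F))]
    (hq3 : Fintype.card F = 3) :
    (Finset.univ.filter (fun θ : IrrCharacter (Matrix.SpecialLinearGroup (Fin 2) F) =>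
      irrDeg θ = 1)).card = 3 ∧
    (Finset.univ.filter (fun θ : IrrCharacter (Matrix.SpecialLinearGroup (Fin 2) F) =>
      irrDeg θ = 2)).card = 3 ∧
    (Finset.univ.filter (fun θ : IrrCharacter (Matrix.SpecialLinearGroup (Fin 2) F) =>
      irrDeg θ = 3)).card = 1 ∧
    (Finset.univ.filter (fun θ : IrrCharacter (Matrix.SpecialLinearGroup (Fin 2) F) =>
      irrDeg θ = 4)).card = 0 := by
  have hodd : Odd (Fintype.card F) := by rw [hq3]; decide
  have hodd' : Fintype.card F % 2 = 1 := by rw [hq3]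
  have hd : ∀ θ : IrrCharacter (Matrix.SpecialLinearGroup (Fin 2) F),
      irrDeg θ = 1 ∨ irrDeg θ = 2 ∨ irrDeg θ = 3 ∨ irrDeg θ = 4 := by
    intro θ
    have h := (Cfsg.Agent.S2299.result (F := F) hodd).1 θ.1 θ.2
    rw [hq3] at h
    have e1 : ((3 + 1) / 2 : ℕ) = 2 := by norm_num
    have e2 : ((3 - 1) / 2 : ℕ) = 1 := by norm_num
    rw [e1, e2] at h
    rcases h with h | h | h | h | h | h
    · left; rw [irrDeg_eq_iff, h]; simp
    · right; right; left; rw [irrDeg_eq_iff, h]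
    · right; right; right; rw [irrDeg_eq_iff, h]; norm_num
    · right; left; rw [irrDeg_eq_iff, h]; norm_num
    · right; left; rw [irrDeg_eq_iff, h]
    · left; rw [irrDeg_eq_iff, h]
  have hsplit := sum_by_four (irrDeg (G := Matrix.SpecialLinearGroup (Fin 2) F)) 1 2 3 4
    (by norm_num) (by norm_num) (by norm_num) (by norm_num) (by norm_num) (by norm_num) hd
  -- the number of characters
  have E3 : Fintype.card (IrrCharacter (Matrix.SpecialLinearGroup (Fin 2) F)) = 7 := by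
    have h := Helper83.card_irr_eq_card_conjClasses (G := Matrix.SpecialLinearGroup (Fin 2) F)
    rw [card_conjClasses_SL2_odd hodd', Nat.card_eq_fintype_card, hq3] at h
    exact h
  have E3' := hsplit (fun _ => (1 : ℂ))
  simp only [Finset.sum_const, nsmul_eq_mul, mul_one, Finset.card_univ] at E3'
  rw [E3] at E3'
  -- the sum of squares
  have E1 := Helper83.sum_irr_degree_sq (G := Matrix.SpecialLinearGroup (Fin 2) F)
  rw [hsplit, sum_filter_const _ _ (((1 : ℕ) : ℂ) ^ 2) (fun θ h => by rw [← irrDeg_cast, h]),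
    sum_filter_const _ _ (((2 : ℕ) : ℂ) ^ 2) (fun θ h => by rw [← irrDeg_cast, h]),
    sum_filter_const _ _ (((3 : ℕ) : ℂ) ^ 2) (fun θ h => by rw [← irrDeg_cast, h]),
    sum_filter_const _ _ (((4 : ℕ) : ℂ) ^ 2) (fun θ h => by rw [← irrDeg_cast, h]),
    card_SL2, hq3] at E1
  set a1 := (Finset.univ.filter (fun θ : IrrCharacter (Matrix.SpecialLinearGroup (Fin 2) F) =>
      irrDeg θ = 1)).card
  set a2 := (Finset.univ.filter (fun θ : IrrCharacter (Matrix.SpecialLinearGroup (Fin 2) F) =>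
      irrDeg θ = 2)).card
  set a3 := (Finset.univ.filter (fun θ : IrrCharacter (Matrix.SpecialLinearGroup (Fin 2) F) =>
      irrDeg θ = 3)).card
  set a4 := (Finset.univ.filter (fun θ : IrrCharacter (Matrix.SpecialLinearGroup (Fin 2) F) =>
      irrDeg θ = 4)).card
  have b1 : a1 + a2 + a3 + a4 = 7 := by
    have : ((a1 + a2 + a3 + a4 : ℕ) : ℂ) = ((7 : ℕ) : ℂ) := by
      push_cast at E3' ⊢
      exact E3'.symm
    exact_mod_cast this
  have b2 : a1 + 4 * a2 + 9 * a3 + 16 * a4 = 24 := by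
    have : ((a1 + 4 * a2 + 9 * a3 + 16 * a4 : ℕ) : ℂ) = ((24 : ℕ) : ℂ) := by
      have e : ((3 * (3 ^ 2 - 1) : ℕ) : ℂ) = 24 := by norm_num
      rw [e] at E1
      push_cast
      rw [← E1]
      push_cast
      ring
    exact_mod_cast this
  have c4 : a4 ≤ 1 := by omega
  have c3 : a3 ≤ 2 := by omega
  interval_cases a4 <;> interval_cases a3 <;> omega

open Classical in
/-- counting by the four degrees -/
theorem card_irr_not_dvd_SL2_three_aux (hq3 : Fintype.card F = 3) (ℓ : ℕ) :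
    Nat.card {χ : IrrCharacter (Matrix.SpecialLinearGroup (Fin 2) F) //
        ¬ ℓ ∣ charDegree (χ : Matrix.SpecialLinearGroup (Fin 2) F → ℂ)} =
      (if ℓ ∣ 1 then 0 else 3) + (if ℓ ∣ 2 then 0 else 3) + (if ℓ ∣ 3 then 0 else 1) := by
  have : Fintype (IrrCharacter (Matrix.SpecialLinearGroup (Fin 2) F)) := Fintype.ofFinite _
  obtain ⟨h1, h2, h3, h4⟩ := card_irr_SL2_three (F := F) hq3
  have hodd : Odd (Fintype.card F) := by rw [hq3]; decide
  have hd : ∀ θ : IrrCharacter (Matrix.SpecialLinearGroup (Fin 2) F),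
      irrDeg θ = 1 ∨ irrDeg θ = 2 ∨ irrDeg θ = 3 ∨ irrDeg θ = 4 := by
    intro θ
    have h := (Cfsg.Agent.S2299.result (F := F) hodd).1 θ.1 θ.2
    rw [hq3] at h
    have e1 : ((3 + 1) / 2 : ℕ) = 2 := by norm_num
    have e2 : ((3 - 1) / 2 : ℕ) = 1 := by norm_num
    rw [e1, e2] at h
    rcases h with h | h | h | h | h | h
    · left; rw [irrDeg_eq_iff, h]; simp
    · right; right; left; rw [irrDeg_eq_iff, h]
    · right; right; right; rw [irrDeg_eq_iff, h]; norm_num
    · right; left; rw [irrDeg_eq_iff, h]; norm_num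
    · right; left; rw [irrDeg_eq_iff, h]
    · left; rw [irrDeg_eq_iff, h]
  have hsplit := sum_by_four (irrDeg (G := Matrix.SpecialLinearGroup (Fin 2) F)) 1 2 3 4
    (by norm_num) (by norm_num) (by norm_num) (by norm_num) (by norm_num) (by norm_num) hd
    (fun θ => if ¬ ℓ ∣ irrDeg θ then (1 : ℂ) else 0)
  have hconst : ∀ v : ℕ, ∑ θ ∈ Finset.univ.filter
      (fun θ : IrrCharacter (Matrix.SpecialLinearGroup (Fin 2) F) => irrDeg θ = v),
      (if ¬ ℓ ∣ irrDeg θ then (1 : ℂ) else 0) =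
      ((if ℓ ∣ v then 0 else (Finset.univ.filter
        (fun θ : IrrCharacter (Matrix.SpecialLinearGroup (Fin 2) F) => irrDeg θ = v)).card : ℕ) : ℂ) := by
    intro v
    rw [Finset.sum_congr rfl (fun θ hθ => by rw [(Finset.mem_filter.mp hθ).2])]
    by_cases hv : ℓ ∣ v
    · simp [hv]
    · simp [hv]
  rw [hconst, hconst, hconst, hconst, h1, h2, h3, h4] at hsplit
  rw [Nat.card_eq_fintype_card, Fintype.card_subtype]
  have hlhs : ((Finset.univ.filter (fun χ : IrrCharacter (Matrix.SpecialLinearGroup (Fin 2) F) =>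
      ¬ ℓ ∣ charDegree (χ : Matrix.SpecialLinearGroup (Fin 2) F → ℂ))).card : ℂ) =
      ∑ θ : IrrCharacter (Matrix.SpecialLinearGroup (Fin 2) F),
        (if ¬ ℓ ∣ irrDeg θ then (1 : ℂ) else 0) := by
    rw [Finset.sum_boole]
    rfl
  have : ((Finset.univ.filter (fun χ : IrrCharacter (Matrix.SpecialLinearGroup (Fin 2) F) =>
      ¬ ℓ ∣ charDegree (χ : Matrix.SpecialLinearGroup (Fin 2) F → ℂ))).card : ℂ) =
      (((if ℓ ∣ 1 then 0 else 3) + (if ℓ ∣ 2 then 0 else 3) + (if ℓ ∣ 3 then 0 else 1) : ℕ) : ℂ) := by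
    rw [hlhs, hsplit]
    push_cast
    simp
  exact_mod_cast this

theorem card_irr_not_dvd_SL2_three_two (hq3 : Fintype.card F = 3) :
    Nat.card {χ : IrrCharacter (Matrix.SpecialLinearGroup (Fin 2) F) //
        ¬ 2 ∣ charDegree (χ : Matrix.SpecialLinearGroup (Fin 2) F → ℂ)} = 4 := by
  rw [card_irr_not_dvd_SL2_three_aux hq3]
  norm_num

theorem card_irr_not_dvd_SL2_three_three (hq3 : Fintype.card F = 3) :
    Nat.card {χ : IrrCharacter (Matrix.SpecialLinearGroup (Fin 2) F) //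
        ¬ 3 ∣ charDegree (χ : Matrix.SpecialLinearGroup (Fin 2) F → ℂ)} = 6 := by
  rw [card_irr_not_dvd_SL2_three_aux hq3]
  norm_num

end Cfsg.Agent.Lib.Helper47
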