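import Cfsg.Agent.Lib.Helper47.McKayCount
import Cfsg.Agent.Lib.Helper47.SylowSL2
import Cfsg.Agent.Lib.Helper47.MonomialCount
import Cfsg.Agent.Lib.Helper47.NonSplitNormalizer

set_option autoImplicit false
set_option linter.unusedSimpArgs false

/-!
# Normalizers of Sylow `ℓ`-subgroups of `SL₂(q)`, `ℓ` odd dividing `q ± 1`, and their characters
-/

namespace Cfsg.Agent.Lib.Helper47

open Matrix Cfsg

section finite
variable {F : Type*} [Field F] [Fintype F]

/-- `ℓ` odd dividing `q - 1`: the Sylow normalizer is isomorphic to the monomial group -/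
theorem nonempty_normalizer_equiv_monomial (hodd : Fintype.card F % 2 = 1) {ℓ : ℕ}
    [Fact ℓ.Prime] (hℓ2 : ℓ ≠ 2) (hdvd : ℓ ∣ Fintype.card F - 1)
    (P : Sylow ℓ (Matrix.SpecialLinearGroup (Fin 2) F)) :
    Nonempty (↥(Subgroup.normalizer ((P : Subgroup (Matrix.SpecialLinearGroup (Fin 2) F)) :
      Set (Matrix.SpecialLinearGroup (Fin 2) F))) ≃* ↥(monomial F)) := by
  classical
  have hℓ : ℓ.Prime := Fact.out
  have hq : 2 ≤ Fintype.card F := Fintype.one_lt_card
  have hidx : ¬ ℓ ∣ (torus F).index := by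
    rw [index_torus]
    intro h
    rcases (Nat.Prime.dvd_mul hℓ).mp h with h | h
    · have : ℓ ∣ 1 := by
        have := Nat.dvd_sub h hdvd
        have e : Fintype.card F - (Fintype.card F - 1) = 1 := by omega
        rwa [e] at this
      exact hℓ.one_lt.ne' (Nat.dvd_one.mp this)
    · have : ℓ ∣ 2 := by
        have := Nat.dvd_sub h hdvd
        have e : Fintype.card F + 1 - (Fintype.card F - 1) = 2 := by omega
        rwa [e] at this
      exact hℓ2 ((Nat.prime_dvd_prime_iff_eq hℓ Nat.prime_two).mp this)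
  have hℓT : ℓ ∣ Nat.card (torus F) := by rw [card_torus]; exact hdvd
  obtain ⟨φ, hC, hN⟩ := sylow_centralizer_normalizer (torus F) torus_comm hℓT hidx
    (fun t ht ht1 hord => (centralizer_torus_elt hℓ hℓ2 t ht ht1 hord).1) P
  obtain ⟨x, hx⟩ := exists_prime_orderOf_dvd_card' (G := torus F) ℓ hℓT
  have hx1 : (x : Matrix.SpecialLinearGroup (Fin 2) F) ≠ 1 := by
    intro h
    have : x = 1 := Subtype.ext h
    rw [this, orderOf_one] at hx
    exact hℓ.one_lt.ne hx
  have hxord : ∃ k, orderOf (x : Matrix.SpecialLinearGroup (Fin 2) F) = ℓ ^ k :=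
    ⟨1, by rw [Subgroup.orderOf_coe, hx, pow_one]⟩
  have hsq := (centralizer_torus_elt hℓ hℓ2 x.1 x.2 hx1 hxord).2
  have hNT := normalizer_torus_eq x.1 x.2.1 x.2.2 hsq
  rw [hNT] at hN
  have e1 : ↥(monomial F) ≃* ↥((monomial F).map φ.toMonoidHom) :=
    Subgroup.equivMapOfInjective _ _ φ.injective
  exact ⟨(MulEquiv.subgroupCongr hN).trans e1.symm⟩

/-- the monomial group: `(q + 5)/2` irreducible characters, all of degree `≤ 2` -/
theorem card_irr_not_dvd_monomial (hodd : Fintype.card F % 2 = 1) (ℓ : ℕ) (hℓ : 3 ≤ ℓ) :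
    2 * Nat.card {χ : IrrCharacter (monomial F) // ¬ ℓ ∣ charDegree (χ : monomial F → ℂ)} =
      Fintype.card F + 5 := by
  have hTN : torus F ≤ monomial F := by
    intro g hg
    rw [mem_monomial_iff]
    exact Or.inl hg
  have hcard : Nat.card (monomial F) = 2 * Nat.card (torus F) := by
    rw [card_monomial, card_torus]
  have hdeg : ∀ χ : IrrCharacter (monomial F), charDegree (χ : monomial F → ℂ) ∣ 2 :=
    charDegree_dvd_two_of_abelian_index_two (monomial F) (torus F) hTN torus_comm hcard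
  rw [card_irr_not_dvd_of_dvd_two_of_odd hdeg ℓ hℓ, card_conjClasses_monomial hodd]
  omega

/-- `ℓ` odd dividing `q + 1`: the Sylow normalizer is isomorphic to the normalizer of a
non-split torus -/
theorem nonempty_normalizer_equiv_nsNormalizer (hodd : Fintype.card F % 2 = 1) {ℓ : ℕ}
    [Fact ℓ.Prime] (hℓ2 : ℓ ≠ 2) (hdvd : ℓ ∣ Fintype.card F + 1) {δ : F} (hδ : ¬ IsSquare δ)
    (P : Sylow ℓ (Matrix.SpecialLinearGroup (Fin 2) F)) :
    Nonempty (↥(Subgroup.normalizer ((P : Subgroup (Matrix.SpecialLinearGroup (Fin 2) F)) :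
      Set (Matrix.SpecialLinearGroup (Fin 2) F))) ≃*
      ↥(Subgroup.normalizer ((nsTorus δ : Subgroup _) :
        Set (Matrix.SpecialLinearGroup (Fin 2) F)))) := by
  classical
  have hℓ : ℓ.Prime := Fact.out
  have hq : 2 ≤ Fintype.card F := Fintype.one_lt_card
  have h2 : (2 : F) ≠ 0 := two_ne_zero_of_odd_card hodd
  have hδ0 := ns_delta_ne_zero hδ
  have hidx : ¬ ℓ ∣ (nsTorus δ).index := by
    rw [index_nsTorus hodd hδ]
    intro h
    rcases (Nat.Prime.dvd_mul hℓ).mp h with h | h
    · have : ℓ ∣ 1 := by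
        have := Nat.dvd_sub hdvd h
        have e : Fintype.card F + 1 - Fintype.card F = 1 := by omega
        rwa [e] at this
      exact hℓ.one_lt.ne' (Nat.dvd_one.mp this)
    · have : ℓ ∣ 2 := by
        have := Nat.dvd_sub hdvd h
        have e : Fintype.card F + 1 - (Fintype.card F - 1) = 2 := by omega
        rwa [e] at this
      exact hℓ2 ((Nat.prime_dvd_prime_iff_eq hℓ Nat.prime_two).mp this)
  have hℓT : ℓ ∣ Nat.card (nsTorus δ) := by rw [card_nsTorus hodd hδ]; exact hdvd
  obtain ⟨φ, hC, hN⟩ := sylow_centralizer_normalizer (nsTorus δ)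
    (fun a ha b hb => IsNs.comm ha hb) hℓT hidx
    (fun t ht ht1 hord => by
      apply centralizer_ns_eq ht
      intro hy
      apply ht1
      have htt : t * t = 1 := by
        rcases IsNs.eq_of_zero ht hy with h | h
        · have : t = 1 := Subtype.ext (by rw [h]; rfl)
          rw [this, mul_one]
        · have : t = negOne := by
            apply Subtype.ext
            rw [h]
            ext i j
            fin_cases i <;> fin_cases j <;> simp [negOne]
          rw [this, negOne_mul_self]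
      exact eq_one_of_mul_self_of_odd_prime_pow hℓ hℓ2 htt hord) P
  have e1 : ↥(Subgroup.normalizer ((nsTorus δ : Subgroup _) :
        Set (Matrix.SpecialLinearGroup (Fin 2) F))) ≃*
      ↥((Subgroup.normalizer ((nsTorus δ : Subgroup _) :
        Set (Matrix.SpecialLinearGroup (Fin 2) F))).map φ.toMonoidHom) :=
    Subgroup.equivMapOfInjective _ _ φ.injective
  exact ⟨(MulEquiv.subgroupCongr hN).trans e1.symm⟩

/-- the normalizer of the non-split torus: `(q + 7)/2` irreducible characters, four linear -/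
theorem card_irr_not_dvd_nsNormalizer (hodd : Fintype.card F % 2 = 1) {δ : F}
    (hδ : ¬ IsSquare δ) :
    Nat.card {χ : IrrCharacter (Subgroup.normalizer ((nsTorus δ : Subgroup _) :
        Set (Matrix.SpecialLinearGroup (Fin 2) F))) //
      ¬ 2 ∣ charDegree (χ : (Subgroup.normalizer ((nsTorus δ : Subgroup _) :
        Set (Matrix.SpecialLinearGroup (Fin 2) F))) → ℂ)} = 4 ∧
    ∀ ℓ : ℕ, 3 ≤ ℓ →
      2 * Nat.card {χ : IrrCharacter (Subgroup.normalizer ((nsTorus δ : Subgroup _) :
          Set (Matrix.SpecialLinearGroup (Fin 2) F))) //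
        ¬ ℓ ∣ charDegree (χ : (Subgroup.normalizer ((nsTorus δ : Subgroup _) :
          Set (Matrix.SpecialLinearGroup (Fin 2) F))) → ℂ)} = Fintype.card F + 7 := by
  classical
  have h2 := two_ne_zero_of_odd_card hodd
  have hδ0 := ns_delta_ne_zero hδ
  obtain ⟨h₀, hh₀⟩ := exists_nsAnti hodd hδ0
  have key := card_irr_not_dvd_of_indexTwo
    (Subgroup.normalizer ((nsTorus δ : Subgroup _) : Set (Matrix.SpecialLinearGroup (Fin 2) F)))
    (nsTorus δ) Subgroup.le_normalizer h₀ (mem_normalizer_nsTorus_of_anti hh₀)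
    (hh₀.not_isNs h2)
    (by
      intro g hg hgT
      rcases (mem_normalizer_nsTorus_iff h2 hδ g).mp hg with h | h
      · exact absurd h hgT
      · exact h.mul hh₀.inv)
    (fun a ha b hb => IsNs.comm ha hb)
    (fun t ht => hh₀.conj' ht)
    negOne negOne_isNs (negOne_ne_one h2) negOne_mul_self
    (fun t ht htt => IsNs.eq_of_mul_self h2 hδ0 ht htt)
  rw [card_nsTorus hodd hδ] at key
  refine ⟨key.1, fun ℓ hℓ => ?_⟩
  rw [key.2 ℓ hℓ]

end finite

end Cfsg.Agent.Lib.Helper47
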