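import Cfsg.Agent.Lib.Helper47.QuaternionMcKay
import Cfsg.Agent.Lib.Helper47.SL2McKayThree
import Cfsg.Agent.Lib.Helper47.SylowSL2
import Cfsg.Agent.Lib.Helper07.SL2NormD
import Cfsg.Agent.Lib.Helper07.SL2QuatMain
import Cfsg.Agent.Lib.Helper59.Q8Action
import Cfsg.Agent.Lib.Helper78.SL23Recognition

set_option autoImplicit false

/-!
# The normalizer of a Sylow `2`-subgroup of `SL₂(q)`, `q` odd, has four irreducible characters of
odd degree
-/

namespace Cfsg.Agent.Lib.Helper47

open Matrix Cfsg

section finite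
variable {F : Type*} [Field F] [Fintype F]

/-- `q(q-1)(q+1) ≡ 8 mod 16` when `q ≡ ±3 mod 8` -/
theorem card_mod_sixteen (q : ℕ) (hq : q % 8 = 3 ∨ q % 8 = 5) :
    (q * (q - 1) * (q + 1)) % 16 = 8 := by
  have h16 : q % 16 = 3 ∨ q % 16 = 5 ∨ q % 16 = 11 ∨ q % 16 = 13 := by omega
  rw [Nat.mul_mod, Nat.mul_mod q]
  rcases h16 with h | h | h | h
  · have h1 : (q - 1) % 16 = 2 := by omega
    have h2 : (q + 1) % 16 = 4 := by omega
    rw [h, h1, h2]
  · have h1 : (q - 1) % 16 = 4 := by omega
    have h2 : (q + 1) % 16 = 6 := by omega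
    rw [h, h1, h2]
  · have h1 : (q - 1) % 16 = 10 := by omega
    have h2 : (q + 1) % 16 = 12 := by omega
    rw [h, h1, h2]
  · have h1 : (q - 1) % 16 = 12 := by omega
    have h2 : (q + 1) % 16 = 14 := by omega
    rw [h, h1, h2]

omit [Fintype F] in
/-- elements of the centre of `SL₂` square to one -/
theorem mul_self_eq_one_of_mem_center {z : Matrix.SpecialLinearGroup (Fin 2) F}
    (hz : z ∈ Subgroup.center (Matrix.SpecialLinearGroup (Fin 2) F)) : z * z = 1 := by
  obtain ⟨r, hr, hz⟩ := Matrix.SpecialLinearGroup.mem_center_iff.mp hz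
  rw [Fintype.card_fin] at hr
  apply Subtype.ext
  rw [Matrix.SpecialLinearGroup.coe_mul, ← hz, ← map_mul, ← sq, hr, map_one]
  rfl

/-- the normalizer of a Sylow `2`-subgroup of `SL₂(q)` has four characters of odd degree -/
theorem card_irr_odd_normalizer_sylow_two (hodd : Odd (Fintype.card F))
    (S : Sylow 2 (Matrix.SpecialLinearGroup (Fin 2) F)) :
    Nat.card {χ : IrrCharacter (Subgroup.normalizer
        ((S : Subgroup (Matrix.SpecialLinearGroup (Fin 2) F)) :
          Set (Matrix.SpecialLinearGroup (Fin 2) F))) //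
      ¬ 2 ∣ charDegree (χ : (Subgroup.normalizer
        ((S : Subgroup (Matrix.SpecialLinearGroup (Fin 2) F)) :
          Set (Matrix.SpecialLinearGroup (Fin 2) F))) → ℂ)} = 4 := by
  classical
  obtain ⟨hC, hN1, hN3⟩ := Cfsg.Agent.Lib.Helper07.sylow_two_SL_two_normalizer hodd S
  obtain ⟨k, hk1, ⟨eS⟩⟩ := Cfsg.Agent.Lib.Helper07.sylow_two_SL_two_quaternion hodd S
  have hodd' : Fintype.card F % 2 = 1 := Nat.odd_iff.mp hodd
  have hq8 : (Fintype.card F % 8 = 1 ∨ Fintype.card F % 8 = 7) ∨
      (Fintype.card F % 8 = 3 ∨ Fintype.card F % 8 = 5) := by omega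
  rcases hq8 with hq8 | hq8
  · -- the normalizer is `S`, a generalized quaternion group
    have hN := hN1 hq8
    have e : ↥(Subgroup.normalizer ((S : Subgroup (Matrix.SpecialLinearGroup (Fin 2) F)) :
        Set (Matrix.SpecialLinearGroup (Fin 2) F))) ≃* QuaternionGroup (2 ^ k) :=
      (MulEquiv.subgroupCongr hN).trans eS
    rw [card_irr_not_dvd_congr e 2]
    exact card_irr_odd_quaternionGroup
  · -- the normalizer has order 24
    have hN := hN3 hq8
    -- `S` has order 8
    have hScard : Nat.card S = 4 * 2 ^ k := by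
      rw [Nat.card_congr eS.toEquiv, Nat.card_eq_fintype_card, QuaternionGroup.card]
    have hk : k = 1 := by
      by_contra hk
      have hk2 : 2 ≤ k := by omega
      have h16 : 16 ∣ Nat.card S := by
        rw [hScard]
        obtain ⟨m, rfl⟩ : ∃ m, k = m + 2 := ⟨k - 2, by omega⟩
        exact ⟨2 ^ m, by ring⟩
      have hdvd : Nat.card S ∣ Nat.card (Matrix.SpecialLinearGroup (Fin 2) F) :=
        Subgroup.card_subgroup_dvd_card _
      rw [card_SL2'] at hdvd
      have := Nat.mod_eq_zero_of_dvd (h16.trans hdvd)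
      rw [card_mod_sixteen _ hq8] at this
      omega
    subst hk
    have hS8 : Nat.card S = 8 := by rw [hScard]; norm_num
    have hN24 : Nat.card (Subgroup.normalizer
        ((S : Subgroup (Matrix.SpecialLinearGroup (Fin 2) F)) :
          Set (Matrix.SpecialLinearGroup (Fin 2) F))) = 24 := by rw [hN, hS8]
    set N := Subgroup.normalizer ((S : Subgroup (Matrix.SpecialLinearGroup (Fin 2) F)) :
          Set (Matrix.SpecialLinearGroup (Fin 2) F)) with hNdef
    set Q : Subgroup N := (S : Subgroup (Matrix.SpecialLinearGroup (Fin 2) F)).subgroupOf N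
      with hQdef
    have hQn : Q.Normal := Subgroup.normal_in_normalizer
    have eQ : Q ≃* QuaternionGroup 2 :=
      (Subgroup.subgroupOfEquivOfLe Subgroup.le_normalizer).trans eS
    -- an element of order three
    obtain ⟨g, hg⟩ := exists_prime_orderOf_dvd_card' (G := N) 3 (by rw [hN24]; norm_num)
    have hg3 : g ^ 3 = 1 := by rw [← hg]; exact pow_orderOf_eq_one g
    have hg1 : g ≠ 1 := by
      intro h
      rw [h, orderOf_one] at hg
      omega
    have hgC : g ∉ Subgroup.centralizer (Q : Set N) := by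
      intro hgc
      have h1 : (g : Matrix.SpecialLinearGroup (Fin 2) F) ∈ Subgroup.centralizer
          ((S : Subgroup (Matrix.SpecialLinearGroup (Fin 2) F)) :
            Set (Matrix.SpecialLinearGroup (Fin 2) F)) := by
        rw [Subgroup.mem_centralizer_iff]
        intro s hs
        have hsN : s ∈ N := Subgroup.le_normalizer hs
        have := (Subgroup.mem_centralizer_iff.mp hgc) ⟨s, hsN⟩ (by
          rw [SetLike.mem_coe, hQdef, Subgroup.mem_subgroupOf]
          exact hs)
        exact congrArg Subtype.val this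
      rw [hC] at h1
      have h2 := mul_self_eq_one_of_mem_center h1
      have h3 : g * g = 1 := Subtype.ext h2
      apply hg1
      calc g = g ^ 3 * (g * g)⁻¹ := by group
        _ = 1 := by rw [hg3, h3]; simp
    obtain ⟨i, j, -, -, hBT⟩ := Cfsg.Agent.Lib.Helper59.exists_bttriple_of_q8 Q eQ g hg3 hgC
    obtain ⟨e⟩ := Cfsg.Agent.Lib.Helper78.nonempty_mulEquiv_SL23 hBT hN24
    rw [card_irr_not_dvd_congr e 2]
    exact card_irr_not_dvd_SL2_three_two (F := ZMod 3) (ZMod.card 3)

end finite

end Cfsg.Agent.Lib.Helper47
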