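import Mathlib
import Cfsg.Prelude.Def_JordanBlocks
import Cfsg.Agent.Lib.Helper73.UCDefs
import Cfsg.Agent.Lib.Helper73.SPCDefs

/-!
# K-SPC-D8 (keystone 267633, pack of helper73 for S2676): final bookkeeping, hypothesis form
-/

set_option autoImplicit false

namespace Cfsg.Agent.Lib.Helper47.SPC

open Matrix Cfsg.Agent.Lib.Helper73.UC Cfsg.Agent.Lib.Helper73.SPC

variable {F : Type*} [Field F]

/-- the type is a class invariant -/
theorem matHasType_of_isConj {m : ℕ} {g g' : ↥(Matrix.symplecticGroup (Fin m) F)} (h : IsConj g g')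
    {μ : Nat.Partition (2 * m)}
    (hg : MatHasType (g : Matrix (Fin m ⊕ Fin m) (Fin m ⊕ Fin m) F) μ) :
    MatHasType (g' : Matrix (Fin m ⊕ Fin m) (Fin m ⊕ Fin m) F) μ := by
  obtain ⟨t, d, e, hd, hmap, hc⟩ := hg
  refine ⟨t, d, e, hd, hmap, hc.trans ?_⟩
  exact (Matrix.symplecticGroup (Fin m) F).subtype.map_isConj h

/-- the all-ones partition -/
def onesPartition (n : ℕ) : Nat.Partition n where
  parts := Multiset.replicate n 1
  parts_pos := by
    intro i hi
    rw [Multiset.eq_of_mem_replicate hi]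
    exact one_pos
  parts_sum := by simp

theorem eq_onesPartition {n : ℕ} (μ : Nat.Partition n) (h : ∀ a ∈ μ.parts, a ≤ 1) :
    μ = onesPartition n := by
  have h1 : ∀ a ∈ μ.parts, a = 1 := fun a ha =>
    le_antisymm (h a ha) (μ.parts_pos ha)
  have h2 : μ.parts = Multiset.replicate (Multiset.card μ.parts) 1 :=
    Multiset.eq_replicate.mpr ⟨rfl, h1⟩
  have h3 : Multiset.card μ.parts = n := by
    have := μ.parts_sum
    rw [h2] at this
    simpa using this
  apply Nat.Partition.ext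
  rw [h2, h3]
  rfl

theorem spWeight_onesPartition (m : ℕ) : spWeight (onesPartition (2 * m)) = 1 := by
  classical
  unfold spWeight
  have hc : ∀ j : ℕ, Odd j → Even ((onesPartition (2 * m)).parts.count j) := by
    intro j _
    show Even (Multiset.count j (Multiset.replicate (2 * m) 1))
    rw [Multiset.count_replicate]
    split_ifs
    · exact even_two_mul m
    · exact Even.zero
  rw [if_pos hc]
  have hf : (onesPartition (2 * m)).parts.toFinset.filter (fun j : ℕ => Even j) = ∅ := by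
    rw [Finset.filter_eq_empty_iff]
    intro j hj
    rw [Multiset.mem_toFinset] at hj
    have : j = 1 := Multiset.eq_of_mem_replicate hj
    rw [this]
    decide
  rw [hf]
  simp

open Classical in
/-- **K-SPC-D8** (267633). -/
theorem card_classes_order_p_of [Fintype F] {p : ℕ} [Fact p.Prime] [CharP F p] (m : ℕ)
    (hord : ∀ g : ↥(Matrix.symplecticGroup (Fin m) F),
      orderOf g = p ↔ ((g : Matrix (Fin m ⊕ Fin m) (Fin m ⊕ Fin m) F) - 1) ^ p = 0 ∧ g ≠ 1)
    (hex : ∀ (A : Matrix (Fin m ⊕ Fin m) (Fin m ⊕ Fin m) F) (r : ℕ), (A - 1) ^ r = 0 →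
      ∃ μ : Nat.Partition (2 * m), MatHasType A μ)
    (huniq : ∀ (A : Matrix (Fin m ⊕ Fin m) (Fin m ⊕ Fin m) F) (μ μ' : Nat.Partition (2 * m)),
      MatHasType A μ → MatHasType A μ' → μ = μ')
    (hpow : ∀ (A : Matrix (Fin m ⊕ Fin m) (Fin m ⊕ Fin m) F) (μ : Nat.Partition (2 * m)),
      MatHasType A μ → ∀ r : ℕ, (A - 1) ^ r = 0 ↔ ∀ a ∈ μ.parts, a ≤ r)
    (hcnt : ∀ μ : Nat.Partition (2 * m),
      Nat.card {C : ConjClasses ↥(Matrix.symplecticGroup (Fin m) F) //
        ∃ g : ↥(Matrix.symplecticGroup (Fin m) F), ConjClasses.mk g = C ∧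
          MatHasType (g : Matrix (Fin m ⊕ Fin m) (Fin m ⊕ Fin m) F) μ} = spWeight μ) :
    Nat.card {C : ConjClasses ↥(Matrix.symplecticGroup (Fin m) F) //
        ∃ g : Matrix.symplecticGroup (Fin m) F, ConjClasses.mk g = C ∧ orderOf g = p} =
      (∑ μ ∈ Finset.univ.filter (fun μ : Nat.Partition (2 * m) =>
          (∀ a ∈ μ.parts, a ≤ p) ∧ ∀ j : ℕ, Odd j → Even (μ.parts.count j)),
        2 ^ ((μ.parts.toFinset.filter (fun j : ℕ => Even j)).card)) - 1 := by
  have hp2 : 2 ≤ p := (Fact.out : p.Prime).two_le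
  -- (B) order `p` in terms of the type
  have hB : ∀ (g : ↥(Matrix.symplecticGroup (Fin m) F)) (μ : Nat.Partition (2 * m)),
      MatHasType (g : Matrix (Fin m ⊕ Fin m) (Fin m ⊕ Fin m) F) μ →
      (orderOf g = p ↔ (∀ a ∈ μ.parts, a ≤ p) ∧ ¬ ∀ a ∈ μ.parts, a ≤ 1) := by
    intro g μ hμ
    rw [hord g]
    constructor
    · rintro ⟨h1, h2⟩
      refine ⟨(hpow _ μ hμ p).mp h1, fun hall => h2 ?_⟩
      have := (hpow _ μ hμ 1).mpr hall
      rw [pow_one, sub_eq_zero] at this
      exact Subtype.ext this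
    · rintro ⟨h1, h2⟩
      refine ⟨(hpow _ μ hμ p).mpr h1, fun hg1 => h2 ?_⟩
      apply (hpow _ μ hμ 1).mp
      rw [hg1]
      simp
  -- the index set
  let T : Finset (Nat.Partition (2 * m)) := Finset.univ.filter
    (fun μ : Nat.Partition (2 * m) => (∀ a ∈ μ.parts, a ≤ p) ∧ ¬ ∀ a ∈ μ.parts, a ≤ 1)
  -- the sigma type
  let f : (Σ μ : T, {C : ConjClasses ↥(Matrix.symplecticGroup (Fin m) F) //
        ∃ g : ↥(Matrix.symplecticGroup (Fin m) F), ConjClasses.mk g = C ∧
          MatHasType (g : Matrix (Fin m ⊕ Fin m) (Fin m ⊕ Fin m) F) (μ : Nat.Partition (2 * m))}) →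
      {C : ConjClasses ↥(Matrix.symplecticGroup (Fin m) F) //
        ∃ g : Matrix.symplecticGroup (Fin m) F, ConjClasses.mk g = C ∧ orderOf g = p} :=
    fun x => ⟨x.2.1, by
      obtain ⟨g, hg, hμ⟩ := x.2.2
      have hT := (Finset.mem_filter.mp x.1.2).2
      exact ⟨g, hg, (hB g _ hμ).mpr hT⟩⟩
  have hf : Function.Bijective f := by
    constructor
    · rintro ⟨⟨μ, hμT⟩, ⟨C, g, hg, hgμ⟩⟩ ⟨⟨μ', hμ'T⟩, ⟨C', g', hg', hgμ'⟩⟩ hxy
      have hCC : C = C' := congrArg Subtype.val hxy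
      subst hCC
      have hconj : IsConj g g' := ConjClasses.mk_eq_mk_iff_isConj.mp (hg.trans hg'.symm)
      have hμμ : μ = μ' := huniq _ μ μ' (matHasType_of_isConj hconj hgμ) hgμ'
      subst hμμ
      rfl
    · rintro ⟨C, g, hg, hgo⟩
      obtain ⟨μ, hμ⟩ := hex (g : Matrix (Fin m ⊕ Fin m) (Fin m ⊕ Fin m) F) p ((hord g).mp hgo).1
      have hT : μ ∈ T := Finset.mem_filter.mpr ⟨Finset.mem_univ _, (hB g μ hμ).mp hgo⟩
      exact ⟨⟨⟨μ, hT⟩, ⟨C, g, hg, hμ⟩⟩, rfl⟩
  rw [← Nat.card_congr (Equiv.ofBijective f hf), Nat.card_sigma]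
  -- the left side is the sum of the weights over `T`
  have hL : (∑ μ : T, Nat.card {C : ConjClasses ↥(Matrix.symplecticGroup (Fin m) F) //
        ∃ g : ↥(Matrix.symplecticGroup (Fin m) F), ConjClasses.mk g = C ∧
          MatHasType (g : Matrix (Fin m ⊕ Fin m) (Fin m ⊕ Fin m) F) (μ : Nat.Partition (2 * m))}) =
      ∑ μ ∈ T, spWeight μ := by
    rw [← Finset.sum_coe_sort T (fun μ => spWeight μ)]
    apply Finset.sum_congr rfl
    intro μ _
    exact hcnt μ
  rw [hL]
  -- the right side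
  have hR : (∑ μ ∈ Finset.univ.filter (fun μ : Nat.Partition (2 * m) =>
          (∀ a ∈ μ.parts, a ≤ p) ∧ ∀ j : ℕ, Odd j → Even (μ.parts.count j)),
        2 ^ ((μ.parts.toFinset.filter (fun j : ℕ => Even j)).card)) =
      ∑ μ ∈ Finset.univ.filter (fun μ : Nat.Partition (2 * m) => ∀ a ∈ μ.parts, a ≤ p),
        spWeight μ := by
    rw [← Finset.filter_filter, Finset.sum_filter]
    apply Finset.sum_congr rfl
    intro μ _
    unfold spWeight
    split_ifs <;> rfl
  rw [hR]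
  have hsplit := Finset.sum_filter_add_sum_filter_not
    (Finset.univ.filter (fun μ : Nat.Partition (2 * m) => ∀ a ∈ μ.parts, a ≤ p))
    (fun μ : Nat.Partition (2 * m) => ∀ a ∈ μ.parts, a ≤ 1) (fun μ => spWeight μ)
  have h1 : (Finset.univ.filter (fun μ : Nat.Partition (2 * m) => ∀ a ∈ μ.parts, a ≤ p)).filter
      (fun μ : Nat.Partition (2 * m) => ∀ a ∈ μ.parts, a ≤ 1) = {onesPartition (2 * m)} := by
    ext μ
    rw [Finset.mem_filter, Finset.mem_filter, Finset.mem_singleton]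
    constructor
    · rintro ⟨-, h⟩
      exact eq_onesPartition μ h
    · intro h
      subst h
      have hle1 : ∀ a ∈ (onesPartition (2 * m)).parts, a ≤ 1 := by
        intro a ha
        exact (Multiset.eq_of_mem_replicate ha).le
      exact ⟨⟨Finset.mem_univ _, fun a ha => (hle1 a ha).trans (by omega)⟩, hle1⟩
  have h2 : (Finset.univ.filter (fun μ : Nat.Partition (2 * m) => ∀ a ∈ μ.parts, a ≤ p)).filter
      (fun μ : Nat.Partition (2 * m) => ¬ ∀ a ∈ μ.parts, a ≤ 1) = T := by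
    rw [Finset.filter_filter]
  rw [h1, h2, Finset.sum_singleton, spWeight_onesPartition] at hsplit
  omega

end Cfsg.Agent.Lib.Helper47.SPC
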