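import Mathlib
import Cfsg.Prelude.Def_LieExceptional

/-!
# K-StOp-ABS1 (keystone 254830, S2548 pack of helper49)

(B,N)-axioms for `B`, `N`, `S` inside a group `X` give a `Cfsg.BNPair` on the subgroup `B ⊔ N`.
-/

set_option autoImplicit false

namespace Cfsg.Agent.Lib.Helper47.StOp

open Cfsg

theorem exists_bnPair_sup {X : Type*} [Group X] (B N : Subgroup X) (S : Set X)
    (conj_mem : ∀ n ∈ N, ∀ t ∈ B ⊓ N, n * t * n⁻¹ ∈ B)
    (subset : S ⊆ (N : Set X))
    (sq_mem : ∀ s ∈ S, s * s ∈ B)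
    (inj : ∀ s ∈ S, ∀ s' ∈ S, s⁻¹ * s' ∈ B → s = s')
    (closure_sup : Subgroup.closure S ⊔ (B ⊓ N) = N)
    (mul_mem_union : ∀ s ∈ S, ∀ n ∈ N, ∀ b ∈ B,
      s * b * n ∈ DoubleCoset.doubleCoset (s * n) (B : Set X) B ∪
        DoubleCoset.doubleCoset n (B : Set X) B)
    (conj_ne : ∀ s ∈ S, (fun b : X => s * b * s) '' (B : Set X) ≠ (B : Set X)) :
    ∃ P : Cfsg.BNPair ↥(B ⊔ N), P.B = B.subgroupOf (B ⊔ N) ∧ P.N = N.subgroupOf (B ⊔ N) := by
  have hBY : B ≤ B ⊔ N := le_sup_left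
  have hNY : N ≤ B ⊔ N := le_sup_right
  refine ⟨{ B := B.subgroupOf (B ⊔ N)
            N := N.subgroupOf (B ⊔ N)
            S := {y : ↥(B ⊔ N) | (y : X) ∈ S}
            sup_eq_top := ?_
            conj_mem := ?_
            subset := ?_
            sq_mem := ?_
            inj := ?_
            closure_sup := ?_
            mul_mem_union := ?_
            conj_ne := ?_ }, rfl, rfl⟩
  · rw [← Subgroup.subgroupOf_sup hBY hNY, Subgroup.subgroupOf_self]
  · intro n hn t ht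
    rw [Subgroup.mem_subgroupOf] at hn
    rw [Subgroup.mem_inf, Subgroup.mem_subgroupOf, Subgroup.mem_subgroupOf] at ht
    rw [Subgroup.mem_subgroupOf]
    simpa using conj_mem (n : X) hn (t : X) ⟨ht.1, ht.2⟩
  · intro s hs
    exact Subgroup.mem_subgroupOf.mpr (subset hs)
  · intro s hs
    rw [Subgroup.mem_subgroupOf]
    simpa using sq_mem (s : X) hs
  · intro s hs s' hs' h
    rw [Subgroup.mem_subgroupOf] at h
    apply Subtype.ext
    apply inj (s : X) hs (s' : X) hs'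
    simpa using h
  · apply Subgroup.map_injective (Subgroup.subtype_injective (B ⊔ N))
    rw [Subgroup.map_sup, Subgroup.map_inf _ _ _ (Subgroup.subtype_injective (B ⊔ N)),
      Subgroup.subgroupOf_map_subtype, Subgroup.subgroupOf_map_subtype,
      inf_eq_left.mpr hBY, inf_eq_left.mpr hNY, MonoidHom.map_closure]
    have hS : (⇑(B ⊔ N).subtype) '' {y : ↥(B ⊔ N) | (y : X) ∈ S} = S := by
      ext z
      constructor
      · rintro ⟨y, hy, rfl⟩
        exact hy
      · intro hz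
        exact ⟨⟨z, hNY (subset hz)⟩, hz, rfl⟩
    rw [hS, closure_sup]
  · intro s hs n hn b hb
    rw [Subgroup.mem_subgroupOf] at hn hb
    have h := mul_mem_union (s : X) hs (n : X) hn (b : X) hb
    rcases h with h | h
    · left
      rw [DoubleCoset.mem_doubleCoset] at h ⊢
      obtain ⟨x, hx, y, hy, hxy⟩ := h
      refine ⟨⟨x, hBY hx⟩, Subgroup.mem_subgroupOf.mpr hx, ⟨y, hBY hy⟩,
        Subgroup.mem_subgroupOf.mpr hy, ?_⟩
      apply Subtype.ext
      simpa using hxy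
    · right
      rw [DoubleCoset.mem_doubleCoset] at h ⊢
      obtain ⟨x, hx, y, hy, hxy⟩ := h
      refine ⟨⟨x, hBY hx⟩, Subgroup.mem_subgroupOf.mpr hx, ⟨y, hBY hy⟩,
        Subgroup.mem_subgroupOf.mpr hy, ?_⟩
      apply Subtype.ext
      simpa using hxy
  · intro s hs h
    apply conj_ne (s : X) hs
    ext z
    constructor
    · rintro ⟨b, hb, rfl⟩
      have hb' : (⟨b, hBY hb⟩ : ↥(B ⊔ N)) ∈ ((B.subgroupOf (B ⊔ N) : Subgroup ↥(B ⊔ N)) : Set ↥(B ⊔ N)) :=
        Subgroup.mem_subgroupOf.mpr hb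
      have h1 : s * ⟨b, hBY hb⟩ * s ∈ ((B.subgroupOf (B ⊔ N) : Subgroup ↥(B ⊔ N)) : Set ↥(B ⊔ N)) := by
        rw [← h]
        exact ⟨_, hb', rfl⟩
      have h2 := Subgroup.mem_subgroupOf.mp h1
      simpa using h2
    · intro hz
      have hz' : (⟨z, hBY hz⟩ : ↥(B ⊔ N)) ∈ ((B.subgroupOf (B ⊔ N) : Subgroup ↥(B ⊔ N)) : Set ↥(B ⊔ N)) :=
        Subgroup.mem_subgroupOf.mpr hz
      rw [← h] at hz'
      obtain ⟨c, hc, hcz⟩ := hz'
      refine ⟨(c : X), Subgroup.mem_subgroupOf.mp hc, ?_⟩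
      have := congrArg (fun y : ↥(B ⊔ N) => (y : X)) hcz
      simpa using this

end Cfsg.Agent.Lib.Helper47.StOp
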