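import Mathlib
import Cfsg.Agent.Lib.Helper40.T1904Defs

/-!
# S1904, keystone K13b (`T1_free`): exponent at least 8 forces `C_X(B²) = B`.

Route (slightly simpler than the architect's sketch).  Put `Y = C_X(B²)` and suppose `y₁ ∈ Y ∖ B`.
(A) the trace argument gives some `y ∈ Y ∖ B` with `y² ∈ B²`;
(B) correcting by elements of `B` gives an involution `t ∈ Y ∖ B`;
(C) all conjugates of `t` lie in `t Ω₁(B)`, so `Ω₁(B) ∪ t Ω₁(B)` is a normal abelian subgroup with more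
    than four elements of square one: contradiction.
-/

set_option autoImplicit false

namespace Cfsg.Agent.Lib.Helper47.T1904

open Cfsg.Agent.Lib.Helper40.T1904

universe u_1

variable {X : Type u_1} [Group X]

/-- In a type with at most four elements, four distinct elements are everything. -/
theorem four_elts {S : Type*} [Finite S] (h4 : Nat.card S ≤ 4) (a b c d : S)
    (hab : a ≠ b) (hac : a ≠ c) (had : a ≠ d) (hbc : b ≠ c) (hbd : b ≠ d) (hcd : c ≠ d) (e : S) :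
    e = a ∨ e = b ∨ e = c ∨ e = d := by
  classical
  have := Fintype.ofFinite S
  have hT : ({a, b, c, d} : Finset S).card = 4 := by
    rw [Finset.card_insert_of_notMem, Finset.card_insert_of_notMem, Finset.card_insert_of_notMem,
      Finset.card_singleton]
    · simp only [Finset.mem_singleton]; exact hcd
    · simp only [Finset.mem_insert, Finset.mem_singleton, not_or]; exact ⟨hbc, hbd⟩
    · simp only [Finset.mem_insert, Finset.mem_singleton, not_or]; exact ⟨hab, hac, had⟩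
  have hU : ({a, b, c, d} : Finset S) = Finset.univ := by
    apply Finset.eq_univ_of_card
    rw [hT]
    apply le_antisymm
    · rw [← hT]; exact Finset.card_le_univ _
    · rw [← Nat.card_eq_fintype_card]; exact h4
  have hmem := Finset.mem_univ e
  rw [← hU] at hmem
  simpa only [Finset.mem_insert, Finset.mem_singleton] using hmem

/-- A group of order three of automorphisms: a generator. -/
theorem exists_gen3 {A : Subgroup (MulAut X)} (hA3 : Nat.card A = 3) :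
    ∃ g ∈ A, (∀ x : X, g (g (g x)) = x) ∧ ∀ φ ∈ A, φ = 1 ∨ φ = g ∨ φ = g * g := by
  have : Fact (Nat.Prime 3) := ⟨by norm_num⟩
  have hcyc : IsCyclic A := isCyclic_of_prime_card hA3
  obtain ⟨g, hg⟩ := IsCyclic.exists_generator (α := A)
  have hord : orderOf g = 3 := by
    rw [orderOf_eq_card_of_forall_mem_zpowers hg, hA3]
  have hg3 : g ^ 3 = 1 := by rw [← hord]; exact pow_orderOf_eq_one g
  refine ⟨g.1, g.2, ?_, ?_⟩
  · intro x
    have h1 : ((g ^ 3 : A) : MulAut X) x = x := by rw [hg3]; rfl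
    have h2 : ((g ^ 3 : A) : MulAut X) = g.1 * (g.1 * g.1) := by
      rw [pow_succ', pow_two]; rfl
    rw [h2] at h1
    exact h1
  · intro φ hφ
    obtain ⟨k, hk⟩ := Subgroup.mem_zpowers_iff.mp (hg ⟨φ, hφ⟩)
    have hk' : g ^ (k % 3) = ⟨φ, hφ⟩ := by
      rw [← hk]
      have := zpow_mod_orderOf g k
      rw [hord] at this
      exact this
    have hlt : k % 3 < 3 := Int.emod_lt_of_pos k (by norm_num)
    have hge : 0 ≤ k % 3 := Int.emod_nonneg k (by norm_num)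
    have hcases : k % 3 = 0 ∨ k % 3 = 1 ∨ k % 3 = 2 := by omega
    rcases hcases with h0 | h0 | h0
    · left
      rw [h0, zpow_zero] at hk'
      exact (congrArg Subtype.val hk').symm
    · right; left
      rw [h0, zpow_one] at hk'
      exact (congrArg Subtype.val hk').symm
    · right; right
      rw [h0] at hk'
      have : (g ^ (2 : ℤ) : A) = g * g := by
        rw [zpow_ofNat, pow_two]
      rw [this] at hk'
      exact (congrArg Subtype.val hk').symm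

/-- The exponent of `B` is `2 ^ c` with `c ≥ 3`. -/
theorem exists_exp [Finite X] (h2 : IsPGroup 2 X) (B : Subgroup X) (h8 : ∃ b ∈ B, b ^ 4 ≠ 1) :
    ∃ c : ℕ, 3 ≤ c ∧ (∀ b ∈ B, b ^ (2 ^ c) = 1) ∧ ∃ b ∈ B, b ^ (2 ^ (c - 1)) ≠ 1 := by
  classical
  have hex : ∃ c : ℕ, ∀ b ∈ B, b ^ (2 ^ c) = 1 := by
    obtain ⟨n, hn⟩ := IsPGroup.iff_card.mp h2
    refine ⟨n, fun b _ => ?_⟩
    rw [← hn]
    exact pow_card_eq_one'
  let c := Nat.find hex
  have hc : ∀ b ∈ B, b ^ (2 ^ c) = 1 := Nat.find_spec hex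
  obtain ⟨b0, hb0, hb04⟩ := h8
  have hc3 : 3 ≤ c := by
    by_contra hlt
    push Not at hlt
    apply hb04
    have h1 : b0 ^ (2 ^ c) = 1 := hc b0 hb0
    have h2 : (2 : ℕ) ^ c ∣ 4 := by
      have : c ≤ 2 := by omega
      calc (2 : ℕ) ^ c ∣ 2 ^ 2 := pow_dvd_pow 2 this
        _ = 4 := by norm_num
    obtain ⟨r, hr⟩ := h2
    rw [hr, pow_mul, h1, one_pow]
  refine ⟨c, hc3, hc, ?_⟩
  by_contra hno
  push Not at hno
  have : c ≤ c - 1 := Nat.find_min' hex hno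
  omega


/-- The cleaned-up standing hypotheses of K13b: `g` generates `A`, `m = 2 ^ (c - 1)`. -/
structure Setup (B : Subgroup X) (g : MulAut X) (m : ℕ) : Prop where
  hBn : B.Normal
  hBa : ∀ a ∈ B, ∀ b ∈ B, a * b = b * a
  hgB : ∀ b ∈ B, g b ∈ B
  hg3 : ∀ x : X, g (g (g x)) = x
  hfpf : ∀ b ∈ B, g b = b → b = 1
  hsc : ∀ x : X, (∀ b ∈ B, x * b = b * x) → x ∈ B
  hmod : ∀ x : X, ∀ b ∈ B, ∃ d ∈ B, x * b * x⁻¹ = b * (d * d)
  hVc : ∀ v ∈ B, v * v = 1 → ∀ x : X, x * v = v * x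
  hΩ2 : ∀ b ∈ B, (b * b) * (b * b) = 1 → ∃ d ∈ B, b = d * d
  hV4 : ∀ w ∈ B, w * w = 1 → ∃ f ∈ B, w = (f * f) * (f * f)
  hm2 : ∀ b ∈ B, b ^ m * b ^ m = 1
  hmker : ∀ b ∈ B, b ^ m = 1 ↔ ∃ d ∈ B, b = d * d
  hu : ∃ u ∈ B, u * u = 1 ∧ u ≠ 1
  hR : ∀ N : Subgroup X, N.Normal → Ab N → Nat.card {t : X // t ∈ N ∧ t * t = 1} ≤ 4
  hN1 : ∀ y : X, (∀ b ∈ B, y * (b * b) = (b * b) * y) → y⁻¹ * g y ∈ B → y ∈ B

/-- `y` centralizes the squares of `B`. -/
def InY (B : Subgroup X) (y : X) : Prop := ∀ b ∈ B, y * (b * b) = (b * b) * y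

/-- the commutator `y b y⁻¹ b⁻¹`. -/
def cm (y b : X) : X := y * b * y⁻¹ * b⁻¹

section basics

variable {B : Subgroup X} {g : MulAut X} {m : ℕ}

theorem conj_eq (y b : X) : y * b * y⁻¹ = cm y b * b := by
  unfold cm; group

theorem cm_eq_one_iff (y b : X) : cm y b = 1 ↔ y * b = b * y := by
  unfold cm
  constructor
  · intro h
    have : y * b * y⁻¹ * b⁻¹ * (b * y) = 1 * (b * y) := by rw [h]
    rw [one_mul] at this
    rw [← this]; group
  · intro h
    calc y * b * y⁻¹ * b⁻¹ = (y * b) * y⁻¹ * b⁻¹ := by group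
      _ = (b * y) * y⁻¹ * b⁻¹ := by rw [h]
      _ = 1 := by group

theorem cm_g (g : MulAut X) (y b : X) : cm (g y) (g b) = g (cm y b) := by
  unfold cm
  simp only [map_mul, map_inv]

theorem InY.of_mem (S : Setup B g m) {b : X} (hb : b ∈ B) : InY B b := by
  intro d hd
  exact S.hBa b hb (d * d) (B.mul_mem hd hd)

theorem InY.mul {y y' : X} (hy : InY B y) (hy' : InY B y') : InY B (y * y') := by
  intro b hb
  calc y * y' * (b * b) = y * (y' * (b * b)) := by group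
    _ = y * ((b * b) * y') := by rw [hy' b hb]
    _ = (y * (b * b)) * y' := by group
    _ = ((b * b) * y) * y' := by rw [hy b hb]
    _ = b * b * (y * y') := by group

theorem InY.inv {y : X} (hy : InY B y) : InY B y⁻¹ := by
  intro b hb
  calc y⁻¹ * (b * b) = y⁻¹ * ((b * b) * y) * y⁻¹ := by group
    _ = y⁻¹ * (y * (b * b)) * y⁻¹ := by rw [hy b hb]
    _ = b * b * y⁻¹ := by group

theorem InY.map (S : Setup B g m) {y : X} (hy : InY B y) : InY B (g y) := by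
  intro b hb
  have hb' : g (g b) ∈ B := S.hgB _ (S.hgB _ hb)
  have h1 : g (g (g b)) = b := S.hg3 b
  have h2 := hy _ hb'
  have h3 := congrArg g h2
  simp only [map_mul, h1] at h3
  exact h3

theorem InY.conj (S : Setup B g m) {y : X} (hy : InY B y) (x : X) : InY B (x * y * x⁻¹) := by
  intro b hb
  have hb' : x⁻¹ * b * x ∈ B := by
    have := S.hBn.conj_mem b hb x⁻¹
    simpa using this
  have h2 := hy _ hb'
  calc x * y * x⁻¹ * (b * b) = x * (y * ((x⁻¹ * b * x) * (x⁻¹ * b * x))) * x⁻¹ := by group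
    _ = x * (((x⁻¹ * b * x) * (x⁻¹ * b * x)) * y) * x⁻¹ := by rw [h2]
    _ = b * b * (x * y * x⁻¹) := by group

theorem cm_mem (S : Setup B g m) (y : X) {b : X} (hb : b ∈ B) : cm y b ∈ B := by
  unfold cm
  exact B.mul_mem (S.hBn.conj_mem b hb y) (B.inv_mem hb)

theorem cm_sq (S : Setup B g m) {y : X} (hy : InY B y) {b : X} (hb : b ∈ B) :
    cm y b * cm y b = 1 := by
  have ha : y * b * y⁻¹ ∈ B := S.hBn.conj_mem b hb y
  have hbi : b⁻¹ ∈ B := B.inv_mem hb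
  have hc : b⁻¹ * (y * b * y⁻¹) = (y * b * y⁻¹) * b⁻¹ := S.hBa _ hbi _ ha
  have hyb : y * (b * b) = (b * b) * y := hy b hb
  unfold cm
  calc y * b * y⁻¹ * b⁻¹ * (y * b * y⁻¹ * b⁻¹)
      = y * b * y⁻¹ * (b⁻¹ * (y * b * y⁻¹)) * b⁻¹ := by group
    _ = y * b * y⁻¹ * ((y * b * y⁻¹) * b⁻¹) * b⁻¹ := by rw [hc]
    _ = (y * (b * b)) * y⁻¹ * b⁻¹ * b⁻¹ := by group
    _ = ((b * b) * y) * y⁻¹ * b⁻¹ * b⁻¹ := by rw [hyb]
    _ = 1 := by group

theorem cm_central (S : Setup B g m) {y : X} (hy : InY B y) {b : X} (hb : b ∈ B) (x : X) :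
    x * cm y b = cm y b * x :=
  S.hVc _ (cm_mem S y hb) (cm_sq S hy hb) x

theorem cm_mul_right (S : Setup B g m) (y : X) {b b' : X} (hb : b ∈ B) (hb' : b' ∈ B) :
    cm y (b * b') = cm y b * cm y b' := by
  have ha' : y * b' * y⁻¹ ∈ B := S.hBn.conj_mem b' hb' y
  have hbi : b⁻¹ ∈ B := B.inv_mem hb
  have hbi' : b'⁻¹ ∈ B := B.inv_mem hb'
  have hc : (y * b' * y⁻¹ * b'⁻¹) * b⁻¹ = b⁻¹ * (y * b' * y⁻¹ * b'⁻¹) :=
    S.hBa _ (B.mul_mem ha' hbi') _ hbi
  unfold cm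
  calc y * (b * b') * y⁻¹ * (b * b')⁻¹
      = y * b * y⁻¹ * ((y * b' * y⁻¹ * b'⁻¹) * b⁻¹) := by group
    _ = y * b * y⁻¹ * (b⁻¹ * (y * b' * y⁻¹ * b'⁻¹)) := by rw [hc]
    _ = y * b * y⁻¹ * b⁻¹ * (y * b' * y⁻¹ * b'⁻¹) := by group

theorem cm_one (y : X) : cm y 1 = 1 := by
  unfold cm; group

theorem cm_sqarg {y : X} (hy : InY B y) {d : X} (hd : d ∈ B) : cm y (d * d) = 1 := by
  rw [cm_eq_one_iff]
  exact hy d hd

theorem cm_congr (S : Setup B g m) {y : X} (hy : InY B y) {b d : X} (hb : b ∈ B) (hd : d ∈ B) :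
    cm y (b * (d * d)) = cm y b := by
  rw [cm_mul_right S y hb (B.mul_mem hd hd), cm_sqarg hy hd, mul_one]

theorem cm_mul_left (S : Setup B g m) (y : X) {y' : X} (hy' : InY B y') {b : X} (hb : b ∈ B) :
    cm (y * y') b = cm y b * cm y' b := by
  have hc : y * cm y' b = cm y' b * y := cm_central S hy' hb y
  have hc2 : (y * b * y⁻¹ * b⁻¹) * cm y' b = cm y' b * (y * b * y⁻¹ * b⁻¹) :=
    cm_central S hy' hb _
  calc cm (y * y') b = y * (y' * b * y'⁻¹) * y⁻¹ * b⁻¹ := by unfold cm; group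
    _ = y * (cm y' b * b) * y⁻¹ * b⁻¹ := by rw [conj_eq y' b]
    _ = (y * cm y' b) * b * y⁻¹ * b⁻¹ := by group
    _ = (cm y' b * y) * b * y⁻¹ * b⁻¹ := by rw [hc]
    _ = cm y' b * (y * b * y⁻¹ * b⁻¹) := by group
    _ = (y * b * y⁻¹ * b⁻¹) * cm y' b := by rw [hc2]
    _ = cm y b * cm y' b := by unfold cm; rfl

theorem mem_of_cm (S : Setup B g m) (y : X) (h : ∀ b ∈ B, cm y b = 1) : y ∈ B :=
  S.hsc y (fun b hb => (cm_eq_one_iff y b).mp (h b hb))

theorem cm_of_mem (S : Setup B g m) {y b : X} (hy : y ∈ B) (hb : b ∈ B) : cm y b = 1 :=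
  (cm_eq_one_iff y b).mpr (S.hBa y hy b hb)

theorem sq_mem (S : Setup B g m) {y : X} (hy : InY B y) : y * y ∈ B := by
  apply mem_of_cm S
  intro b hb
  rw [cm_mul_left S y hy hb, cm_sq S hy hb]

/-- `Y / B` is abelian. -/
theorem comm_mem (S : Setup B g m) {y y' : X} (hy : InY B y) (hy' : InY B y') :
    (y' * y)⁻¹ * (y * y') ∈ B := by
  apply S.hsc
  intro b hb
  have h1 : cm (y * y') b = cm (y' * y) b := by
    rw [cm_mul_left S y hy' hb, cm_mul_left S y' hy hb]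
    exact S.hBa _ (cm_mem S y hb) _ (cm_mem S y' hb)
  have h2 : (y * y') * b * (y * y')⁻¹ = (y' * y) * b * (y' * y)⁻¹ := by
    rw [conj_eq, conj_eq, h1]
  calc (y' * y)⁻¹ * (y * y') * b
      = (y' * y)⁻¹ * ((y * y') * b * (y * y')⁻¹) * (y * y') := by group
    _ = (y' * y)⁻¹ * ((y' * y) * b * (y' * y)⁻¹) * (y * y') := by rw [h2]
    _ = b * ((y' * y)⁻¹ * (y * y')) := by group

/-- the norm of an element of `B` is trivial. -/
theorem norm_eq_one (S : Setup B g m) {b : X} (hb : b ∈ B) : b * g b * g (g b) = 1 := by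
  have h1 : g b ∈ B := S.hgB b hb
  have h2 : g (g b) ∈ B := S.hgB _ h1
  apply S.hfpf _ (B.mul_mem (B.mul_mem hb h1) h2)
  rw [map_mul, map_mul, S.hg3 b]
  have hc : b * (g b * g (g b)) = (g b * g (g b)) * b := S.hBa b hb _ (B.mul_mem h1 h2)
  calc g b * g (g b) * b = b * (g b * g (g b)) := hc.symm
    _ = b * g b * g (g b) := by group


/-- `Ω₁(B) = {1, u, g u, u * g u}` for every nonidentity `u ∈ Ω₁(B)`; more generally any normal abelian
subgroup containing `Ω₁(B)` has no other element of square one. -/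
theorem V4 [Finite X] (S : Setup B g m) {u : X} (huB : u ∈ B) (hu2 : u * u = 1) (hu1 : u ≠ 1)
    (N : Subgroup X) (hNn : N.Normal) (hNa : Ab N) (hVN : ∀ v ∈ B, v * v = 1 → v ∈ N)
    {e : X} (heN : e ∈ N) (he2 : e * e = 1) : e = 1 ∨ e = u ∨ e = g u ∨ e = u * g u := by
  have hguB : g u ∈ B := S.hgB u huB
  have hgu2 : g u * g u = 1 := by rw [← map_mul, hu2, map_one]
  have hgu1 : g u ≠ 1 := by
    intro h
    exact hu1 ((map_eq_one_iff g g.injective).mp h)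
  have hgu : g u ≠ u := fun h => hu1 (S.hfpf u huB h)
  have hcomm : u * g u = g u * u := S.hBa u huB _ hguB
  have hp2 : (u * g u) * (u * g u) = 1 := by
    calc (u * g u) * (u * g u) = u * (g u * u) * g u := by group
      _ = u * (u * g u) * g u := by rw [hcomm]
      _ = (u * u) * (g u * g u) := by group
      _ = 1 := by rw [hu2, hgu2, one_mul]
  have hp1 : u * g u ≠ 1 := by
    intro h
    apply hgu
    calc g u = (u * u) * g u := by rw [hu2, one_mul]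
      _ = u * (u * g u) := by group
      _ = u := by rw [h, mul_one]
  let T := {t : X // t ∈ N ∧ t * t = 1}
  let e1 : T := ⟨1, N.one_mem, by simp⟩
  let e2 : T := ⟨u, hVN u huB hu2, hu2⟩
  let e3 : T := ⟨g u, hVN _ hguB hgu2, hgu2⟩
  let e4 : T := ⟨u * g u, hVN _ (B.mul_mem huB hguB) hp2, hp2⟩
  let e5 : T := ⟨e, heN, he2⟩
  have d12 : e1 ≠ e2 := fun hh => hu1 (congrArg Subtype.val hh).symm
  have d13 : e1 ≠ e3 := fun hh => hgu1 (congrArg Subtype.val hh).symm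
  have d14 : e1 ≠ e4 := fun hh => hp1 (congrArg Subtype.val hh).symm
  have d23 : e2 ≠ e3 := fun hh => hgu (congrArg Subtype.val hh).symm
  have d24 : e2 ≠ e4 := by
    intro hh
    have h1 : u = u * g u := congrArg Subtype.val hh
    apply hgu1
    have : u * g u = u * 1 := by rw [mul_one, ← h1]
    exact mul_left_cancel this
  have d34 : e3 ≠ e4 := by
    intro hh
    have h1 : g u = u * g u := congrArg Subtype.val hh
    apply hu1
    have : u * g u = 1 * g u := by rw [one_mul, ← h1]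
    exact mul_right_cancel this
  have h4 : Nat.card T ≤ 4 := S.hR N hNn hNa
  rcases four_elts h4 e1 e2 e3 e4 d12 d13 d14 d23 d24 d34 e5 with h5 | h5 | h5 | h5
  · left; exact congrArg Subtype.val h5
  · right; left; exact congrArg Subtype.val h5
  · right; right; left; exact congrArg Subtype.val h5
  · right; right; right; exact congrArg Subtype.val h5

/-- `B / B²` has the four classes of `1, k, g k, k * g k` for any `k ∉ B²`. -/
theorem four_classes [Finite X] (S : Setup B g m) {k : X} (hkB : k ∈ B) (hk : ∀ d ∈ B, k ≠ d * d)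
    {b : X} (hb : b ∈ B) :
    ∃ d ∈ B, b = d * d ∨ b = k * (d * d) ∨ b = g k * (d * d) ∨ b = (k * g k) * (d * d) := by
  have hgkB : g k ∈ B := S.hgB k hkB
  have huB : k ^ m ∈ B := B.pow_mem hkB m
  have hu1 : k ^ m ≠ 1 := by
    intro h
    obtain ⟨d, hd, hkd⟩ := (S.hmker k hkB).mp h
    exact hk d hd hkd
  have hBab : Ab B := S.hBa
  have hVB : ∀ v ∈ B, v * v = 1 → v ∈ B := fun v hv _ => hv
  -- reduce: if `b ^ m = a ^ m` with `a ∈ B` then `b = a * d²`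
  have key : ∀ a ∈ B, b ^ m = a ^ m → ∃ d ∈ B, b = a * (d * d) := by
    intro a ha hba
    have hai : a⁻¹ ∈ B := B.inv_mem ha
    have hcomm : Commute b a⁻¹ := S.hBa b hb _ hai
    have h1 : (b * a⁻¹) ^ m = 1 := by
      rw [hcomm.mul_pow, hba, inv_pow, mul_inv_cancel]
    obtain ⟨d, hd, hbd⟩ := (S.hmker _ (B.mul_mem hb hai)).mp h1
    refine ⟨d, hd, ?_⟩
    calc b = a * (b * a⁻¹) := by
          rw [S.hBa b hb _ hai]; group
      _ = a * (d * d) := by rw [hbd]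
  rcases V4 S huB (S.hm2 k hkB) hu1 B S.hBn hBab hVB (B.pow_mem hb m) (S.hm2 b hb)
    with h | h | h | h
  · obtain ⟨d, hd, hbd⟩ := (S.hmker b hb).mp h
    exact ⟨d, hd, Or.inl hbd⟩
  · obtain ⟨d, hd, hbd⟩ := key k hkB h
    exact ⟨d, hd, Or.inr (Or.inl hbd)⟩
  · obtain ⟨d, hd, hbd⟩ := key (g k) hgkB (by rw [h, map_pow])
    exact ⟨d, hd, Or.inr (Or.inr (Or.inl hbd))⟩
  · have hcomm : Commute k (g k) := S.hBa k hkB _ hgkB
    obtain ⟨d, hd, hbd⟩ := key (k * g k) (B.mul_mem hkB hgkB) (by rw [h, hcomm.mul_pow, map_pow])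
    exact ⟨d, hd, Or.inr (Or.inr (Or.inr hbd))⟩


/-- Part (A): the trace argument. -/
theorem partA [Finite X] (S : Setup B g m) {y₁ : X} (hy₁ : InY B y₁) (hy₁B : y₁ ∉ B) :
    ∃ y, InY B y ∧ y ∉ B ∧ ∃ d ∈ B, y * y = d * d := by
  by_contra hcon
  push Not at hcon
  have hkB : y₁ * y₁ ∈ B := sq_mem S hy₁
  have hk : ∀ d ∈ B, y₁ * y₁ ≠ d * d := hcon y₁ hy₁ hy₁B
  have c1k : cm y₁ (y₁ * y₁) = 1 := by
    rw [cm_eq_one_iff]; group
  generalize y₁ * y₁ = k at hkB hk c1k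
  have hgkB : g k ∈ B := S.hgB k hkB
  have hggkB : g (g k) ∈ B := S.hgB _ hgkB
  have hy₂ : InY B (g y₁) := hy₁.map S
  have hy₃ : InY B (g (g y₁)) := hy₂.map S
  -- the product of the three conjugates lies in `B`
  have hp : y₁ * (g y₁ * g (g y₁)) ∈ B := by
    apply S.hN1
    · exact hy₁.mul (hy₂.mul hy₃)
    · have : g (y₁ * (g y₁ * g (g y₁))) = (g y₁ * g (g y₁)) * y₁ := by
        rw [map_mul, map_mul, S.hg3 y₁]; group
      rw [this]
      exact comm_mem S (hy₂.mul hy₃) hy₁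
  -- trace identity
  have htr : ∀ b ∈ B, cm y₁ b * (cm (g y₁) b * cm (g (g y₁)) b) = 1 := by
    intro b hb
    rw [← cm_mul_left S _ hy₃ hb, ← cm_mul_left S _ (hy₂.mul hy₃) hb]
    exact cm_of_mem S hp hb
  have c2 : cm (g y₁) (g k) = 1 := by rw [cm_g, c1k, map_one]
  have hwB : cm y₁ (g k) ∈ B := cm_mem S y₁ hgkB
  have hw2 : cm y₁ (g k) * cm y₁ (g k) = 1 := cm_sq S hy₁ hgkB
  have c1ggk : cm y₁ (g (g k)) = cm y₁ (g k) := by
    have hn := norm_eq_one S hkB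
    have h1 : cm y₁ (k * g k * g (g k)) = 1 := by rw [hn, cm_one]
    rw [cm_mul_right S y₁ (B.mul_mem hkB hgkB) hggkB, cm_mul_right S y₁ hkB hgkB, c1k,
      one_mul] at h1
    calc cm y₁ (g (g k)) = (cm y₁ (g k) * cm y₁ (g k)) * cm y₁ (g (g k)) := by rw [hw2, one_mul]
      _ = cm y₁ (g k) * (cm y₁ (g k) * cm y₁ (g (g k))) := by group
      _ = cm y₁ (g k) := by rw [h1, mul_one]
  have c3 : cm (g (g y₁)) (g k) = g (g (cm y₁ (g k))) := by
    have h := (cm_g g (g y₁) (g (g (g k)))).trans (congrArg g (cm_g g y₁ (g (g k))))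
    rw [S.hg3 (g k), c1ggk] at h
    exact h
  have hw1 : cm y₁ (g k) = 1 := by
    have h1 := htr (g k) hgkB
    rw [c2, one_mul, c3] at h1
    have h2 : g (g (cm y₁ (g k))) = cm y₁ (g k) := by
      apply mul_left_cancel (a := cm y₁ (g k))
      rw [h1, hw2]
    have h3 : g (cm y₁ (g k)) = cm y₁ (g k) := by
      have := S.hg3 (cm y₁ (g k))
      rw [h2] at this
      exact this
    exact S.hfpf _ hwB h3
  apply hy₁B
  apply mem_of_cm S
  intro b hb
  obtain ⟨d, hd, h | h | h | h⟩ := four_classes S hkB hk hb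
  · rw [h]; exact cm_sqarg hy₁ hd
  · rw [h, cm_congr S hy₁ hkB hd, c1k]
  · rw [h, cm_congr S hy₁ hgkB hd, hw1]
  · rw [h, cm_congr S hy₁ (B.mul_mem hkB hgkB) hd, cm_mul_right S y₁ hkB hgkB, c1k, hw1, one_mul]

/-- Part (B): an involution outside `B`. -/
theorem partB (S : Setup B g m) {y : X} (hy : InY B y) (hyB : y ∉ B) {d : X} (hd : d ∈ B)
    (hyd : y * y = d * d) : ∃ t, InY B t ∧ t ∉ B ∧ t * t = 1 := by
  have hdi : d⁻¹ ∈ B := B.inv_mem hd
  have hs : InY B (y * d⁻¹) := hy.mul (InY.of_mem S hdi)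
  have hsB : y * d⁻¹ ∉ B := by
    intro h
    apply hyB
    have := B.mul_mem h hd
    simpa using this
  have hss : (y * d⁻¹) * (y * d⁻¹) = cm y d⁻¹ := by
    calc (y * d⁻¹) * (y * d⁻¹) = (y * d⁻¹ * y⁻¹ * d⁻¹⁻¹) * (d⁻¹ * (y * y) * d⁻¹) := by group
      _ = (y * d⁻¹ * y⁻¹ * d⁻¹⁻¹) * (d⁻¹ * (d * d) * d⁻¹) := by rw [hyd]
      _ = cm y d⁻¹ := by unfold cm; group
  obtain ⟨f, hf, hwf⟩ := S.hV4 _ (cm_mem S y hdi) (cm_sq S hy hdi)
  have hffi : (f * f)⁻¹ ∈ B := B.inv_mem (B.mul_mem hf hf)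
  have hcomm : (y * d⁻¹) * (f * f) = (f * f) * (y * d⁻¹) := hs f hf
  refine ⟨(y * d⁻¹) * (f * f)⁻¹, hs.mul (InY.of_mem S hffi), ?_, ?_⟩
  · intro h
    apply hsB
    have := B.mul_mem h (B.mul_mem hf hf)
    rwa [inv_mul_cancel_right] at this
  · calc (y * d⁻¹) * (f * f)⁻¹ * ((y * d⁻¹) * (f * f)⁻¹)
        = (y * d⁻¹) * (f * f)⁻¹ * ((y * d⁻¹) * (f * f)) * (f * f)⁻¹ * (f * f)⁻¹ := by group
      _ = (y * d⁻¹) * (f * f)⁻¹ * ((f * f) * (y * d⁻¹)) * (f * f)⁻¹ * (f * f)⁻¹ := by rw [hcomm]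
      _ = ((y * d⁻¹) * (y * d⁻¹)) * ((f * f) * (f * f))⁻¹ := by group
      _ = 1 := by rw [hss, hwf, mul_inv_cancel]


/-- conjugates of an involution `t ∈ Y` lie in `t Ω₁(B)`. -/
theorem conj_invol (S : Setup B g m) {t : X} (ht : InY B t) (htt : t * t = 1) (x : X) :
    ∃ v ∈ B, v * v = 1 ∧ x * t * x⁻¹ = t * v := by
  have hbB : t⁻¹ * (x * t * x⁻¹) ∈ B := by
    apply S.hsc
    intro b' hb'
    obtain ⟨d, hd, hxd⟩ := S.hmod x⁻¹ b' hb'
    rw [inv_inv] at hxd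
    have h1 : t * (b' * (d * d)) * t⁻¹ = cm t b' * (b' * (d * d)) := by
      rw [conj_eq, cm_congr S ht hb' hd]
    have hc : x * cm t b' = cm t b' * x := cm_central S ht hb' x
    have h2 : (x * t * x⁻¹) * b' * (x * t * x⁻¹)⁻¹ = t * b' * t⁻¹ := by
      calc (x * t * x⁻¹) * b' * (x * t * x⁻¹)⁻¹
          = x * (t * (x⁻¹ * b' * x) * t⁻¹) * x⁻¹ := by group
        _ = x * (cm t b' * (b' * (d * d))) * x⁻¹ := by rw [hxd, h1]
        _ = (x * cm t b') * (b' * (d * d)) * x⁻¹ := by group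
        _ = (cm t b' * x) * (x⁻¹ * b' * x) * x⁻¹ := by rw [hc, hxd]
        _ = cm t b' * b' := by group
        _ = t * b' * t⁻¹ := (conj_eq t b').symm
    calc t⁻¹ * (x * t * x⁻¹) * b'
        = t⁻¹ * ((x * t * x⁻¹) * b' * (x * t * x⁻¹)⁻¹) * (x * t * x⁻¹) := by group
      _ = t⁻¹ * (t * b' * t⁻¹) * (x * t * x⁻¹) := by rw [h2]
      _ = b' * (t⁻¹ * (x * t * x⁻¹)) := by group
  have hxt : x * t * x⁻¹ = t * (t⁻¹ * (x * t * x⁻¹)) := by group
  generalize t⁻¹ * (x * t * x⁻¹) = b at hbB hxt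
  have h1 : (t * b) * (t * b) = 1 := by
    rw [← hxt]
    calc x * t * x⁻¹ * (x * t * x⁻¹) = x * (t * t) * x⁻¹ := by group
      _ = 1 := by rw [htt]; group
  have h2 : (t * b) * (t * b) = cm t b * (b * b) := by
    calc (t * b) * (t * b) = (t * b * t⁻¹) * (t * t) * b := by group
      _ = (cm t b * b) * 1 * b := by rw [conj_eq, htt]
      _ = cm t b * (b * b) := by group
  rw [h2] at h1
  have h3 : (b * b) * (b * b) = 1 := by
    have hcc := cm_sq S ht hbB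
    have : b * b = (cm t b)⁻¹ := eq_inv_of_mul_eq_one_right h1
    rw [this, ← mul_inv_rev, hcc, inv_one]
  obtain ⟨d, hd, hbd⟩ := S.hΩ2 b hbB h3
  have h4 : cm t b = 1 := by rw [hbd]; exact cm_sqarg ht hd
  rw [h4, one_mul] at h1
  exact ⟨b, hbB, h1, hxt⟩

theorem V_mul (S : Setup B g m) {v₁ v₂ : X} (h₁ : v₁ ∈ B) (h₁' : v₁ * v₁ = 1) (h₂ : v₂ ∈ B)
    (h₂' : v₂ * v₂ = 1) : v₁ * v₂ ∈ B ∧ (v₁ * v₂) * (v₁ * v₂) = 1 := by
  refine ⟨B.mul_mem h₁ h₂, ?_⟩
  have hc : v₂ * v₁ = v₁ * v₂ := S.hBa v₂ h₂ v₁ h₁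
  calc (v₁ * v₂) * (v₁ * v₂) = v₁ * (v₂ * v₁) * v₂ := by group
    _ = v₁ * (v₁ * v₂) * v₂ := by rw [hc]
    _ = (v₁ * v₁) * (v₂ * v₂) := by group
    _ = 1 := by rw [h₁', h₂', one_mul]

theorem tv_sq (S : Setup B g m) {t : X} (htt : t * t = 1) {v : X} (hv : v ∈ B) (hv' : v * v = 1) :
    (t * v) * (t * v) = 1 := by
  have hc : t * v = v * t := S.hVc v hv hv' t
  calc (t * v) * (t * v) = t * (v * t) * v := by group
    _ = t * (t * v) * v := by rw [hc]
    _ = (t * t) * (v * v) := by group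
    _ = 1 := by rw [htt, hv', one_mul]

/-- the subgroup `Ω₁(B) ∪ t Ω₁(B)`. -/
def Esub (S : Setup B g m) (t : X) (htt : t * t = 1) : Subgroup X where
  carrier := {e | ∃ v ∈ B, v * v = 1 ∧ (e = v ∨ e = t * v)}
  one_mem' := ⟨1, B.one_mem, mul_one 1, Or.inl rfl⟩
  mul_mem' := by
    rintro a b ⟨v₁, h₁, h₁', ha⟩ ⟨v₂, h₂, h₂', hb⟩
    obtain ⟨hm, hm'⟩ := V_mul S h₁ h₁' h₂ h₂'
    refine ⟨v₁ * v₂, hm, hm', ?_⟩
    have hc : t * v₁ = v₁ * t := S.hVc v₁ h₁ h₁' t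
    rcases ha with rfl | rfl <;> rcases hb with rfl | rfl
    · left; rfl
    · right
      calc a * (t * v₂) = (a * t) * v₂ := by group
        _ = (t * a) * v₂ := by rw [hc]
        _ = t * (a * v₂) := by group
    · right; group
    · left
      calc (t * v₁) * (t * v₂) = t * (v₁ * t) * v₂ := by group
        _ = t * (t * v₁) * v₂ := by rw [hc]
        _ = (t * t) * (v₁ * v₂) := by group
        _ = v₁ * v₂ := by rw [htt, one_mul]
  inv_mem' := by
    rintro a ⟨v, hv, hv', ha⟩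
    have haa : a * a = 1 := by
      rcases ha with rfl | rfl
      · exact hv'
      · exact tv_sq S htt hv hv'
    have : a⁻¹ = a := inv_eq_of_mul_eq_one_right haa
    rw [this]
    exact ⟨v, hv, hv', ha⟩

/-- Part (C): no involution in `Y ∖ B`. -/
theorem partC [Finite X] (S : Setup B g m) {t : X} (ht : InY B t) (htB : t ∉ B) (htt : t * t = 1) :
    False := by
  obtain ⟨u, huB, hu2, hu1⟩ := S.hu
  have hEn : (Esub S t htt).Normal := by
    constructor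
    rintro a ⟨v, hv, hv', ha⟩ x
    rcases ha with rfl | rfl
    · refine ⟨a, hv, hv', Or.inl ?_⟩
      rw [S.hVc a hv hv' x]; group
    · obtain ⟨v', hv'B, hv'2, hxt⟩ := conj_invol S ht htt x
      obtain ⟨hm, hm'⟩ := V_mul S hv'B hv'2 hv hv'
      refine ⟨v' * v, hm, hm', Or.inr ?_⟩
      calc x * (t * v) * x⁻¹ = (x * t * x⁻¹) * ((x * v) * x⁻¹) := by group
        _ = (t * v') * ((v * x) * x⁻¹) := by rw [hxt, S.hVc v hv hv' x]
        _ = t * (v' * v) := by group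
  have hEa : Ab (Esub S t htt) := by
    rintro a ⟨v₁, h₁, h₁', ha⟩ b ⟨v₂, h₂, h₂', hb⟩
    have hc1 : ∀ z : X, z * v₁ = v₁ * z := S.hVc v₁ h₁ h₁'
    have hc2 : ∀ z : X, z * v₂ = v₂ * z := S.hVc v₂ h₂ h₂'
    rcases ha with rfl | rfl <;> rcases hb with rfl | rfl
    · exact (hc2 a).symm ▸ rfl
    · exact (hc1 (t * v₂)).symm
    · exact hc2 (t * v₁)
    · calc (t * v₁) * (t * v₂) = t * (v₁ * t) * v₂ := by group
        _ = t * (t * v₁) * v₂ := by rw [hc1 t]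
        _ = t * t * (v₁ * v₂) := by group
        _ = t * t * (v₂ * v₁) := by rw [hc1 v₂]
        _ = t * (t * v₂) * v₁ := by group
        _ = t * (v₂ * t) * v₁ := by rw [hc2 t]
        _ = (t * v₂) * (t * v₁) := by group
  have hVE : ∀ v ∈ B, v * v = 1 → v ∈ Esub S t htt := fun v hv hv' => ⟨v, hv, hv', Or.inl rfl⟩
  have htE : t ∈ Esub S t htt := ⟨1, B.one_mem, mul_one 1, Or.inr (mul_one t).symm⟩
  rcases V4 S huB hu2 hu1 _ hEn hEa hVE htE htt with h | h | h | h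
  · exact htB (h ▸ B.one_mem)
  · exact htB (h ▸ huB)
  · exact htB (h ▸ S.hgB u huB)
  · exact htB (h ▸ B.mul_mem huB (S.hgB u huB))

/-- K13b from the cleaned-up hypotheses. -/
theorem T1_free_of_setup [Finite X] (S : Setup B g m) (x : X) (hx : InY B x) : x ∈ B := by
  by_contra hxB
  obtain ⟨y, hy, hyB, d, hd, hyd⟩ := partA S hx hxB
  obtain ⟨t, ht, htB, htt⟩ := partB S hy hyB hd hyd
  exact partC S ht htB htt

end basics


theorem pow_four_eq (f : X) : f ^ 4 = (f * f) * (f * f) := by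
  rw [show (4 : ℕ) = 2 + 2 from rfl, pow_add, pow_two]

theorem pow_two_pow_add_two (b : X) (n : ℕ) :
    b ^ (2 ^ (n + 2)) = (b ^ (2 ^ n) * b ^ (2 ^ n)) * (b ^ (2 ^ n) * b ^ (2 ^ n)) := by
  rw [pow_add, pow_mul, show (2 : ℕ) ^ 2 = 4 from rfl, pow_four_eq]

theorem pow_two_pow_succ (b : X) (n : ℕ) : b ^ (2 ^ (n + 1)) = b ^ (2 ^ n) * b ^ (2 ^ n) := by
  rw [pow_succ, pow_mul, pow_two]

/-- **K13b** (`T1_free`): if `B` has exponent at least 8 then `C_X(B²) = B`. -/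
theorem T1_free [Finite X] {A : Subgroup (MulAut X)} (h : Ctx X A) (hA3 : Nat.card A = 3)
    (B : Subgroup X) (hBn : B.Normal) (hBa : Ab B) (hBi : Inv A B) (hfpf : Fpf A B)
    (hsc : ∀ x : X, (∀ b ∈ B, x * b = b * x) → x ∈ B) (h8 : ∃ b ∈ B, b ^ 4 ≠ 1)
    (hmod : ∀ x : X, ∀ b ∈ B, ∃ d ∈ B, x * b * x⁻¹ = b * (d * d))
    (hhom : ∀ c : ℕ, (∀ b ∈ B, b ^ (2 ^ c) = 1) → (∃ b ∈ B, b ^ (2 ^ (c - 1)) ≠ 1) →
      ∀ j : ℕ, j ≤ c → ∀ y ∈ B, ((∃ b ∈ B, y = b ^ (2 ^ j)) ↔ y ^ (2 ^ (c - j)) = 1))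
    (hN1 : ∀ y : X, (∀ b ∈ B, y * (b * b) = (b * b) * y) → (∀ φ ∈ A, y⁻¹ * φ y ∈ B) → y ∈ B) :
    ∀ x : X, (∀ b ∈ B, x * (b * b) = (b * b) * x) → x ∈ B := by
  obtain ⟨g, hgA, hg3, hgen⟩ := exists_gen3 hA3
  obtain ⟨c, hc3, hc, hc'⟩ := exists_exp h.h2 B h8
  have H := hhom c hc hc'
  obtain ⟨n, rfl⟩ : ∃ n, c = n + 3 := ⟨c - 3, by omega⟩
  have e1 : n + 3 - 1 = n + 2 := by omega
  have e2 : n + 3 - (n + 2) = 1 := by omega
  rw [e1] at hc'
  have H1 := H 1 (by omega)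
  have H2 := H (n + 2) (by omega)
  rw [e1] at H1
  rw [e2] at H2
  clear H
  -- squares of `2 ^ (n + 2)`-th powers are trivial
  have hm2 : ∀ b ∈ B, b ^ (2 ^ (n + 2)) * b ^ (2 ^ (n + 2)) = 1 := by
    intro b hb
    rw [← pow_two_pow_succ]
    exact hc b hb
  -- elements of square one are `2 ^ (n + 2)`-th powers
  have hVpow : ∀ v ∈ B, v * v = 1 → ∃ b ∈ B, v = b ^ (2 ^ (n + 2)) := by
    intro v hv hv2
    apply (H2 v hv).mpr
    rw [pow_one, pow_two, hv2]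
  have S : Setup B g (2 ^ (n + 2)) :=
    { hBn := hBn
      hBa := hBa
      hgB := hBi g hgA
      hg3 := hg3
      hfpf := by
        intro b hb hgb
        apply hfpf b hb
        intro φ hφ
        rcases hgen φ hφ with rfl | rfl | rfl
        · rfl
        · exact hgb
        · rw [MulAut.mul_apply, hgb, hgb]
      hsc := hsc
      hmod := hmod
      hVc := by
        intro v hv hv2 x
        obtain ⟨b, hb, rfl⟩ := hVpow v hv hv2
        obtain ⟨d, hd, hxd⟩ := hmod x b hb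
        have hcomm : Commute b (d * d) := hBa b hb _ (B.mul_mem hd hd)
        have h1 : x * b ^ (2 ^ (n + 2)) * x⁻¹ = b ^ (2 ^ (n + 2)) := by
          rw [← conj_pow, hxd, hcomm.mul_pow, ← pow_two, ← pow_mul, ← pow_succ', hc d hd, mul_one]
        calc x * b ^ (2 ^ (n + 2)) = (x * b ^ (2 ^ (n + 2)) * x⁻¹) * x := by group
          _ = b ^ (2 ^ (n + 2)) * x := by rw [h1]
      hΩ2 := by
        intro b hb hb4
        have : b ^ (2 ^ (n + 2)) = 1 := by
          rw [pow_add, mul_comm, pow_mul, show (2 : ℕ) ^ 2 = 4 from rfl, pow_four_eq, hb4, one_pow]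
        obtain ⟨d, hd, hbd⟩ := (H1 b hb).mpr this
        exact ⟨d, hd, by rw [hbd, pow_one, pow_two]⟩
      hV4 := by
        intro w hw hw2
        obtain ⟨b, hb, rfl⟩ := hVpow w hw hw2
        exact ⟨b ^ (2 ^ n), B.pow_mem hb _, pow_two_pow_add_two b n⟩
      hm2 := hm2
      hmker := by
        intro b hb
        rw [← H1 b hb]
        constructor
        · rintro ⟨d, hd, hbd⟩
          exact ⟨d, hd, by rw [hbd, pow_one, pow_two]⟩
        · rintro ⟨d, hd, hbd⟩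
          exact ⟨d, hd, by rw [hbd, pow_one, pow_two]⟩
      hu := by
        obtain ⟨b, hb, hb1⟩ := hc'
        exact ⟨b ^ (2 ^ (n + 2)), B.pow_mem hb _, hm2 b hb, hb1⟩
      hR := h.hR
      hN1 := by
        intro y hy hgy
        apply hN1 y hy
        intro φ hφ
        rcases hgen φ hφ with rfl | rfl | rfl
        · rw [MulAut.one_apply, inv_mul_cancel]; exact B.one_mem
        · exact hgy
        · have h1 : g (y⁻¹ * g y) ∈ B := hBi g hgA _ hgy
          have h2 := B.mul_mem hgy h1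
          rw [map_mul, map_inv] at h2
          rw [MulAut.mul_apply]
          have : y⁻¹ * g (g y) = y⁻¹ * g y * ((g y)⁻¹ * g (g y)) := by group
          rw [this]
          exact h2 }
  intro x hx
  exact T1_free_of_setup S x hx

end Cfsg.Agent.Lib.Helper47.T1904
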