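import Cfsg.Agent.Lib.Helper45.SL2CountOdd
import Cfsg.Agent.Lib.Helper45.SL2UnipSum
import Cfsg.Agent.Lib.Helper45.SL2TableNat

set_option autoImplicit false

/-!
# Sums of irreducible characters of `SL₂(q)` over the upper unitriangular subgroup

Built on helper45's character table of `SL₂(q)`.
-/

namespace Cfsg.Agent.Lib.Helper47

open Matrix Cfsg Cfsg.Agent.Lib.Helper45

universe u

variable {F : Type u} [Field F]

theorem slT_injective : Function.Injective (slT : F → Matrix.SpecialLinearGroup (Fin 2) F) := by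
  intro a b h
  have := congrArg (fun A : Matrix.SpecialLinearGroup (Fin 2) F =>
    (A : Matrix (Fin 2) (Fin 2) F) 0 1) h
  simpa using this

/-- the sum over the unitriangular subgroup, written with `slT` -/
theorem sum_unitriangular_eq [Fintype F] [DecidableEq F]
    [Fintype (Matrix.SpecialLinearGroup (Fin 2) F)]
    (χ : Matrix.SpecialLinearGroup (Fin 2) F → ℂ) :
    (∑ g : Matrix.SpecialLinearGroup (Fin 2) F,
      if (g : Matrix (Fin 2) (Fin 2) F) 1 0 = 0 ∧ (g : Matrix (Fin 2) (Fin 2) F) 0 0 = 1 ∧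
        (g : Matrix (Fin 2) (Fin 2) F) 1 1 = 1 then χ g else 0) = ∑ y : F, χ (slT y) := by
  classical
  rw [← Finset.sum_filter]
  have h : (Finset.univ.filter (fun g : Matrix.SpecialLinearGroup (Fin 2) F =>
      (g : Matrix (Fin 2) (Fin 2) F) 1 0 = 0 ∧ (g : Matrix (Fin 2) (Fin 2) F) 0 0 = 1 ∧
        (g : Matrix (Fin 2) (Fin 2) F) 1 1 = 1)) = Finset.univ.image slT := by
    ext g
    simp only [Finset.mem_filter, Finset.mem_univ, true_and, Finset.mem_image]
    constructor
    · rintro ⟨h10, h00, h11⟩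
      exact ⟨_, (slT_eq_of_entries g h00 h11 h10).symm⟩
    · rintro ⟨y, rfl⟩
      simp
  rw [h, Finset.sum_image (fun a _ b _ hab => slT_injective hab)]

/-- conjugating `slT t` by an element of `GL₂` gives an `SL₂`-conjugate of `slT (t / det)` -/
theorem conjS_slT (y : GL (Fin 2) F) (t : F) :
    conjS y (slT t) = slPart y *
      slT (t * ((Matrix.GeneralLinearGroup.det y)⁻¹ : Fˣ)) * (slPart y)⁻¹ := by
  apply Matrix.SpecialLinearGroup.toGL_injective
  change slι _ = slι _
  rw [slι_conjS, map_mul, map_mul, map_inv, slι_slPart]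
  set d := Matrix.GeneralLinearGroup.det y with hd
  have key : glD d * slι (slT t) = slι (slT (t * ((d⁻¹ : Fˣ) : F))) * glD d := by
    apply Units.ext
    rw [Units.val_mul, Units.val_mul, glD, borelMk_coe]
    change _ * (slT t : Matrix (Fin 2) (Fin 2) F) =
      ((slT (t * ((d⁻¹ : Fˣ) : F)) : Matrix.SpecialLinearGroup (Fin 2) F) :
        Matrix (Fin 2) (Fin 2) F) * _
    rw [slT_coe, slT_coe]
    ext i j
    fin_cases i <;> fin_cases j <;> simp [Matrix.mul_apply, Fin.sum_univ_two]
  have key' : slι (slT t) = (glD d)⁻¹ * slι (slT (t * ((d⁻¹ : Fˣ) : F))) * glD d := by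
    rw [mul_assoc, ← key, inv_mul_cancel_left]
  rw [key']
  group

/-- the sum of a class function of `SL₂` over the unitriangular subgroup is invariant under
conjugation by `GL₂` -/
theorem sum_slT_conjS [Fintype F] {θ : Matrix.SpecialLinearGroup (Fin 2) F → ℂ}
    (hθ : IsClassFunction (Matrix.SpecialLinearGroup (Fin 2) F) θ) (y : GL (Fin 2) F) :
    ∑ t : F, θ (conjS y (slT t)) = ∑ t : F, θ (slT t) := by
  have h1 : ∀ t : F, θ (conjS y (slT t)) =
      θ (slT (t * ((Matrix.GeneralLinearGroup.det y)⁻¹ : Fˣ))) := by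
    intro t
    rw [conjS_slT]
    exact hθ _ _
  simp_rw [h1]
  have hne : (((Matrix.GeneralLinearGroup.det y)⁻¹ : Fˣ) : F) ≠ 0 := Units.ne_zero _
  exact Fintype.sum_equiv (Equiv.mulRight₀ _ hne) _ _ (fun t => rfl)

end Cfsg.Agent.Lib.Helper47
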